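import Mathlib

/-!
# A split group with an elementary abelian normal subgroup of order sixteen and the full automizer
-/

set_option autoImplicit false
set_option maxRecDepth 100000

namespace Cfsg.Agent.Fus.Transv

/-- Addition of four-bit numbers. -/
def x16 (j k : Fin 16) : Fin 16 := ⟨j.1 ^^^ k.1, Nat.xor_lt_two_pow (n := 4) j.2 k.2⟩

theorem x16_facts : (∀ j k, x16 j k = x16 k j) ∧ (∀ j, x16 j 0 = j) ∧ (∀ j, x16 j j = 0) ∧
    (∀ j k, x16 j (x16 j k) = k) := by decide +kernel

/-- An affine permutation of sixteen points. -/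
def IsAff16 (σ : Equiv.Perm (Fin 16)) : Prop := ∀ j k, x16 (σ (x16 j k)) (σ 0) = x16 (σ j) (σ k)

/-- The bases of sixteen points. -/
def bases16 : List (Fin 16 × Fin 16 × Fin 16 × Fin 16) :=
  ((List.finRange 16).filter fun a => decide (a ≠ 0)).flatMap fun a =>
    ((List.finRange 16).filter fun b => decide (b ∉ [0, a])).flatMap fun b =>
      ((List.finRange 16).filter fun c => decide (c ∉ [0, a, b, x16 a b])).flatMap fun c =>
        ((List.finRange 16).filter fun d =>
          decide (d ∉ [0, a, b, x16 a b, c, x16 a c, x16 b c, x16 a (x16 b c)])).map fun d => (a, b, c, d)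

theorem bases16_length : bases16.length = 20160 := by decide +kernel

theorem card_aff_le : Nat.card {σ : Equiv.Perm (Fin 16) // IsAff16 σ} ≤ 322560 := by
  classical
  obtain ⟨hc, h0, hs, hcan⟩ := x16_facts
  let lin : Equiv.Perm (Fin 16) → Fin 16 → Fin 16 := fun σ k => x16 (σ 0) (σ k)
  let f : {σ : Equiv.Perm (Fin 16) // IsAff16 σ} → Fin 16 × Fin 16 × Fin 16 × Fin 16 × Fin 16 :=
    fun σ => (σ.1 0, lin σ 1, lin σ 2, lin σ 4, lin σ 8)
  have hlin : ∀ σ, IsAff16 σ → (∀ j k, lin σ (x16 j k) = x16 (lin σ j) (lin σ k)) := by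
    intro σ hσ j k
    have h1 : σ (x16 j k) = x16 (σ 0) (x16 (σ j) (σ k)) := by rw [← hσ j k, hc (σ (x16 j k)), hcan]
    have key : ∀ a b c : Fin 16, x16 a (x16 a (x16 b c)) = x16 (x16 a b) (x16 a c) := by decide +kernel
    show x16 (σ 0) (σ (x16 j k)) = x16 (x16 (σ 0) (σ j)) (x16 (σ 0) (σ k))
    rw [h1, key]
  have hinjl : ∀ σ, Function.Injective (lin σ) := fun σ a b h => σ.injective (by
    have := congrArg (x16 (σ 0)) h
    exact (hcan (σ 0) (σ a)).symm.trans (this.trans (hcan (σ 0) (σ b))))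
  have hl0 : ∀ σ, lin σ 0 = 0 := fun σ => hs _
  have hrange : ∀ σ : {σ : Equiv.Perm (Fin 16) // IsAff16 σ},
      f σ ∈ (List.finRange 16).flatMap fun t => bases16.map fun b => (t, b) := by
    intro σ
    simp only [List.mem_flatMap, List.mem_map, List.mem_finRange, true_and]
    refine ⟨σ.1 0, (lin σ 1, lin σ 2, lin σ 4, lin σ 8), ?_, rfl⟩
    have hne : ∀ a b, a ≠ b → lin σ a ≠ lin σ b := fun a b h e => h (hinjl σ e)
    have hne0 : ∀ a, a ≠ 0 → lin σ a ≠ 0 := fun a h e => hne a 0 h (e.trans (hl0 σ).symm)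
    have e3 : x16 (lin σ 1) (lin σ 2) = lin σ 3 := (hlin σ σ.2 1 2).symm
    have e5 : x16 (lin σ 1) (lin σ 4) = lin σ 5 := (hlin σ σ.2 1 4).symm
    have e6 : x16 (lin σ 2) (lin σ 4) = lin σ 6 := (hlin σ σ.2 2 4).symm
    have e7 : x16 (lin σ 1) (lin σ 6) = lin σ 7 := (hlin σ σ.2 1 6).symm
    simp only [bases16, List.mem_flatMap, List.mem_map, List.mem_filter, List.mem_finRange, true_and,
      decide_eq_true_eq]
    refine ⟨lin σ 1, ?_, lin σ 2, ?_, lin σ 4, ?_, lin σ 8, ?_, rfl⟩
    · exact hne0 1 (by decide)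
    · simp only [List.mem_cons, List.not_mem_nil, or_false, not_or]
      exact ⟨hne0 2 (by decide), hne 2 1 (by decide)⟩
    · simp only [List.mem_cons, List.not_mem_nil, or_false, not_or, e3]
      refine ⟨hne0 4 (by decide), hne 4 1 (by decide), hne 4 2 (by decide), hne 4 3 (by decide)⟩
    · simp only [List.mem_cons, List.not_mem_nil, or_false, not_or, e3, e5, e6, e7]
      refine ⟨hne0 8 (by decide), hne 8 1 (by decide), hne 8 2 (by decide), hne 8 3 (by decide), hne 8 4 (by decide),
        hne 8 5 (by decide), hne 8 6 (by decide), hne 8 7 (by decide)⟩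
  have hinj : Function.Injective f := by
    intro σ τ h
    simp only [f, Prod.mk.injEq] at h
    obtain ⟨e0, e1, e2, e4, e8⟩ := h
    have hdec : ∀ k : Fin 16, x16 (if k.1.testBit 0 then 1 else 0) (x16 (if k.1.testBit 1 then 2 else 0)
        (x16 (if k.1.testBit 2 then 4 else 0) (if k.1.testBit 3 then 8 else 0))) = k := by decide +kernel
    have hlk : ∀ k, lin σ k = lin τ k := by
      intro k
      rw [← hdec k, hlin σ σ.2, hlin σ σ.2, hlin σ σ.2, hlin τ τ.2, hlin τ τ.2, hlin τ τ.2]
      congr 1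
      · split_ifs <;> simp [e1, hl0]
      congr 1
      · split_ifs <;> simp [e2, hl0]
      congr 1
      · split_ifs <;> simp [e4, hl0]
      · split_ifs <;> simp [e8, hl0]
    refine Subtype.ext (Equiv.ext fun k => ?_)
    have := congrArg (x16 (σ.1 0)) (hlk k)
    simp only [lin, hcan] at this
    rw [this, e0, hcan]
  set l := (List.finRange 16).flatMap fun t => bases16.map fun b => (t, b) with hl
  have hlen : l.length = 322560 := by
    rw [hl, List.length_flatMap]
    simp [bases16_length]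
  let g : {σ : Equiv.Perm (Fin 16) // IsAff16 σ} → {x // x ∈ l.toFinset} := fun σ =>
    ⟨f σ, List.mem_toFinset.2 (hrange σ)⟩
  calc Nat.card {σ : Equiv.Perm (Fin 16) // IsAff16 σ} ≤ Nat.card {x // x ∈ l.toFinset} :=
        Nat.card_le_card_of_injective g fun a b h => hinj (congrArg Subtype.val h)
    _ ≤ 322560 := by rw [Nat.card_eq_fintype_card, Fintype.card_coe, ← hlen]; exact List.toFinset_card_le l

/-- The data of such a group. -/
structure Aff16 {G : Type*} [Group G] (e : Fin 16 → G) (B : Subgroup G) : Prop where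
  /-- the product of translations -/
  mul : ∀ j k, e j * e k = e (x16 j k)
  /-- the translations differ -/
  inj : Function.Injective e
  /-- normality -/
  normal : ∀ g j, ∃ k, g * e j * g⁻¹ = e k
  /-- self-centralisation -/
  cent : ∀ g, (∀ j, g * e j = e j * g) → ∃ k, g = e k
  /-- trivial meet -/
  meet : ∀ j, e j ∈ B → j = 0
  /-- the complement -/
  split : ∀ g, ∃ j, e j * g ∈ B
  /-- the order -/
  card : Nat.card G = 322560

namespace Aff16

variable {G : Type*} [Group G] {e : Fin 16 → G} {B : Subgroup G} (A : Aff16 e B)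
include A

theorem e_zero : e 0 = 1 := by
  have := A.mul 0 0
  rw [x16_facts.2.1] at this
  exact left_eq_mul.1 this.symm

theorem e_inv (j : Fin 16) : (e j)⁻¹ = e j :=
  inv_eq_of_mul_eq_one_left (by rw [A.mul, x16_facts.2.2.1, A.e_zero])

theorem unique {g : G} {j k : Fin 16} (hj : e j * g ∈ B) (hk : e k * g ∈ B) : j = k := by
  have h := B.mul_mem hj (B.inv_mem hk)
  rw [mul_inv_rev, ← mul_assoc, mul_inv_cancel_right, A.e_inv, A.mul] at h
  have h0 := A.meet _ h
  rw [← x16_facts.2.2.2 j k, h0, x16_facts.2.1]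

/-- The translation part. -/
noncomputable def tr (g : G) : Fin 16 := (A.split g).choose

theorem tr_spec (g : G) : e (A.tr g) * g ∈ B := (A.split g).choose_spec

theorem tr_eq {g : G} {j : Fin 16} (h : e j * g ∈ B) : A.tr g = j := A.unique (A.tr_spec g) h

/-- The action on the cosets of the complement. -/
noncomputable def act (g : G) (j : Fin 16) : Fin 16 := A.tr (g * e j)

theorem act_one (j : Fin 16) : A.act 1 j = j :=
  A.tr_eq (by rw [one_mul, A.mul, x16_facts.2.2.1, A.e_zero]; exact B.one_mem)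

theorem act_mul (g k : G) (j : Fin 16) : A.act (g * k) j = A.act g (A.act k j) := by
  refine A.tr_eq ?_
  have h := B.mul_mem (A.tr_spec (g * e (A.act k j))) (A.tr_spec (k * e j))
  rw [show A.tr (g * e (A.act k j)) = A.act g (A.act k j) from rfl, show A.tr (k * e j) = A.act k j from rfl] at h
  convert h using 1
  generalize A.act g (A.act k j) = m
  generalize A.act k j = n
  rw [show e m * (g * e n) * (e n * (k * e j)) = e m * (g * (e n * e n) * k * e j) by group, A.mul, x16_facts.2.2.1,
    A.e_zero, mul_one]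

/-- The permutation representation. -/
noncomputable def hom : G →* Equiv.Perm (Fin 16) where
  toFun g :=
    { toFun := A.act g
      invFun := A.act g⁻¹
      left_inv := fun j => by rw [← A.act_mul, inv_mul_cancel, A.act_one]
      right_inv := fun j => by rw [← A.act_mul, mul_inv_cancel, A.act_one] }
  map_one' := Equiv.ext A.act_one
  map_mul' g k := Equiv.ext (A.act_mul g k)

theorem hom_aff (g : G) : IsAff16 (A.hom g) := by
  intro j k
  show x16 (A.act g (x16 j k)) (A.act g 0) = x16 (A.act g j) (A.act g k)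
  obtain ⟨hc, h0, hs, hcan⟩ := x16_facts
  obtain ⟨t, ht⟩ : ∃ t, A.tr g = t := ⟨_, rfl⟩
  have hb := ht ▸ A.tr_spec g
  set b := e t * g with hbdef
  have hg : g = e t * b := by rw [hbdef, ← mul_assoc, A.mul, hs, A.e_zero, one_mul]
  have hact : ∀ j, ∃ m, b * e j * b⁻¹ = e m ∧ A.act g j = x16 t m := fun j => by
    obtain ⟨m, hm⟩ := A.normal b j
    refine ⟨m, hm, A.tr_eq ?_⟩
    have : e (x16 t m) * (g * e j) = b := by
      rw [← A.mul, hg, show e t * b * e j = e t * (b * e j * b⁻¹) * b by group, hm,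
        show e t * e m * (e t * e m * b) = e t * e m * (e t * e m) * b by group, A.mul, A.mul, hs, A.e_zero, one_mul]
    rw [this]; exact hb
  obtain ⟨m1, e1, a1⟩ := hact j
  obtain ⟨m2, e2, a2⟩ := hact k
  obtain ⟨m3, e3, a3⟩ := hact (x16 j k)
  obtain ⟨m0, e4, a4⟩ := hact 0
  have hm3 : m3 = x16 m1 m2 := A.inj (by rw [← e3, ← A.mul j k, ← A.mul m1 m2, ← e1, ← e2]; group)
  have hm0 : m0 = 0 := A.inj (by rw [← e4, A.e_zero]; group)
  rw [a1, a2, a3, a4, hm3, hm0, h0]
  have key : ∀ t a b : Fin 16, x16 (x16 t (x16 a b)) t = x16 (x16 t a) (x16 t b) := by decide +kernel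
  exact key t m1 m2

theorem hom_injective : Function.Injective A.hom := by
  refine (injective_iff_map_eq_one A.hom).2 fun g hg => ?_
  have hact : ∀ j, A.act g j = j := fun j => congrArg (fun σ : Equiv.Perm (Fin 16) => σ j) hg
  have hb : g ∈ B := by
    have := A.tr_spec (g * e 0)
    rw [show A.tr (g * e 0) = 0 from hact 0, A.e_zero, one_mul, mul_one] at this
    exact this
  obtain ⟨k, rfl⟩ := A.cent g fun j => by
    obtain ⟨m, hm⟩ := A.normal g j
    have h1 : e m * (g * e j) ∈ B := by
      rw [show g * e j = (g * e j * g⁻¹) * g by group, hm, ← mul_assoc, A.mul, x16_facts.2.2.1, A.e_zero, one_mul]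
      exact hb
    rw [show g * e j = (g * e j * g⁻¹) * g by group, hm, show j = m from (hact j).symm.trans (A.tr_eq h1)]
  rw [A.meet k hb, A.e_zero]

theorem range_eq : (A.hom.range : Set (Equiv.Perm (Fin 16))) = {σ | IsAff16 σ} := by
  refine Set.eq_of_subset_of_ncard_le (by rintro _ ⟨g, rfl⟩; exact A.hom_aff g) ?_ (Set.toFinite _)
  rw [← Nat.card_coe_set_eq, ← Nat.card_coe_set_eq]
  refine le_trans card_aff_le (le_of_eq ?_)
  rw [← A.card]
  exact Nat.card_congr (MonoidHom.ofInjective A.hom_injective).toEquiv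

/-- Two such groups are isomorphic. -/
theorem iso {G' : Type*} [Group G'] {e' : Fin 16 → G'} {B' : Subgroup G'} (A' : Aff16 e' B') :
    Nonempty (G ≃* G') :=
  ⟨((MonoidHom.ofInjective A.hom_injective).trans (MulEquiv.subgroupCongr
    (SetLike.ext' (A.range_eq.trans A'.range_eq.symm)))).trans (MonoidHom.ofInjective A'.hom_injective).symm⟩

end Aff16

end Cfsg.Agent.Fus.Transv
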