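import Cfsg.Agent.Lib.Fus.Transv.TBound
import Cfsg.Agent.Lib.Spor.Cos.Log

/-!
# The group generated by the pairs is small
-/

set_option autoImplicit false
set_option maxRecDepth 100000

namespace Cfsg.Agent.Fus.Transv

open Cfsg.Agent.Spor.Cos (ev ev_map derivedOk ev_derived)

/-- A group in a pattern: coordinates, two involutions and the chosen options. -/
structure Sit {G : Type*} [Group G] (z : G) (I : ℕ → G) (a b : G) (ta tb : CTree) (Ps : List PData) : Prop where
  /-- coordinates -/
  loc : Loc z I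
  /-- the involutions -/
  pair : Pair I a b ta tb
  /-- the options -/
  good : ∀ P ∈ Ps, PGood z I a b ta tb P

/-- The checks of a pattern. -/
structure PatCert (ta tb : CTree) (Ps : List PData) (P : PData) (T : TData) (rels : List (List ℕ × Cert))
    (C : Cfsg.Agent.Spor.Cos.Log) : Prop where
  /-- the main subgroup -/
  mem : P ∈ Ps
  /-- the evidence -/
  hrel : (rels.all fun e => certOk ta tb Ps e.1 e.2) = true
  /-- the normaliser -/
  hT : T.ok P ta tb = true
  /-- the enumeration -/
  hC : C.Checks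
  /-- six letters -/
  hn : C.n = 6
  /-- the relations -/
  hder : (C.rels.all fun w => derivedOk 6 (rels.map Prod.fst) w) = true
  /-- the subgroup words -/
  hsub : (C.sub.all fun w => T.gens.any fun g => g.1 == w) = true

variable {G G' : Type*} [Group G] [Group G'] {z : G} {I : ℕ → G} {a b : G} {z' : G'} {I' : ℕ → G'} {a' b' : G'}
variable {ta tb : CTree} {Ps : List PData} {P : PData} {T : TData} {rels : List (List ℕ × Cert)}
variable {C : Cfsg.Agent.Spor.Cos.Log}

/-- The letters in two groups at once. -/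
def gPair (I : ℕ → G) (a b : G) (I' : ℕ → G') (a' b' : G') (s : ℕ) : G × G' := (gW I a b s, gW I' a' b' s)

/-- The group generated by the pairs. -/
def pairGrp (I : ℕ → G) (a b : G) (I' : ℕ → G') (a' b' : G') : Subgroup (G × G') :=
  Subgroup.closure {x | ∃ s < 6, gPair I a b I' a' b' s = x}

theorem ev_gPair (I : ℕ → G) (a b : G) (I' : ℕ → G') (a' b' : G') (w : List ℕ) :
    ev (gPair I a b I' a' b') w = TData.pairW I a b I' a' b' w :=
  Prod.ext (ev_map (MonoidHom.fst G G') _ w) (ev_map (MonoidHom.snd G G') _ w)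

/-- The bound. -/
theorem card_pairGrp_le [Finite G] [Finite G'] (S : Sit z I a b ta tb Ps) (S' : Sit z' I' a' b' ta tb Ps)
    (hc : PatCert ta tb Ps P T rels C) :
    Nat.card (pairGrp I a b I' a' b') ≤ C.N * (P.d.A.length * T.keys.toList.length) := by
  set g := gPair I a b I' a' b'
  set K := pairGrp I a b I' a' b'
  have hgK : ∀ s < 6, g s ∈ K := fun s hs => Subgroup.subset_closure ⟨s, hs, rfl⟩
  let g' : ℕ → K := fun s => if h : s < 6 then ⟨g s, hgK s h⟩ else 1
  have hval : ∀ w, (∀ s ∈ w, s < 6) → ((ev g' w : K) : G × G') = ev g w := by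
    intro w hw
    induction w with
    | nil => rfl
    | cons s w ih =>
      show ((g' s : K) : G × G') * _ = g s * _
      rw [ih fun t ht => hw t (List.mem_cons_of_mem _ ht)]
      simp [g', hw s (List.mem_cons_self ..)]
  set T0 := Subgroup.closure {x | ∃ w ∈ T.gens, TData.pairW I a b I' a' b' w.1 = x}
  have hsq : ∀ s, g s * g s = 1 := fun s => Prod.ext (S.pair.gW_sq s) (S'.pair.gW_sq s)
  have hsq' : ∀ s < 6, g' s * g' s = 1 := fun s hs => Subtype.ext (by simp [g', hs, hsq])
  have hgen : Subgroup.closure {x : K | ∃ s < 6, g' s = x} = ⊤ := by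
    have h : {x : K | ∃ s < 6, g' s = x} = ((↑) : K → G × G') ⁻¹' {x | ∃ s < 6, g s = x} := by
      ext x
      refine exists_congr fun s => ⟨fun ⟨hs, e⟩ => ⟨hs, ?_⟩, fun ⟨hs, e⟩ => ⟨hs, Subtype.ext ?_⟩⟩
      · rw [← e]; simp [g', hs]
      · simpa [g', hs] using e
    rw [h]
    exact Subgroup.closure_closure_coe_preimage
  have htl : ∀ w ∈ T.gens, ∀ s ∈ w.1, s < 6 := by
    intro w hw
    have := hc.hT
    simp only [TData.ok, Bool.and_eq_true, List.all_eq_true, Nat.blt_eq] at this
    exact (this.1.2 w hw).1.1.1.1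
  have hder : ∀ w ∈ C.rels, ev g w = 1 := by
    intro w hw
    refine ev_derived (fun s _ => hsq s) (fun r hr => ?_) (List.all_eq_true.1 hc.hder w hw)
    obtain ⟨e, he, rfl⟩ := List.mem_map.1 hr
    have hce := List.all_eq_true.1 hc.hrel e he
    rw [ev_gPair]
    exact Prod.ext (cert_sound S.loc S.pair S.good hce) (cert_sound S'.loc S'.pair S'.good hce)
  have hev : ∀ w, ((ev g' w : K) : G × G') = ev (fun s => ((g' s : K) : G × G')) w := fun w => ev_map K.subtype g' w
  have hlong : ∀ w, ev g w = 1 → (∀ s ∈ w, s < 6) → ev g' w = 1 := fun w h hlt => Subtype.ext ((hval w hlt).trans h)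
  obtain ⟨-, hidx⟩ := C.index_le (g := g') hc.hC (H := T0.subgroupOf K) (by rw [hc.hn]; exact hsq')
    (by rw [hc.hn]; exact hgen) (fun w hw => by
      have hw' := List.all_eq_true.1 hc.hder w hw
      have hlt : ∀ r ∈ rels.map Prod.fst, ev g' r = 1 ∨ ¬ (∀ s ∈ r, s < 6) := fun r hr => by
        by_cases h : ∀ s ∈ r, s < 6
        · obtain ⟨e, he, rfl⟩ := List.mem_map.1 hr
          have hce := List.all_eq_true.1 hc.hrel e he
          refine Or.inl (hlong _ ?_ h)
          rw [ev_gPair]
          exact Prod.ext (cert_sound S.loc S.pair S.good hce) (cert_sound S'.loc S'.pair S'.good hce)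
        · exact Or.inr h
      refine ev_derived (g := g') hsq' (base := (rels.map Prod.fst).filter fun r => r.all fun s => Nat.blt s 6)
        (fun r hr => ?_) ?_
      · obtain ⟨h1, h2⟩ := List.mem_filter.1 hr
        exact (hlt r h1).resolve_right fun h => h (by simpa using h2)
      · simp only [derivedOk, Bool.or_eq_true, List.any_eq_true, Bool.and_eq_true] at hw' ⊢
        rcases hw' with h | ⟨r, hr, hr6, h⟩
        · exact Or.inl h
        · exact Or.inr ⟨r, List.mem_filter.2 ⟨hr, hr6⟩, hr6, h⟩) (fun w hw => by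
      obtain ⟨e, he, hew⟩ := List.any_eq_true.1 (List.all_eq_true.1 hc.hsub w hw)
      obtain rfl : e.1 = w := eq_of_beq hew
      rw [Subgroup.mem_subgroupOf, hval _ (htl e he), ev_gPair]
      exact Subgroup.subset_closure ⟨e, he, rfl⟩)
  have hT : Nat.card (T0.subgroupOf K) ≤ P.d.A.length * T.keys.toList.length :=
    (Nat.card_le_card_of_injective (fun x : T0.subgroupOf K => (⟨_, x.2⟩ : T0)) fun x y h =>
      Subtype.ext (Subtype.ext (Subtype.mk.inj h))).trans
      (TData.card_le S.loc S.pair (S.good P hc.mem) S'.loc S'.pair (S'.good P hc.mem) hc.hT)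
  rw [← Subgroup.index_mul_card (T0.subgroupOf K)]
  exact Nat.mul_le_mul hidx hT

/-- The subgroup generated by the letters. -/
def genGrp (I : ℕ → G) (a b : G) : Subgroup G := Subgroup.closure {x | ∃ s < 6, gW I a b s = x}

/-- A simple group of the bounding order, generated by its letters, is the generated group of any other. -/
theorem iso_genGrp [Finite G] [Finite G'] [IsSimpleGroup G'] (S : Sit z I a b ta tb Ps)
    (S' : Sit z' I' a' b' ta tb Ps) (hc : PatCert ta tb Ps P T rels C) (hgen : genGrp I' a' b' = ⊤)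
    (hcard : C.N * (P.d.A.length * T.keys.toList.length) ≤ Nat.card G') (hne : genGrp I a b ≠ ⊥) :
    Nonempty (G' ≃* genGrp I a b) := by
  set K := pairGrp I a b I' a' b'
  have h1 : K.map (MonoidHom.fst G G') = genGrp I a b := by
    refine (MonoidHom.map_closure _ _).trans ?_
    show Subgroup.closure _ = Subgroup.closure _
    congr 1
    ext x
    exact ⟨fun ⟨_, ⟨s, hs, e⟩, hy⟩ => ⟨s, hs, by rw [← hy, ← e]; rfl⟩, fun ⟨s, hs, e⟩ => ⟨_, ⟨s, hs, rfl⟩, e⟩⟩
  have h2 : K.map (MonoidHom.snd G G') = ⊤ := by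
    rw [← hgen]
    refine (MonoidHom.map_closure _ _).trans ?_
    show Subgroup.closure _ = Subgroup.closure _
    congr 1
    ext x
    exact ⟨fun ⟨_, ⟨s, hs, e⟩, hy⟩ => ⟨s, hs, by rw [← hy, ← e]; rfl⟩, fun ⟨s, hs, e⟩ => ⟨_, ⟨s, hs, rfl⟩, e⟩⟩
  let p2 : K →* G' := (MonoidHom.snd G G').comp K.subtype
  have hsurj : Function.Surjective p2 := fun x => by
    obtain ⟨y, hy, e⟩ := Subgroup.mem_map.1 (h2 ▸ Subgroup.mem_top x)
    exact ⟨⟨y, hy⟩, e⟩
  have hle : Nat.card K ≤ Nat.card G' := (card_pairGrp_le S S' hc).trans hcard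
  have hbij : Function.Bijective p2 :=
    hsurj.bijective_of_nat_card_le hle
  let e := MulEquiv.ofBijective p2 hbij
  let f : G' →* G := ((MonoidHom.fst G G').comp K.subtype).comp e.symm.toMonoidHom
  have hrange : f.range = genGrp I a b := by
    rw [← h1]
    ext x
    constructor
    · rintro ⟨y, rfl⟩
      exact ⟨_, (e.symm y).2, rfl⟩
    · rintro ⟨y, hy, rfl⟩
      exact ⟨e ⟨y, hy⟩, by simp [f]⟩
  have hker : f.ker = ⊥ := by
    refine (f.normal_ker.eq_bot_or_eq_top).resolve_right fun h => hne ?_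
    rw [← hrange]
    exact MonoidHom.range_eq_bot_iff.2 (MonoidHom.ker_eq_top_iff.1 h)
  exact ⟨(MonoidHom.ofInjective (f.ker_eq_bot_iff.1 hker)).trans (MulEquiv.subgroupCongr hrange)⟩

end Cfsg.Agent.Fus.Transv
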