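import Cfsg.Agent.Lib.Fus.Transv.NodeDataH
import Cfsg.Agent.Lib.Fus.Transv.SwapData1_206
import Cfsg.Agent.Lib.Fus.Transv.SwapData2_206

/-! Checks of the subgroups without fused elements. -/

set_option autoImplicit false
set_option maxRecDepth 100000

namespace Cfsg.Agent.Fus.Transv

theorem witH_ok : witOk swapTree1_206 swapTree2_206 206 witListH = true := by decide +kernel

theorem nodesH_ok : CNode.listOk 206 nodesH = true := by decide +kernel

end Cfsg.Agent.Fus.Transv
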