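import Cfsg.Agent.Lib.Fus.Transv.NodeDataH
import Cfsg.Agent.Lib.Fus.Transv.SwapData1_206
import Cfsg.Agent.Lib.Fus.Transv.SwapData2_206

/-! Checks separating two classes. -/

set_option autoImplicit false
set_option maxRecDepth 100000

namespace Cfsg.Agent.Fus.Transv

theorem pairH0_ok : pairOk 206 swapTree1_206 swapTree2_206 nodeH0 pairH0 = true := by decide +kernel

theorem pairH1_ok : pairOk 206 swapTree1_206 swapTree2_206 nodeH1 pairH1 = true := by decide +kernel

end Cfsg.Agent.Fus.Transv
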