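import Mathlib

/-! Generated data for the centralizer of a transvection. -/

set_option autoImplicit false
set_option maxRecDepth 100000

namespace Cfsg.Agent.Fus.Transv

/-- The generators of the centralizer of the representative. -/
def psiGens1_206 : List ℕ := [
  19206233, 15405123, 27529293, 23400517]

/-- Their images. -/
def psiImgs1_206 : List ℕ := [
  19206239, 15405123, 25432129, 23466049]

/-- The candidates and tests of each generator. -/
def psiLevels1_206 : List (List ℕ × List (List ℕ × ℕ)) := [
([
  17109073], []),
([
  8917059, 8917083, 11079747, 11079769, 13242435, 13242463, 15405123, 15405149, 17567811, 17567827, 17633347, 17633361,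
  17698883, 17698903, 17764419, 17764437, 25432131, 25432139, 27529283, 27529289, 29626435, 29626447, 31723587, 31723597], [([0, 1], 22)]),
([
  8917057, 8917081, 11079745, 11079771, 13242433, 13242461, 15405121, 15405151, 17567809, 17567825, 17633345, 17633363,
  17698881, 17698901, 17764417, 17764439, 25432129, 25432137, 27529281, 27529291, 29626433, 29626445, 31723585, 31723599], [([0, 2], 0)]),
([
  17043529, 17043531, 17043533, 17043535, 17043537, 17043539, 17043541, 17043543, 17043545, 17043547, 17043549, 17043551,
  17174609, 17174611, 17174613, 17174615, 17240145, 17240147, 17240149, 17240151, 19271745, 19271747, 19271749, 19271751,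
  19337281, 19337283, 19337285, 19337287, 21237833, 21237835, 21237837, 21237839, 21303361, 21303363, 21303365, 21303367,
  23334985, 23334987, 23334989, 23334991, 23400513, 23400515, 23400517, 23400519, 21368921, 21368923, 21368925, 21368927,
  21434433, 21434435, 21434437, 21434439, 23466049, 23466051, 23466053, 23466055, 23531609, 23531611, 23531613, 23531615], [([2, 3, 2, 3], 6), ([0, 3, 1, 3], 28), ([2, 1, 3, 2, 1, 3, 2, 1, 3], 22)])]

/-- The conjugates of the images. -/
def psiLeaf1_206 : List (List ℕ × ℕ) := [
  ([17109073, 17633361, 8917081, 19337287], 30019667), ([17109073, 17567811, 25432129, 19271745], 31723589),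
  ([17109073, 17633361, 31723599, 19271751], 29823063), ([17109073, 17633361, 29626445, 19271751], 29757525),
  ([17109073, 17567811, 25432137, 19271747], 31723615), ([17109073, 17633361, 27529281, 19271749], 29691983),
  ([17109073, 17567811, 13242433, 19337281], 32051269), ([17109073, 17633361, 25432129, 19271749], 29626445),
  ([17109073, 17567811, 27529281, 19271745], 31789125), ([17109073, 17567811, 15405121, 19337281], 31985729),
  ([17109073, 17633361, 13242433, 19337285], 29888591), ([17109073, 17567811, 29626445, 19271747], 31854683),
  ([17109073, 17567811, 8917057, 19337281], 32182341), ([17109073, 17567811, 13242461, 19337283], 32051295),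
  ([17109073, 17633361, 15405121, 19337285], 29954125), ([17109073, 17633361, 11079771, 19337287], 30085201),
  ([17109073, 17567811, 11079771, 19337283], 32116827), ([17109073, 17567811, 15405151, 19337283], 31985755),
  ([17109073, 17567811, 29626433, 19271745], 31854657), ([17109073, 17567811, 11079745, 19337281], 32116801),
  ([17109073, 17567811, 8917081, 19337283], 32182367), ([17109073, 17633361, 13242461, 19337287], 29888599),
  ([17109073, 17633361, 29626433, 19271749], 29757517), ([17109073, 17633361, 25432137, 19271751], 29626449),
  ([17109073, 17567811, 31723585, 19271745], 31920193), ([17109073, 17567811, 31723599, 19271747], 31920223),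
  ([17109073, 17633361, 27529291, 19271751], 29691989), ([17109073, 17633361, 8917057, 19337285], 30019657),
  ([17109073, 17567811, 27529291, 19271747], 31789147), ([17109073, 17633361, 15405151, 19337287], 29954131),
  ([17109073, 17633361, 11079745, 19337285], 30085197), ([17109073, 17633361, 31723585, 19271749], 29823055)]

/-- Moving the first image. -/
def psiFirst1_206 : List (ℕ × ℕ) := [
  (17109073, 17043521), (17109075, 19271749), (17109077, 23334985), (17109079, 21237835),
  (19140681, 9375823), (19140683, 11341903), (19140685, 13373519), (19140687, 15601743),
  (19206233, 25432135), (19206235, 25759829), (19206237, 31985751), (19206239, 30019667)]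

end Cfsg.Agent.Fus.Transv
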