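import Cfsg.Agent.Lib.Fus.Transv.Psi
import Cfsg.Agent.Lib.Fus.Transv.PsiData1_206

/-! The search at one representative and pattern. -/

set_option autoImplicit false
set_option maxRecDepth 100000

namespace Cfsg.Agent.Fus.Transv

theorem psiOk1_206 : psiOk 206 1 psiGens1_206 psiImgs1_206 psiLevels1_206 psiLeaf1_206 psiFirst1_206 = true := by decide +kernel

end Cfsg.Agent.Fus.Transv
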