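import Mathlib

/-! Generated data for the centralizer of a transvection. -/

set_option autoImplicit false
set_option maxRecDepth 100000

namespace Cfsg.Agent.Fus.Transv

/-- The generators of the centralizer of the representative. -/
def psiGens2_206 : List ℕ := [
  19142731, 25440329, 8941633, 17059913]

/-- Their images. -/
def psiImgs2_206 : List ℕ := [
  17111121, 17569875, 8943683, 17059913]

/-- The candidates and tests of each generator. -/
def psiLevels2_206 : List (List ℕ × List (List ℕ × ℕ)) := [
([
  17109073], []),
([
  8919107, 8919131, 11081795, 11081817, 8943683, 8943707, 11104323, 11104345, 17569859, 17569875, 17635395, 17635409,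
  17586243, 17586259, 17649731, 17649745, 25434179, 25434187, 27531331, 27531337, 25442371, 25442379, 27537475, 27537481], [([0, 1], 28)]),
([
  8919107, 8919131, 11081795, 11081817, 8943683, 8943707, 11104323, 11104345, 17569859, 17569875, 17635395, 17635409,
  17586243, 17586259, 17649731, 17649745, 25434179, 25434187, 27531331, 27531337, 25442371, 25442379, 27537475, 27537481], [([0, 2], 0)]),
([
  17109057, 17109059, 17111105, 17111107, 19140673, 19140675, 19142721, 19142723, 19206209, 19206211, 19208257, 19208259,
  17051729, 17051731, 17051737, 17051739, 17053777, 17053779, 17053785, 17053787, 19148865, 19148867, 19148873, 19148875,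
  19150913, 19150915, 19150921, 19150923, 17059913, 17059915, 17059929, 17059931, 17061961, 17061963, 17061977, 17061979,
  17125441, 17125443, 17125457, 17125459, 17127489, 17127491, 17127505, 17127507, 17068105, 17068107, 17068113, 17068115,
  17070153, 17070155, 17070161, 17070163, 19230785, 19230787, 19230809, 19230811, 19232833, 19232835, 19232857, 19232859], [([2, 3, 2, 3], 18), ([0, 3, 1, 3], 22), ([2, 1, 3, 2, 1, 3, 2, 1, 3], 29)])]

/-- The conjugates of the images. -/
def psiLeaf2_206 : List (List ℕ × ℕ) := [
  ([17109073, 17586259, 8943707, 17059913], 17068113), ([17109073, 17586259, 11081817, 17059915], 17119313),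
  ([17109073, 17586259, 27537475, 17059931], 17659971), ([17109073, 17586259, 27531331, 17059931], 17641539),
  ([17109073, 17586259, 25442371, 17059929], 17592387), ([17109073, 17586259, 25434179, 17059929], 17576003),
  ([17109073, 17649731, 8943683, 17061963], 19230811), ([17109073, 17649731, 11081795, 17061961], 19148891),
  ([17109073, 17649731, 25442371, 17061979], 19691611), ([17109073, 17649731, 27531337, 17061977], 19740747),
  ([17109073, 17586259, 8919131, 17059913], 17053777), ([17109073, 17649731, 11081817, 17061961], 19148875),
  ([17109073, 17649731, 27531331, 17061977], 19738715), ([17109073, 17649731, 25442379, 17061979], 19689545),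
  ([17109073, 17649731, 25434179, 17061979], 19673177), ([17109073, 17586259, 11104345, 17059915], 17135697),
  ([17109073, 17649731, 27537481, 17061977], 19757129), ([17109073, 17649731, 11104323, 17061961], 19167323),
  ([17109073, 17649731, 8943707, 17061963], 19232843), ([17109073, 17649731, 8919107, 17061963], 19216473),
  ([17109073, 17649731, 27537475, 17061977], 19755099), ([17109073, 17649731, 25434187, 17061979], 19675209),
  ([17109073, 17586259, 11104323, 17059915], 17135681), ([17109073, 17649731, 8919131, 17061963], 19214411),
  ([17109073, 17586259, 25442379, 17059929], 17594449), ([17109073, 17586259, 25434187, 17059929], 17578065),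
  ([17109073, 17586259, 8919107, 17059913], 17051713), ([17109073, 17586259, 11081795, 17059915], 17119299),
  ([17109073, 17649731, 11104345, 17061961], 19167305), ([17109073, 17586259, 27537481, 17059931], 17659985),
  ([17109073, 17586259, 27531337, 17059931], 17641553), ([17109073, 17586259, 8943683, 17059913], 17068097)]

/-- Moving the first image. -/
def psiFirst2_206 : List (ℕ × ℕ) := [
  (17109073, 17043521), (17109075, 19208275), (17111121, 17068113), (17111123, 19232835),
  (19140681, 11081817), (19140683, 11081795), (19142729, 9205833), (19142731, 8941659),
  (19206233, 27555921), (19206235, 27531329), (19208281, 25516099), (19208283, 27545691)]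

end Cfsg.Agent.Fus.Transv
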