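import Cfsg.Agent.Lib.Fus.Transv.Psi
import Cfsg.Agent.Lib.Fus.Transv.PsiData2_206

/-! The search at one representative and pattern. -/

set_option autoImplicit false
set_option maxRecDepth 100000

namespace Cfsg.Agent.Fus.Transv

theorem psiOk2_206 : psiOk 206 2 psiGens2_206 psiImgs2_206 psiLevels2_206 psiLeaf2_206 psiFirst2_206 = true := by decide +kernel

end Cfsg.Agent.Fus.Transv
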