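import Cfsg.Agent.Lib.Fus.Transv.RelDataH
import Cfsg.Agent.Lib.Fus.Transv.SwapData1_206
import Cfsg.Agent.Lib.Fus.Transv.SwapData2_206

/-! Checks of the base relations of a pattern. -/

set_option autoImplicit false
set_option maxRecDepth 100000

namespace Cfsg.Agent.Fus.Transv

theorem pdataH_ok : (pdataH.all fun P => P.ok swapTree1_206 swapTree2_206) = true := by decide +kernel

theorem relsH_ok : (relsH.all fun e => certOk swapTree1_206 swapTree2_206 pdataH e.1 e.2) = true := by decide +kernel

end Cfsg.Agent.Fus.Transv
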