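import Cfsg.Agent.Lib.Fus.Transv.Step

/-! Generated data for the centralizer of a transvection. -/

set_option autoImplicit false
set_option maxRecDepth 100000

namespace Cfsg.Agent.Fus.Transv

/-- Words moving the fused classes to the central involution, in the pattern `206`. -/
def witListH : List (List ℕ) := [[], [4], [5], [4, 2, 3, 2, 0, 3, 0, 5], [], [], [4, 0, 1, 0, 1, 3, 0, 1, 3, 3, 2, 3, 0, 2, 0, 4, 0, 2, 0, 3, 2, 3], [5, 0, 1, 2, 1, 2, 1, 3, 0, 2, 1, 2, 1, 0, 3, 0, 5, 0, 3, 0, 1, 2, 1, 2]]

/-- A subgroup without fused elements. -/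
def nodeH0 : CNode :=
  ⟨[17043521, 17051715],
   [(17053769, 2, 17043521)]⟩

/-- The two separated classes of the subgroup. -/
def pairH0 : PairCert :=
  ⟨[17051715], 17043529, 17043523,
   [(17043521, [4, 0, 1, 0, 3, 0, 2, 0, 2, 1, 2, 0])],
   []⟩

/-- A subgroup without fused elements. -/
def nodeH1 : CNode :=
  ⟨[17043521, 17109061],
   [(17240131, 2, 16920653),
    (17045577, 3, 17043521),
    (19142729, 3, 21237825),
    (17045579, 3, 17043525),
    (19142731, 3, 21237829),
    (17045593, 3, 17567809),
    (19208281, 3, 21762113),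
    (17045595, 3, 17567813),
    (19208283, 3, 21893185)]⟩

/-- The two separated classes of the subgroup. -/
def pairH1 : PairCert :=
  ⟨[17109061], 17043523, 17043525,
   [(17043521, [])],
   [4]⟩

/-- A subgroup without fused elements. -/
def nodeH2 : CNode :=
  ⟨[17043521, 17051715, 17053769, 17045579],
   []⟩

/-- A subgroup without fused elements. -/
def nodeH3 : CNode :=
  ⟨[17043521, 17109061, 17045577, 17111119],
   []⟩

/-- The subgroups without fused elements in the pattern `206`. -/
def nodesH : List CNode := [nodeH0, nodeH1, nodeH2, nodeH3]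

end Cfsg.Agent.Fus.Transv
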