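import Cfsg.Agent.Lib.Fus.Transv.ResidData
import Cfsg.Agent.Lib.Fus.Transv.NodeDataH
import Cfsg.Agent.Lib.Fus.Transv.SwapData1_206
import Cfsg.Agent.Lib.Fus.Transv.SwapData2_206

/-! Checks of the last subgroups. -/

set_option autoImplicit false
set_option maxRecDepth 100000

namespace Cfsg.Agent.Fus.Transv

theorem coverH_ok : (nodesH.all fun k => Nat.ble k.V.length 2 || coverOk 206 k) = true := by decide +kernel

theorem resid2_ok : residOk 206 swapTree1_206 swapTree2_206 nodeH2 resid2 = true := by decide +kernel

theorem resid3_ok : residOk 206 swapTree1_206 swapTree2_206 nodeH3 resid3 = true := by decide +kernel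

end Cfsg.Agent.Fus.Transv
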