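import Cfsg.Agent.Lib.Fus.Transv.TDataH
import Cfsg.Agent.Lib.Fus.Transv.RelDataH
import Cfsg.Agent.Lib.Fus.Transv.SwapData1_206
import Cfsg.Agent.Lib.Fus.Transv.SwapData2_206

/-! Checks of the normaliser in a pattern. -/

set_option autoImplicit false
set_option maxRecDepth 100000

namespace Cfsg.Agent.Fus.Transv

theorem tdataH_ok : tdataH.ok pdataH0 swapTree1_206 swapTree2_206 = true := by decide +kernel

theorem tdataH_card : pdataH0.d.A.length * tdataH.keys.toList.length = 138240 := by
  decide +kernel

end Cfsg.Agent.Fus.Transv
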