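import Cfsg.Agent.Lib.Fus.Transv.Patterns
import Cfsg.Agent.Lib.Fus.Transv.NodeRunH
import Cfsg.Agent.Lib.Fus.Transv.RelRunH
import Cfsg.Agent.Lib.Fus.Transv.TRunH
import Cfsg.Agent.Lib.Fus.Transv.EnumH.LogHCert
import Cfsg.Agent.Lib.Fus.Transv.PsiRun1_206
import Cfsg.Agent.Lib.Fus.Transv.PsiRun2_206
import Cfsg.Agent.Lib.Fus.Transv.SwapRun1_206
import Cfsg.Agent.Lib.Fus.Transv.SwapRun2_206
import Cfsg.Agent.Lib.Fus.Transv.PairRunH0
import Cfsg.Agent.Lib.Fus.Transv.ResidRun
import Cfsg.Agent.Lib.Fus.Transv.LinkRunH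

/-!
# The pattern `206`
-/

set_option autoImplicit false
set_option maxRecDepth 100000

namespace Cfsg.Agent.Fus.Transv

/-- The certificates of the pattern `206`. -/
theorem patH : PatCert swapTree1_206 swapTree2_206 pdataH pdataH0 tdataH relsH EnumH.logH where
  mem := by simp [pdataH]
  hrel := relsH_ok
  hT := tdataH_ok
  hC := EnumH.logH_checks
  hn := rfl
  hder := by
    rw [show relsH.map Prod.fst = EnumH.logHBase from by decide +kernel]
    exact derived_of_all EnumH.logH_derived
  hsub := by decide +kernel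

variable {G : Type*} [Group G] [Finite G] {z : G} {I : ℕ → G}

/-- Groups with the pattern `206` are generated by the letters. -/
theorem hasPatH (L : Loc z I) (hm : ∀ i < 8, inMask 206 i = true ↔ IsConj (I (repC i)) z) :
    HasPat z I swapTree1_206 swapTree2_206 pdataH := by
  obtain ⟨a₀, ha⟩ := L.exists_swapping (Or.inl rfl) (by decide +kernel) hm psiOk1_206 swapOk1_206
  obtain ⟨b, hb⟩ := L.exists_swapping (Or.inr rfl) (by decide +kernel) hm psiOk2_206 swapOk2_206
  have hok := List.all_eq_true.1 pdataH_ok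
  obtain ⟨a, hp, hP⟩ := L.fix_option (L.pair ha hb) (hok pdataH0 (by simp [pdataH])) rfl swapOk1_206
  have S : Sit z I a b swapTree1_206 swapTree2_206 pdataH := by
    refine ⟨L, hp, fun P hPm => ?_⟩
    simp only [pdataH, List.mem_cons, List.not_mem_nil, or_false] at hPm
    rcases hPm with rfl | rfl
    · exact hP
    · exact link_good L hp hP (hok pdataH1 (by simp [pdataH])) linkH_ok
  refine ⟨a, b, S, top_of_nodes S hm witH_ok nodesH_ok fun E n hn hbig => ?_⟩
  have hN := nodesGood_of_ok nodesH_ok
  have hn' := hn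
  simp only [nodesH, List.mem_cons, List.not_mem_nil, or_false] at hn'
  rcases hn' with rfl | rfl | rfl | rfl
  · exact E.good_of_pair hN hn hbig pairH0_ok
  · exact E.good_of_pair hN hn hbig pairH1_ok
  · exact E.good_of_resid hN hn (by decide +kernel) (fun k hk => by
      have := List.all_eq_true.1 coverH_ok k hk
      simpa [Nat.ble_eq] using this) resid2_ok
  · exact E.good_of_resid hN hn (by decide +kernel) (fun k hk => by
      have := List.all_eq_true.1 coverH_ok k hk
      simpa [Nat.ble_eq] using this) resid3_ok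

end Cfsg.Agent.Fus.Transv
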