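import Cfsg.Agent.Lib.Fus.Transv.NodeDataL
import Cfsg.Agent.Lib.Fus.Transv.SwapData1_14
import Cfsg.Agent.Lib.Fus.Transv.SwapData2_14

/-! Checks of the subgroups without fused elements. -/

set_option autoImplicit false
set_option maxRecDepth 100000

namespace Cfsg.Agent.Fus.Transv

theorem witL_ok : witOk swapTree1_14 swapTree2_14 14 witListL = true := by decide +kernel

theorem nodesL_ok : CNode.listOk 14 nodesL = true := by decide +kernel

end Cfsg.Agent.Fus.Transv
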