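import Cfsg.Agent.Lib.Fus.Transv.NodeDataL
import Cfsg.Agent.Lib.Fus.Transv.SwapData1_14
import Cfsg.Agent.Lib.Fus.Transv.SwapData2_14

/-! Checks separating two classes. -/

set_option autoImplicit false
set_option maxRecDepth 100000

namespace Cfsg.Agent.Fus.Transv

theorem pairL6_ok : pairOk 14 swapTree1_14 swapTree2_14 nodeL6 pairL6 = true := by decide +kernel

theorem pairL7_ok : pairOk 14 swapTree1_14 swapTree2_14 nodeL7 pairL7 = true := by decide +kernel

theorem pairL8_ok : pairOk 14 swapTree1_14 swapTree2_14 nodeL8 pairL8 = true := by decide +kernel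

theorem pairL9_ok : pairOk 14 swapTree1_14 swapTree2_14 nodeL9 pairL9 = true := by decide +kernel

theorem pairL10_ok : pairOk 14 swapTree1_14 swapTree2_14 nodeL10 pairL10 = true := by decide +kernel

theorem pairL11_ok : pairOk 14 swapTree1_14 swapTree2_14 nodeL11 pairL11 = true := by decide +kernel

end Cfsg.Agent.Fus.Transv
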