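import Cfsg.Agent.Lib.Fus.Transv.NodeDataL
import Cfsg.Agent.Lib.Fus.Transv.SwapData1_14
import Cfsg.Agent.Lib.Fus.Transv.SwapData2_14

/-! Checks separating two classes. -/

set_option autoImplicit false
set_option maxRecDepth 100000

namespace Cfsg.Agent.Fus.Transv

theorem pairL18_ok : pairOk 14 swapTree1_14 swapTree2_14 nodeL18 pairL18 = true := by decide +kernel

theorem pairL19_ok : pairOk 14 swapTree1_14 swapTree2_14 nodeL19 pairL19 = true := by decide +kernel

theorem pairL20_ok : pairOk 14 swapTree1_14 swapTree2_14 nodeL20 pairL20 = true := by decide +kernel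

theorem pairL21_ok : pairOk 14 swapTree1_14 swapTree2_14 nodeL21 pairL21 = true := by decide +kernel

end Cfsg.Agent.Fus.Transv
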