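import Mathlib

/-! Generated data for the centralizer of a transvection. -/

set_option autoImplicit false
set_option maxRecDepth 100000

namespace Cfsg.Agent.Fus.Transv

/-- The generators of the centralizer of the representative. -/
def psiGens1_14 : List ℕ := [
  17043537, 17764421, 29626443, 19271751]

/-- Their images. -/
def psiImgs1_14 : List ℕ := [
  17043537, 17764437, 27529287, 21303361]

/-- The candidates and tests of each generator. -/
def psiLevels1_14 : List (List ℕ × List (List ℕ × ℕ)) := [
([
  17043529], []),
([
  8917059, 8917083, 11079747, 11079769, 13242435, 13242463, 15405123, 15405149, 17567811, 17567827, 17633347, 17633361,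
  17698883, 17698903, 17764419, 17764437, 25432131, 25432139, 27529283, 27529289, 29626435, 29626447, 31723587, 31723597], [([0, 1], 4)]),
([
  8917063, 8917087, 11079751, 11079773, 13242439, 13242459, 15405127, 15405145, 17567815, 17567831, 17633351, 17633365,
  17698887, 17698899, 17764423, 17764433, 25432135, 25432143, 27529287, 27529293, 29626439, 29626443, 31723591, 31723593], [([0, 2], 0)]),
([
  17109073, 17109075, 17109077, 17109079, 19140681, 19140683, 19140685, 19140687, 19206233, 19206235, 19206237, 19206239,
  17174609, 17174611, 17174613, 17174615, 17240145, 17240147, 17240149, 17240151, 19271745, 19271747, 19271749, 19271751,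
  19337281, 19337283, 19337285, 19337287, 21237833, 21237835, 21237837, 21237839, 21303361, 21303363, 21303365, 21303367,
  23334985, 23334987, 23334989, 23334991, 23400513, 23400515, 23400517, 23400519, 21368921, 21368923, 21368925, 21368927,
  21434433, 21434435, 21434437, 21434439, 23466049, 23466051, 23466053, 23466055, 23531609, 23531611, 23531613, 23531615], [([2, 3, 2, 3], 10), ([0, 3, 1, 3], 2), ([1, 2, 3, 1, 2, 3, 1, 2, 3], 14)])]

/-- The conjugates of the images. -/
def psiLeaf1_14 : List (List ℕ × ℕ) := [
  ([17043529, 31723597, 13242459, 23466053], 31985751), ([17043529, 31723587, 17633365, 19271751], 8917087),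
  ([17043529, 31723587, 13242439, 23466051], 31985741), ([17043529, 31723587, 11079773, 23466055], 25694301),
  ([17043529, 31723597, 8917063, 23466049], 27791429), ([17043529, 31723597, 17633365, 19271749], 8917075),
  ([17043529, 31723587, 17633351, 19271747], 8917067), ([17043529, 31723587, 17764423, 19271747], 13111369),
  ([17043529, 31723597, 11079773, 23466053], 25694293), ([17043529, 31723587, 8917087, 23466055], 27791451),
  ([17043529, 31723597, 13242439, 23466049], 31985729), ([17043529, 31723587, 15405145, 23466055], 29888607),
  ([17043529, 31723587, 15405127, 23466051], 29888591), ([17043529, 31723597, 17764423, 19271745], 13111363),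
  ([17043529, 31723587, 17567831, 19271751], 11014235), ([17043529, 31723587, 17567815, 19271747], 11014217),
  ([17043529, 31723587, 13242459, 23466055], 31985755), ([17043529, 31723597, 17698887, 19271745], 15208517),
  ([17043529, 31723587, 17698887, 19271747], 15208527), ([17043529, 31723597, 17698899, 19271749], 15208533),
  ([17043529, 31723597, 15405127, 23466049], 29888577), ([17043529, 31723597, 11079751, 23466049], 25694279),
  ([17043529, 31723597, 8917087, 23466053], 27791441), ([17043529, 31723587, 8917063, 23466051], 27791435),
  ([17043529, 31723597, 17567815, 19271745], 11014209), ([17043529, 31723597, 15405145, 23466053], 29888599),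
  ([17043529, 31723597, 17567831, 19271749], 11014227), ([17043529, 31723587, 17698899, 19271751], 15208543),
  ([17043529, 31723587, 11079751, 23466051], 25694285), ([17043529, 31723597, 17764433, 19271749], 13111377),
  ([17043529, 31723587, 17764433, 19271751], 13111389), ([17043529, 31723597, 17633351, 19271745], 8917061)]

/-- Moving the first image. -/
def psiFirst1_14 : List (ℕ × ℕ) := [
  (17043529, 17043521), (17043531, 23400515), (17043533, 19271749), (17043535, 21434439),
  (17043537, 31985751), (17043539, 25759829), (17043541, 30019667), (17043543, 27988049),
  (17043545, 17567827), (17043547, 11341903), (17043549, 21893213), (17043551, 17764421)]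

end Cfsg.Agent.Fus.Transv
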