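import Mathlib

/-! Generated data for the centralizer of a transvection. -/

set_option autoImplicit false
set_option maxRecDepth 100000

namespace Cfsg.Agent.Fus.Transv

/-- The generators of the centralizer of the representative. -/
def psiGens2_14 : List ℕ := [
  19206209, 8941657, 17633347, 17070153]

/-- Their images. -/
def psiImgs2_14 : List ℕ := [
  19208259, 8917057, 27531339, 17059931]

/-- The candidates and tests of each generator. -/
def psiLevels2_14 : List (List ℕ × List (List ℕ × ℕ)) := [
([
  17109057], []),
([
  8917057, 8917081, 11079745, 11079771, 8941633, 8941657, 11106369, 11106395, 17567809, 17567825, 17633345, 17633363,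
  17584193, 17584209, 17651777, 17651795, 25432129, 25432137, 27529281, 27529291, 25440321, 25440329, 27539521, 27539531], [([0, 1], 16)]),
([
  8919105, 8919129, 11081793, 11081819, 8943681, 8943705, 11104321, 11104347, 17569857, 17569873, 17635393, 17635411,
  17586241, 17586257, 17649729, 17649747, 25434177, 25434185, 27531329, 27531339, 25442369, 25442377, 27537473, 27537483], [([0, 2], 0)]),
([
  17109073, 17109075, 17111121, 17111123, 19140681, 19140683, 19142729, 19142731, 19206233, 19206235, 19208281, 19208283,
  17051729, 17051731, 17051737, 17051739, 17053777, 17053779, 17053785, 17053787, 19148865, 19148867, 19148873, 19148875,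
  19150913, 19150915, 19150921, 19150923, 17059913, 17059915, 17059929, 17059931, 17061961, 17061963, 17061977, 17061979,
  17125441, 17125443, 17125457, 17125459, 17127489, 17127491, 17127505, 17127507, 17068105, 17068107, 17068113, 17068115,
  17070153, 17070155, 17070161, 17070163, 19230785, 19230787, 19230809, 19230811, 19232833, 19232835, 19232857, 19232859], [([2, 3, 2, 3], 18), ([0, 3, 1, 3], 8), ([2, 1, 3, 2, 1, 3, 2, 1, 3], 22)])]

/-- The conjugates of the images. -/
def psiLeaf2_14 : List (List ℕ × ℕ) := [
  ([17109057, 17584209, 11081793, 17051731], 25704529), ([17109057, 17651795, 27531339, 17070161], 27537483),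
  ([17109057, 17584209, 25434177, 17070163], 25507923), ([17109057, 17584209, 25442377, 17070163], 25516107),
  ([17109057, 17584209, 8943681, 17053779], 25778257), ([17109057, 17584209, 27537473, 17068115], 25450577),
  ([17109057, 17651795, 25442377, 17068113], 27611209), ([17109057, 17584209, 27531339, 17068115], 25442379),
  ([17109057, 17651795, 25434177, 17068113], 27603027), ([17109057, 17584209, 8919105, 17053779], 25768019),
  ([17109057, 17651795, 11104321, 17053777], 27873363), ([17109057, 17584209, 11104347, 17051731], 25712715),
  ([17109057, 17651795, 8943705, 17051729], 27809865), ([17109057, 17584209, 27537483, 17068115], 25448521),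
  ([17109057, 17651795, 27537473, 17070161], 27545681), ([17109057, 17651795, 8919105, 17051729], 27799633),
  ([17109057, 17584209, 8943705, 17053779], 25778251), ([17109057, 17584209, 8919129, 17053779], 25770059),
  ([17109057, 17584209, 25442369, 17070163], 25516115), ([17109057, 17651795, 11104347, 17053777], 27875403),
  ([17109057, 17651795, 11081819, 17053777], 27867209), ([17109057, 17584209, 27531329, 17068115], 25440337),
  ([17109057, 17584209, 11104321, 17051731], 25710673), ([17109057, 17651795, 27531329, 17070161], 27537491),
  ([17109057, 17584209, 11081819, 17051731], 25702473), ([17109057, 17651795, 25442369, 17068113], 27613267),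
  ([17109057, 17651795, 8919129, 17051729], 27801675), ([17109057, 17651795, 8943681, 17051729], 27809873),
  ([17109057, 17651795, 25434185, 17068113], 27605067), ([17109057, 17584209, 25434185, 17070163], 25505867),
  ([17109057, 17651795, 27537483, 17070161], 27545673), ([17109057, 17651795, 11081793, 17053777], 27865171)]

/-- Moving the first image. -/
def psiFirst2_14 : List (ℕ × ℕ) := [
  (17109057, 17043521), (17109059, 19206219), (17111105, 17068113), (17111107, 19230811),
  (19140673, 11081795), (19140675, 11081817), (19142721, 9205833), (19142723, 8941659),
  (19206209, 27531329), (19206211, 27555921), (19208257, 27545691), (19208259, 25704529)]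

end Cfsg.Agent.Fus.Transv
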