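import Cfsg.Agent.Lib.Fus.Transv.Swap
import Cfsg.Agent.Lib.Fus.Transv.SwapData1_14
import Cfsg.Agent.Lib.Fus.Transv.PsiData1_14

/-! Checks of a swapping automorphism. -/

set_option autoImplicit false
set_option maxRecDepth 100000

namespace Cfsg.Agent.Fus.Transv

theorem swapOk1_14 : swapOk 1 psiGens1_14 psiImgs1_14 swapTree1_14 = true := by decide +kernel

end Cfsg.Agent.Fus.Transv
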