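import Cfsg.Agent.Lib.Fus.Transv.TDataL
import Cfsg.Agent.Lib.Fus.Transv.RelDataL
import Cfsg.Agent.Lib.Fus.Transv.SwapData1_14
import Cfsg.Agent.Lib.Fus.Transv.SwapData2_14

/-! Checks of the normaliser in a pattern. -/

set_option autoImplicit false
set_option maxRecDepth 100000

namespace Cfsg.Agent.Fus.Transv

theorem tdataL_ok : tdataL.ok pdataL0 swapTree1_14 swapTree2_14 = true := by decide +kernel

theorem tdataL_card : pdataL0.d.A.length * tdataL.keys.toList.length = 64512 := by
  decide +kernel

end Cfsg.Agent.Fus.Transv
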