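import Cfsg.Agent.Lib.Fus.Transv.Patterns
import Cfsg.Agent.Lib.Fus.Transv.NodeRunL
import Cfsg.Agent.Lib.Fus.Transv.RelRunL
import Cfsg.Agent.Lib.Fus.Transv.TRunL
import Cfsg.Agent.Lib.Fus.Transv.EnumL.LogLCert
import Cfsg.Agent.Lib.Fus.Transv.PsiRun1_14
import Cfsg.Agent.Lib.Fus.Transv.PsiRun2_14
import Cfsg.Agent.Lib.Fus.Transv.SwapRun1_14
import Cfsg.Agent.Lib.Fus.Transv.SwapRun2_14
import Cfsg.Agent.Lib.Fus.Transv.PairRunL0
import Cfsg.Agent.Lib.Fus.Transv.PairRunL1
import Cfsg.Agent.Lib.Fus.Transv.PairRunL2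
import Cfsg.Agent.Lib.Fus.Transv.PairRunL3

/-!
# The pattern `14`
-/

set_option autoImplicit false
set_option maxRecDepth 100000

namespace Cfsg.Agent.Fus.Transv

/-- The certificates of the pattern `14`. -/
theorem patL : PatCert swapTree1_14 swapTree2_14 pdataL pdataL0 tdataL relsL EnumL.logL where
  mem := by simp [pdataL]
  hrel := relsL_ok
  hT := tdataL_ok
  hC := EnumL.logL_checks
  hn := rfl
  hder := by
    rw [show relsL.map Prod.fst = EnumL.logLBase from by decide +kernel]
    exact derived_of_all EnumL.logL_derived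
  hsub := by decide +kernel

variable {G : Type*} [Group G] [Finite G] {z : G} {I : ℕ → G}

/-- Groups with the pattern `14` are generated by the letters. -/
theorem hasPatL (L : Loc z I) (hm : ∀ i < 8, inMask 14 i = true ↔ IsConj (I (repC i)) z) :
    HasPat z I swapTree1_14 swapTree2_14 pdataL := by
  obtain ⟨a₀, ha⟩ := L.exists_swapping (Or.inl rfl) (by decide +kernel) hm psiOk1_14 swapOk1_14
  obtain ⟨b, hb⟩ := L.exists_swapping (Or.inr rfl) (by decide +kernel) hm psiOk2_14 swapOk2_14
  have hok := List.all_eq_true.1 pdataL_ok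
  obtain ⟨a, hp, hP⟩ := L.fix_option (L.pair ha hb) (hok pdataL0 (by simp [pdataL])) rfl swapOk1_14
  have S : Sit z I a b swapTree1_14 swapTree2_14 pdataL := by
    refine ⟨L, hp, fun P hPm => ?_⟩
    simp only [pdataL, List.mem_cons, List.not_mem_nil, or_false] at hPm
    subst hPm
    exact hP
  refine ⟨a, b, S, top_of_nodes S hm witL_ok nodesL_ok fun E n hn hbig => ?_⟩
  have hN := nodesGood_of_ok nodesL_ok
  have hn' := hn
  simp only [nodesL, List.mem_cons, List.not_mem_nil, or_false] at hn'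
  rcases hn' with rfl | rfl | rfl | rfl | rfl | rfl | rfl | rfl | rfl | rfl | rfl | rfl | rfl | rfl | rfl | rfl | rfl | rfl | rfl | rfl | rfl | rfl
  · exact E.good_of_pair hN hn hbig pairL0_ok
  · exact E.good_of_pair hN hn hbig pairL1_ok
  · exact E.good_of_pair hN hn hbig pairL2_ok
  · exact E.good_of_pair hN hn hbig pairL3_ok
  · exact E.good_of_pair hN hn hbig pairL4_ok
  · exact E.good_of_pair hN hn hbig pairL5_ok
  · exact E.good_of_pair hN hn hbig pairL6_ok
  · exact E.good_of_pair hN hn hbig pairL7_ok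
  · exact E.good_of_pair hN hn hbig pairL8_ok
  · exact E.good_of_pair hN hn hbig pairL9_ok
  · exact E.good_of_pair hN hn hbig pairL10_ok
  · exact E.good_of_pair hN hn hbig pairL11_ok
  · exact E.good_of_pair hN hn hbig pairL12_ok
  · exact E.good_of_pair hN hn hbig pairL13_ok
  · exact E.good_of_pair hN hn hbig pairL14_ok
  · exact E.good_of_pair hN hn hbig pairL15_ok
  · exact E.good_of_pair hN hn hbig pairL16_ok
  · exact E.good_of_pair hN hn hbig pairL17_ok
  · exact E.good_of_pair hN hn hbig pairL18_ok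
  · exact E.good_of_pair hN hn hbig pairL19_ok
  · exact E.good_of_pair hN hn hbig pairL20_ok
  · exact E.good_of_pair hN hn hbig pairL21_ok

end Cfsg.Agent.Fus.Transv
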