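import Cfsg.Agent.Lib.Fus.Transv.NodeDataM
import Cfsg.Agent.Lib.Fus.Transv.SwapData1_78
import Cfsg.Agent.Lib.Fus.Transv.SwapData2_78

/-! Checks of the subgroups without fused elements. -/

set_option autoImplicit false
set_option maxRecDepth 100000

namespace Cfsg.Agent.Fus.Transv

theorem witM_ok : witOk swapTree1_78 swapTree2_78 78 witListM = true := by decide +kernel

theorem nodesM_ok : CNode.listOk 78 nodesM = true := by decide +kernel

end Cfsg.Agent.Fus.Transv
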