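import Cfsg.Agent.Lib.Fus.Transv.NodeDataM
import Cfsg.Agent.Lib.Fus.Transv.SwapData1_78
import Cfsg.Agent.Lib.Fus.Transv.SwapData2_78

/-! Checks separating two classes. -/

set_option autoImplicit false
set_option maxRecDepth 100000

namespace Cfsg.Agent.Fus.Transv

theorem pairM0_ok : pairOk 78 swapTree1_78 swapTree2_78 nodeM0 pairM0 = true := by decide +kernel

theorem pairM1_ok : pairOk 78 swapTree1_78 swapTree2_78 nodeM1 pairM1 = true := by decide +kernel

theorem pairM2_ok : pairOk 78 swapTree1_78 swapTree2_78 nodeM2 pairM2 = true := by decide +kernel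

theorem pairM3_ok : pairOk 78 swapTree1_78 swapTree2_78 nodeM3 pairM3 = true := by decide +kernel

theorem pairM4_ok : pairOk 78 swapTree1_78 swapTree2_78 nodeM4 pairM4 = true := by decide +kernel

theorem pairM5_ok : pairOk 78 swapTree1_78 swapTree2_78 nodeM5 pairM5 = true := by decide +kernel

theorem pairM6_ok : pairOk 78 swapTree1_78 swapTree2_78 nodeM6 pairM6 = true := by decide +kernel

end Cfsg.Agent.Fus.Transv
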