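import Cfsg.Agent.Lib.Fus.Transv.NodeDataM
import Cfsg.Agent.Lib.Fus.Transv.SwapData1_78
import Cfsg.Agent.Lib.Fus.Transv.SwapData2_78

/-! Checks separating two classes. -/

set_option autoImplicit false
set_option maxRecDepth 100000

namespace Cfsg.Agent.Fus.Transv

theorem pairM7_ok : pairOk 78 swapTree1_78 swapTree2_78 nodeM7 pairM7 = true := by decide +kernel

theorem pairM8_ok : pairOk 78 swapTree1_78 swapTree2_78 nodeM8 pairM8 = true := by decide +kernel

theorem pairM9_ok : pairOk 78 swapTree1_78 swapTree2_78 nodeM9 pairM9 = true := by decide +kernel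

theorem pairM10_ok : pairOk 78 swapTree1_78 swapTree2_78 nodeM10 pairM10 = true := by decide +kernel

theorem pairM11_ok : pairOk 78 swapTree1_78 swapTree2_78 nodeM11 pairM11 = true := by decide +kernel

theorem pairM12_ok : pairOk 78 swapTree1_78 swapTree2_78 nodeM12 pairM12 = true := by decide +kernel

end Cfsg.Agent.Fus.Transv
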