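import Mathlib

/-! Generated data for the centralizer of a transvection. -/

set_option autoImplicit false
set_option maxRecDepth 100000

namespace Cfsg.Agent.Fus.Transv

/-- The generators of the centralizer of the representative. -/
def psiGens1_78 : List ℕ := [
  17633365, 17567811, 13242457, 21303361]

/-- Their images. -/
def psiImgs1_78 : List ℕ := [
  17567809, 17633361, 13242457, 19271751]

/-- The candidates and tests of each generator. -/
def psiLevels1_78 : List (List ℕ × List (List ℕ × ℕ)) := [
([
  8917057], []),
([
  8917059, 8917083, 11079747, 11079769, 13242435, 13242463, 15405123, 15405149, 17567811, 17567827, 17633347, 17633361,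
  17698883, 17698903, 17764419, 17764437, 25432131, 25432139, 27529283, 27529289, 29626435, 29626447, 31723587, 31723597], [([0, 1], 0), ([0, 1, 0, 1], 29)]),
([
  8917061, 8917085, 11079749, 11079775, 13242437, 13242457, 15405125, 15405147, 17043527, 17567813, 17567829, 17633349,
  17633367, 17698885, 17698897, 17764421, 17764435, 25432133, 25432141, 27529285, 27529295, 29626437, 29626441, 31723589,
  31723595], [([0, 2], 0), ([1, 2], 0)]),
([
  17109073, 17109075, 17109077, 17109079, 19140681, 19140683, 19140685, 19140687, 19206233, 19206235, 19206237, 19206239,
  19271745, 19271747, 19271749, 19271751, 19337281, 19337283, 19337285, 19337287, 21303361, 21303363, 21303365, 21303367,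
  23400513, 23400515, 23400517, 23400519, 21434433, 21434435, 21434437, 21434439, 23466049, 23466051, 23466053, 23466055], [([2, 3, 2, 3], 18), ([1, 3, 1, 3], 10), ([2, 1, 3, 2, 1, 3, 2, 1, 3], 26)])]

/-- The conjugates of the images. -/
def psiLeaf1_78 : List (List ℕ × ℕ) := [
  ([8917057, 11079769, 17698897, 23466055], 25432135), ([8917057, 11079769, 17764435, 23466055], 27594823),
  ([8917057, 11079769, 27529295, 21434439], 15667267), ([8917057, 11079769, 17764421, 23466053], 27594835),
  ([8917057, 11079769, 17567813, 23466053], 29757525), ([8917057, 11079769, 29626437, 21434437], 9179221),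
  ([8917057, 11079769, 25432141, 21434439], 13504581), ([8917057, 11079769, 27529285, 21434437], 15667281),
  ([8917057, 11079769, 17633349, 23466053], 31920209), ([8917057, 11079769, 31723589, 21434437], 11341905),
  ([8917057, 11079769, 25432133, 21434437], 13504597), ([8917057, 11079769, 17567829, 23466055], 29757505),
  ([8917057, 11079769, 29626441, 21434439], 9179207), ([8917057, 11079769, 17698885, 23466053], 25432145),
  ([8917057, 11079769, 17633367, 23466055], 31920193), ([8917057, 11079769, 31723595, 21434439], 11341893)]

/-- Moving the first image. -/
def psiFirst1_78 : List (ℕ × ℕ) := [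
  (8917057, 17043521), (8917081, 19206219), (11079745, 21434439), (11079771, 15339599),
  (13242433, 23400515), (13242461, 21237835), (15405121, 19271749), (15405151, 23334985),
  (17567809, 25432135), (17567825, 11341903), (17633345, 29823063), (17633363, 15601743),
  (17698881, 29626437), (17698901, 13373519), (17764417, 31723589), (17764439, 9375823),
  (25432129, 21893187), (25432137, 17567827), (27529281, 23990343), (27529291, 25759829),
  (29626433, 21762121), (29626445, 27988049), (31723585, 17764421), (31723599, 31985751)]

end Cfsg.Agent.Fus.Transv
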