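import Mathlib

/-! Generated data for the centralizer of a transvection. -/

set_option autoImplicit false
set_option maxRecDepth 100000

namespace Cfsg.Agent.Fus.Transv

/-- The generators of the centralizer of the representative. -/
def psiGens2_78 : List ℕ := [
  11106393, 25434187, 8941659, 17051737]

/-- Their images. -/
def psiImgs2_78 : List ℕ := [
  11081793, 17569859, 8919105, 17068113]

/-- The candidates and tests of each generator. -/
def psiLevels2_78 : List (List ℕ × List (List ℕ × ℕ)) := [
([
  8919105], []),
([
  8919107, 8919131, 11081795, 11081817, 8943683, 8943707, 11104323, 11104345, 17569859, 17569875, 17635395, 17635409,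
  17586243, 17586259, 17649731, 17649745, 25434179, 25434187, 27531331, 27531337, 25442371, 25442379, 27537475, 27537481], [([0, 1], 0), ([0, 1, 0, 1], 0)]),
([
  8919105, 8919129, 11081793, 11081819, 8943681, 8943705, 11104321, 11104347, 17569857, 17569873, 17635393, 17635411,
  17586241, 17586257, 17649729, 17649747, 25434177, 25434185, 27531329, 27531339, 25442369, 25442377, 27537473, 27537483], [([0, 2], 30)]),
([
  17109057, 17109059, 17111105, 17111107, 19140673, 19140675, 19142721, 19142723, 19206209, 19206211, 19208257, 19208259,
  17051729, 17051731, 17051737, 17051739, 17053777, 17053779, 17053785, 17053787, 17059913, 17059915, 17059929, 17059931,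
  17061961, 17061963, 17061977, 17061979, 17068105, 17068107, 17068113, 17068115, 17070153, 17070155, 17070161, 17070163], [([1, 3, 1, 3], 6), ([0, 3, 0, 3], 10), ([2, 1, 3, 2, 1, 3, 2, 1, 3], 22)])]

/-- The conjugates of the images. -/
def psiLeaf2_78 : List (List ℕ × ℕ) := [
  ([8919105, 17586259, 11081793, 17070161], 17135707), ([8919105, 27537475, 11081793, 17070155], 9007171),
  ([8919105, 25442371, 11081793, 17070153], 11040835), ([8919105, 17635395, 11081793, 17070163], 19140673),
  ([8919105, 17649745, 11081793, 17070163], 19167323), ([8919105, 27531337, 11081793, 17070155], 8982617),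
  ([8919105, 25434187, 11081793, 17070153], 11014235), ([8919105, 27537481, 11081793, 17070155], 9007195),
  ([8919105, 25442379, 11081793, 17070153], 11040857), ([8919105, 17569859, 11081793, 17070161], 17109057),
  ([8919105, 27531331, 11081793, 17070155], 8982593), ([8919105, 25434179, 11081793, 17070153], 11014209),
  ([8919105, 17569875, 11081793, 17070161], 17109083), ([8919105, 17586243, 11081793, 17070161], 17135681),
  ([8919105, 17635409, 11081793, 17070163], 19142747), ([8919105, 17649731, 11081793, 17070163], 19167297)]

/-- Moving the first image. -/
def psiFirst2_78 : List (ℕ × ℕ) := [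
  (8919105, 17043521), (8919129, 17068113), (11081793, 17135707), (11081819, 17109067),
  (8943681, 17061955), (8943705, 17059913), (11104321, 17125441), (11104347, 17119313),
  (17569857, 27594835), (17569873, 9181273), (17635393, 27531329), (17635411, 27545691),
  (17586241, 27619395), (17586257, 9205833), (17649729, 27555921), (17649747, 27537483),
  (25434177, 17576003), (25434185, 17567827), (27531329, 17641539), (27531339, 17635409),
  (25442369, 17592387), (25442377, 17584211), (27537473, 17659971), (27537483, 17649747)]

end Cfsg.Agent.Fus.Transv
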