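import Cfsg.Agent.Lib.Fus.Transv.Psi
import Cfsg.Agent.Lib.Fus.Transv.PsiData2_78

/-! The search at one representative and pattern. -/

set_option autoImplicit false
set_option maxRecDepth 100000

namespace Cfsg.Agent.Fus.Transv

theorem psiOk2_78 : psiOk 78 2 psiGens2_78 psiImgs2_78 psiLevels2_78 psiLeaf2_78 psiFirst2_78 = true := by decide +kernel

end Cfsg.Agent.Fus.Transv
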