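import Cfsg.Agent.Lib.Fus.Transv.RelDataM
import Cfsg.Agent.Lib.Fus.Transv.SwapData1_78
import Cfsg.Agent.Lib.Fus.Transv.SwapData2_78

/-! Checks of the base relations of a pattern. -/

set_option autoImplicit false
set_option maxRecDepth 100000

namespace Cfsg.Agent.Fus.Transv

theorem pdataM_ok : (pdataM.all fun P => P.ok swapTree1_78 swapTree2_78) = true := by decide +kernel

theorem relsM_ok : (relsM.all fun e => certOk swapTree1_78 swapTree2_78 pdataM e.1 e.2) = true := by decide +kernel

end Cfsg.Agent.Fus.Transv
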