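import Cfsg.Agent.Lib.Fus.Transv.TDataM
import Cfsg.Agent.Lib.Fus.Transv.RelDataM
import Cfsg.Agent.Lib.Fus.Transv.SwapData1_78
import Cfsg.Agent.Lib.Fus.Transv.SwapData2_78

/-! Checks of the normaliser in a pattern. -/

set_option autoImplicit false
set_option maxRecDepth 100000

namespace Cfsg.Agent.Fus.Transv

theorem tdataM_ok : tdataM.ok pdataM0 swapTree1_78 swapTree2_78 = true := by decide +kernel

theorem tdataM_card : pdataM0.d.A.length * tdataM.keys.toList.length = 138240 := by
  decide +kernel

end Cfsg.Agent.Fus.Transv
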