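import Cfsg.Agent.Lib.Fus.Transv.Patterns
import Cfsg.Agent.Lib.Fus.Transv.NodeRunM
import Cfsg.Agent.Lib.Fus.Transv.RelRunM
import Cfsg.Agent.Lib.Fus.Transv.TRunM
import Cfsg.Agent.Lib.Fus.Transv.EnumM.LogMCert
import Cfsg.Agent.Lib.Fus.Transv.PsiRun1_78
import Cfsg.Agent.Lib.Fus.Transv.PsiRun2_78
import Cfsg.Agent.Lib.Fus.Transv.SwapRun1_78
import Cfsg.Agent.Lib.Fus.Transv.SwapRun2_78
import Cfsg.Agent.Lib.Fus.Transv.PairRunM0
import Cfsg.Agent.Lib.Fus.Transv.PairRunM1

/-!
# The pattern `78`
-/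

set_option autoImplicit false
set_option maxRecDepth 100000

namespace Cfsg.Agent.Fus.Transv

/-- The certificates of the pattern `78`. -/
theorem patM : PatCert swapTree1_78 swapTree2_78 pdataM pdataM0 tdataM relsM EnumM.logM where
  mem := by simp [pdataM]
  hrel := relsM_ok
  hT := tdataM_ok
  hC := EnumM.logM_checks
  hn := rfl
  hder := by
    rw [show relsM.map Prod.fst = EnumM.logMBase from by decide +kernel]
    exact derived_of_all EnumM.logM_derived
  hsub := by decide +kernel

variable {G : Type*} [Group G] [Finite G] {z : G} {I : ℕ → G}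

/-- Groups with the pattern `78` are generated by the letters. -/
theorem hasPatM (L : Loc z I) (hm : ∀ i < 8, inMask 78 i = true ↔ IsConj (I (repC i)) z) :
    HasPat z I swapTree1_78 swapTree2_78 pdataM := by
  obtain ⟨a₀, ha⟩ := L.exists_swapping (Or.inl rfl) (by decide +kernel) hm psiOk1_78 swapOk1_78
  obtain ⟨b, hb⟩ := L.exists_swapping (Or.inr rfl) (by decide +kernel) hm psiOk2_78 swapOk2_78
  have hok := List.all_eq_true.1 pdataM_ok
  obtain ⟨a, hp, hP⟩ := L.fix_option (L.pair ha hb) (hok pdataM0 (by simp [pdataM])) rfl swapOk1_78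
  have S : Sit z I a b swapTree1_78 swapTree2_78 pdataM := by
    refine ⟨L, hp, fun P hPm => ?_⟩
    simp only [pdataM, List.mem_cons, List.not_mem_nil, or_false] at hPm
    subst hPm
    exact hP
  refine ⟨a, b, S, top_of_nodes S hm witM_ok nodesM_ok fun E n hn hbig => ?_⟩
  have hN := nodesGood_of_ok nodesM_ok
  have hn' := hn
  simp only [nodesM, List.mem_cons, List.not_mem_nil, or_false] at hn'
  rcases hn' with rfl | rfl | rfl | rfl | rfl | rfl | rfl | rfl | rfl | rfl | rfl | rfl | rfl
  · exact E.good_of_pair hN hn hbig pairM0_ok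
  · exact E.good_of_pair hN hn hbig pairM1_ok
  · exact E.good_of_pair hN hn hbig pairM2_ok
  · exact E.good_of_pair hN hn hbig pairM3_ok
  · exact E.good_of_pair hN hn hbig pairM4_ok
  · exact E.good_of_pair hN hn hbig pairM5_ok
  · exact E.good_of_pair hN hn hbig pairM6_ok
  · exact E.good_of_pair hN hn hbig pairM7_ok
  · exact E.good_of_pair hN hn hbig pairM8_ok
  · exact E.good_of_pair hN hn hbig pairM9_ok
  · exact E.good_of_pair hN hn hbig pairM10_ok
  · exact E.good_of_pair hN hn hbig pairM11_ok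
  · exact E.good_of_pair hN hn hbig pairM12_ok

end Cfsg.Agent.Fus.Transv
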