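import Cfsg.Agent.Lib.Fus.Transv.Loc
import Cfsg.Agent.Lib.Fus.Transv.ClassData

/-!
# Involutions of the centralizer and their classes
-/

set_option autoImplicit false
set_option maxRecDepth 100000

namespace Cfsg.Agent.Fus.Transv

/-- Being an involution. -/
def isInv (c : ℕ) : Bool := Nat.beq (mulC c c) oneC && !Nat.beq c oneC

/-- The representative of a class. -/
def repC (i : ℕ) : ℕ := repList.getD i sC

/-- The class of an involution, `8` for the other numbers. -/
def clsOf (x : ℕ) : ℕ :=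
  match invTab.find? (fun e => Nat.beq e.1 x) with
  | some e => e.2.1
  | none => 8

/-- Commuting. -/
def commC (a b : ℕ) : Bool := Nat.beq (mulC a b) (mulC b a)

theorem invTab_fst : (elems.filter isInv == invTab.map Prod.fst) = true := by decide +kernel

theorem invTab_ok : (invTab.all fun e => inH e.2.2 && Nat.blt e.2.1 8 && Nat.beq (cjC e.2.2 (repC e.2.1)) e.1 &&
    Nat.beq (clsOf e.1) e.2.1) = true := by decide +kernel

theorem repC_ok : ((List.range 8).all fun i => inH (repC i) && isInv (repC i) && Nat.beq (clsOf (repC i)) i) = true := by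
  decide +kernel

theorem repC_zero : repC 0 = sC := by decide +kernel

theorem Mem.rep (i : ℕ) : Mem (repC i) := by
  rcases Nat.lt_or_ge i 8 with h | h
  · have := List.all_eq_true.1 repC_ok i (List.mem_range.2 h)
    simp only [Bool.and_eq_true] at this
    exact this.1.1
  · rw [repC, List.getD_eq_default _ _ (show repList.length ≤ i from le_trans (by decide) h)]
    exact mem_sC

theorem gens_mem : (gensH.all fun g => inH g && isInv g) = true := by decide +kernel

theorem center_ok : ((elems.filter fun c => gensH.all fun g => commC c g).all fun c =>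
    Nat.beq c oneC || Nat.beq c sC) = true := by decide +kernel

theorem mem_invTab {x : ℕ} (hx : Mem x) (h1 : mulC x x = oneC) (h2 : x ≠ oneC) : ∃ e ∈ invTab, e.1 = x := by
  have hf : x ∈ elems.filter isInv := List.mem_filter.2 ⟨mem_iff_elems.1 hx, by
    simp only [isInv, Bool.and_eq_true, Nat.beq_eq, Bool.not_eq_true']
    exact ⟨h1, Bool.eq_false_iff.2 fun h => h2 (Nat.eq_of_beq_eq_true h)⟩⟩
  rw [eq_of_beq invTab_fst, List.mem_map] at hf
  exact hf

theorem cls_spec {x : ℕ} (hx : Mem x) (h1 : mulC x x = oneC) (h2 : x ≠ oneC) :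
    clsOf x < 8 ∧ ∃ h, Mem h ∧ cjC h (repC (clsOf x)) = x := by
  obtain ⟨e, he, rfl⟩ := mem_invTab hx h1 h2
  have := List.all_eq_true.1 invTab_ok e he
  simp only [Bool.and_eq_true, Nat.beq_eq, Nat.blt_eq] at this
  obtain ⟨⟨⟨hm, hlt⟩, hc⟩, hcl⟩ := this
  exact hcl.symm ▸ ⟨hlt, e.2.2, hm, hc⟩

theorem clsOf_none {x : ℕ} (h : clsOf x < 8) : Mem x ∧ mulC x x = oneC ∧ x ≠ oneC := by
  have : ∃ e ∈ invTab, e.1 = x := by
    unfold clsOf at h
    cases hf : invTab.find? (fun e => Nat.beq e.1 x) with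
    | none => rw [hf] at h; exact absurd h (by norm_num)
    | some e => exact ⟨e, List.mem_of_find?_eq_some hf, Nat.eq_of_beq_eq_true (List.find?_some hf :)⟩
  obtain ⟨e, he, rfl⟩ := this
  have hm : e.1 ∈ elems.filter isInv := by
    rw [eq_of_beq invTab_fst]; exact List.mem_map.2 ⟨e, he, rfl⟩
  obtain ⟨h1, h2⟩ := List.mem_filter.1 hm
  simp only [isInv, Bool.and_eq_true, Nat.beq_eq, Bool.not_eq_true'] at h2
  exact ⟨mem_iff_elems.2 h1, h2.1, fun h => by rw [h] at h2; exact absurd h2.2 (by decide +kernel)⟩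

namespace Loc

variable {G : Type*} [Group G] {z : G} {I : ℕ → G} (L : Loc z I)
include L

theorem ne_one_of_conj {x : ℕ} (h : IsConj (I x) z) : I x ≠ 1 := fun e => by
  rw [e] at h; exact L.z_ne_one (isConj_one_right.1 h)

theorem mul_self_of_conj {x : G} (h : IsConj x z) : x * x = 1 := by
  obtain ⟨g, rfl⟩ := isConj_iff.1 h.symm
  calc g * z * g⁻¹ * (g * z * g⁻¹) = g * (z * z) * g⁻¹ := by group
    _ = 1 := by rw [L.mul_self_z, mul_one, mul_inv_cancel]

theorem fused_cls {x : ℕ} (hx : Mem x) :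
    IsConj (I x) z ↔ clsOf x < 8 ∧ IsConj (I (repC (clsOf x))) z := by
  have key : clsOf x < 8 → (IsConj (I x) z ↔ IsConj (I (repC (clsOf x))) z) := by
    intro hlt
    obtain ⟨-, h1, h2⟩ := clsOf_none hlt
    obtain ⟨-, h, hh, e⟩ := cls_spec hx h1 h2
    have hc : IsConj (I (repC (clsOf x))) (I x) :=
      isConj_iff.2 ⟨I h, by rw [← L.map_cj hh (Mem.rep _), e]⟩
    exact ⟨fun h => hc.trans h, fun h => hc.symm.trans h⟩
  refine ⟨fun h => ?_, fun h => (key h.1).2 h.2⟩
  have h1 : mulC x x = oneC := L.inj _ _ (hx.mul hx) mem_one (by rw [L.hom _ _ hx hx, L.map_one, L.mul_self_of_conj h])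
  have h2 : x ≠ oneC := fun e => L.ne_one_of_conj h (e ▸ L.map_one)
  exact ⟨(cls_spec hx h1 h2).1, (key (cls_spec hx h1 h2).1).1 h⟩

theorem comm_gens_center {c : ℕ} (hc : Mem c) (h : ∀ g ∈ gensH, I c * I g = I g * I c) : c = oneC ∨ c = sC := by
  have := List.all_eq_true.1 center_ok c (List.mem_filter.2 ⟨mem_iff_elems.1 hc, List.all_eq_true.2 fun g hg => by
    have hgm := List.all_eq_true.1 gens_mem g hg
    simp only [Bool.and_eq_true] at hgm
    simp only [commC, Nat.beq_eq]
    exact (L.comm_iff hc hgm.1).1 (h g hg)⟩)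
  simpa only [Bool.or_eq_true, Nat.beq_eq] using this

end Loc

end Cfsg.Agent.Fus.Transv
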