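import Cfsg.Agent.Lib.Fus.Transv.Step

/-!
# All involution centralizers inside the subgroup
-/

set_option autoImplicit false
set_option maxRecDepth 100000

namespace Cfsg.Agent.Fus.Transv

namespace Emb

variable {G : Type*} [Group G] [Finite G] {z : G} {I : ℕ → G} {a b : G} {ta tb : CTree} {m : ℕ} {M : Subgroup G}
variable (E : Emb z I a b ta tb m M) {Ns : List CNode}
include E

omit [Finite G] in
/-- Every subgroup of the list is good, if each is good once the larger ones are. -/
theorem good_all (hN : NodesGood m Ns)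
    (h : ∀ n ∈ Ns, (∀ k ∈ Ns, n.V.toFinset.card < k.V.toFinset.card → GoodNode I M k) → GoodNode I M n) :
    ∀ n ∈ Ns, GoodNode I M n := by
  suffices key : ∀ j : ℕ, ∀ n ∈ Ns, 8 - n.V.toFinset.card = j → GoodNode I M n from fun n hn => key _ n hn rfl
  intro j
  induction j using Nat.strong_induction_on with
  | _ j ih =>
    intro n hn hj
    refine h n hn fun k hk hlt => ih _ ?_ k hk rfl
    have hle : k.V.toFinset.card ≤ 8 := (List.toFinset_card_le _).trans (hN.base k hk).2.1
    omega

/-- If all subgroups of the list are good, the subgroup is everything. -/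
theorem top (hN : NodesGood m Ns)
    (h : ∀ n ∈ Ns, (∀ k ∈ Ns, n.V.toFinset.card < k.V.toFinset.card → GoodNode I M k) → GoodNode I M n) :
    M = ⊤ := by
  have L := E.loc
  have hall := E.good_all hN h
  refine E.eq_top fun x hx ho y hy => ?_
  by_cases hf : IsConj x z
  · exact E.cent_le hx hf hy
  have hsq : x * x = 1 := by rw [← pow_two, ← ho, pow_orderOf_eq_one]
  have h2 : IsPGroup 2 (Subgroup.zpowers x) := by
    refine IsPGroup.of_card (n := 1) ?_
    rw [Nat.card_zpowers, ho, pow_one]
  obtain ⟨g, hg, hgz⟩ := E.two_into _ (Subgroup.zpowers_le.2 hx) h2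
  obtain ⟨c, hc, he⟩ := (L.range _).1 (hgz x (Subgroup.mem_zpowers x))
  have hc2 : mulC c c = oneC := by
    refine L.inj _ _ (hc.mul hc) mem_one ?_
    rw [L.hom _ _ hc hc, he, L.map_one]
    calc g * x * g⁻¹ * (g * x * g⁻¹) = g * (x * x) * g⁻¹ := by group
      _ = 1 := by rw [hsq, mul_one, mul_inv_cancel]
  have hc1 : c ≠ oneC := fun e => by
    rw [e, L.map_one, eq_comm, conj_eq_one_iff] at he
    rw [he, orderOf_one] at ho
    omega
  obtain ⟨hlt, k, hk, hkc⟩ := cls_spec hc hc2 hc1
  have hnf : inMask m (clsOf c) = false := Bool.eq_false_iff.2 fun hb => hf (by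
    have hcz : IsConj (I c) z := (L.fused_cls hc).2 ⟨hlt, (E.hm _ hlt).1 hb⟩
    exact (isConj_iff.2 ⟨g, he.symm⟩ : IsConj x (I c)).trans hcz)
  obtain ⟨n, hn, hV⟩ := hN.single _ hlt hnf
  have hkI : I (repC (clsOf c)) = (I k)⁻¹ * I c * I k := by
    conv_rhs => rw [← hkc, L.map_cj hk (Mem.rep _)]
    group
  have hmem : (I k)⁻¹ * (g * y * g⁻¹) * I k ∈ M := hall n hn _ fun v hv => by
    rw [hV] at hv
    simp only [List.mem_cons, List.not_mem_nil, or_false] at hv
    rcases hv with rfl | rfl
    · rw [L.map_one, mul_one, one_mul]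
    · rw [hkI, he]
      calc _ = (I k)⁻¹ * (g * (y * x) * g⁻¹) * I k := by group
        _ = _ := by rw [hy]; group
  have := mul_mem (mul_mem (inv_mem hg) (mul_mem (mul_mem (E.hC k hk) hmem) (inv_mem (E.hC k hk)))) hg
  simpa [mul_assoc] using this

end Emb

end Cfsg.Agent.Fus.Transv
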