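import Mathlib
import Cfsg.Agent.Lib.Spor.TransvectionFive
import Cfsg.Agent.Lib.Spor.Cos.Tree

/-!
# The centralizer of a transvection in five dimensions, in numbers

A matrix is a number with twenty-five bits, the bit `5 * i + j` being the entry in row `i` and column `j`.
The centralizer of the transvection is the group of these numbers in `elems`.
-/

set_option autoImplicit false
set_option maxRecDepth 100000

namespace Cfsg.Agent.Fus.Transv

open Cfsg.Agent.Spor.TransvectionFive (mk exists_mk isUnit_block det_mk)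
open Cfsg.Agent.Spor.Cos (force force_eq)

/-- Five by five matrices over two elements. -/
abbrev M5 : Type := Matrix (Fin 5) (Fin 5) (ZMod 2)

/-- The special linear group. -/
abbrev SL5 : Type := Matrix.SpecialLinearGroup (Fin 5) (ZMod 2)

/-- A row of a code. -/
def row (c i : ℕ) : ℕ := (c >>> (5 * i)) % 32

/-- Five rows as one number. -/
def pk5 (a b c d e : ℕ) : ℕ := a + 32 * (b + 32 * (c + 32 * (d + 32 * e)))

/-- The lowest bit of each row. -/
def maskC : ℕ := 1082401

/-- One summand of the product: the column `k` of `a` times the row `k` of `b`. -/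
def term (a b k : ℕ) : ℕ := ((a >>> k) &&& maskC) * row b k

/-- The product. -/
def mulC (a b : ℕ) : ℕ := force a fun a => force b fun b =>
  force (Nat.xor (term a b 0) (Nat.xor (term a b 1) (Nat.xor (term a b 2) (Nat.xor (term a b 3) (term a b 4)))))
    fun p => p

/-- The identity. -/
def oneC : ℕ := pk5 1 2 4 8 16

/-- The transvection. -/
def sC : ℕ := pk5 3 2 4 8 16

/-- The product of a list. -/
def prodC : List ℕ → ℕ
  | [] => oneC
  | a :: l => mulC a (prodC l)

/-- A power, by repeated squaring. -/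
def powC (a : ℕ) : ℕ → ℕ
  | 0 => oneC
  | n + 1 => mulC a (powC a n)

/-- The inverse in the centralizer, whose exponent divides `168`. -/
def invC (a : ℕ) : ℕ :=
  force a fun a => force (mulC a a) fun b2 => force (mulC b2 b2) fun b4 => force (mulC b4 b4) fun b8 =>
  force (mulC b8 b8) fun b16 => force (mulC b16 b16) fun b32 => force (mulC b32 b32) fun b64 =>
  force (mulC b64 b64) fun b128 => mulC b128 (mulC b32 (mulC b4 (mulC b2 a)))

/-- The conjugate `h x h⁻¹`. -/
def cjC (h x : ℕ) : ℕ := force h fun h => mulC (mulC h x) (invC h)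

/-- An element from its parts. -/
def mkC (x v w m : ℕ) : ℕ :=
  pk5 (1 + 2 * x + 4 * v) 2 (2 * (w % 2) + 4 * (m % 8)) (2 * (w / 2 % 2) + 4 * (m / 8 % 8))
    (2 * (w / 4 % 2) + 4 * (m / 64 % 8))

/-- The invertible three by three blocks. -/
def glList : List ℕ :=
  (List.range 512).filter fun m =>
    let a := m % 8
    let b := m / 8 % 8
    let c := m / 64 % 8
    !(Nat.beq a 0 || Nat.beq b 0 || Nat.beq b a || Nat.beq c 0 || Nat.beq c a || Nat.beq c b ||
      Nat.beq c (Nat.xor a b))

/-- The elements. -/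
def elems : List ℕ :=
  glList.flatMap fun m => (List.range 8).flatMap fun w => (List.range 8).flatMap fun v =>
    (List.range 2).map fun x => mkC x v w m

/-- A fast test for being an element. -/
def inH (c : ℕ) : Bool :=
  force c fun c => force (row c 2 / 4 + 8 * (row c 3 / 4) + 64 * (row c 4 / 4)) fun m =>
  Nat.beq c (mkC (row c 0 / 2 % 2) (row c 0 / 4) (row c 2 / 2 % 2 + 2 * (row c 3 / 2 % 2) + 4 * (row c 4 / 2 % 2)) m) &&
    !(Nat.beq (m % 8) 0 || Nat.beq (m / 8 % 8) 0 || Nat.beq (m / 8 % 8) (m % 8) || Nat.beq (m / 64 % 8) 0 ||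
      Nat.beq (m / 64 % 8) (m % 8) || Nat.beq (m / 64 % 8) (m / 8 % 8) ||
      Nat.beq (m / 64 % 8) (Nat.xor (m % 8) (m / 8 % 8)))

/-- The matrix of a code. -/
def toMat (c : ℕ) : M5 := fun i j => if c.testBit (5 * i + j) then 1 else 0

theorem row_lt (c i : ℕ) : row c i < 32 := Nat.mod_lt _ (by norm_num)

theorem testBit_row (c i j : ℕ) (hj : j < 5) : (row c i).testBit j = c.testBit (5 * i + j) := by
  rw [row, show (32 : ℕ) = 2 ^ 5 from rfl, Nat.testBit_mod_two_pow, Nat.testBit_shiftRight]
  simp [hj]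

theorem testBit_low {a : ℕ} (ha : a < 32) (x : ℕ) {j : ℕ} (hj : j < 5) :
    (a + 32 * x).testBit j = a.testBit j := by
  rw [add_comm, show (32 : ℕ) = 2 ^ 5 from rfl, Nat.testBit_two_pow_mul_add _ ha, if_pos hj]

theorem testBit_high {a : ℕ} (ha : a < 32) (x j : ℕ) : (a + 32 * x).testBit (5 + j) = x.testBit j := by
  rw [add_comm, show (32 : ℕ) = 2 ^ 5 from rfl, Nat.testBit_two_pow_mul_add _ ha, if_neg (by omega),
    Nat.add_sub_cancel_left]

theorem testBit_pk5 {a b c d e : ℕ} (ha : a < 32) (hb : b < 32) (hc : c < 32) (hd : d < 32) (j : ℕ)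
    (hj : j < 5) :
    (pk5 a b c d e).testBit j = a.testBit j ∧ (pk5 a b c d e).testBit (5 + j) = b.testBit j ∧
    (pk5 a b c d e).testBit (10 + j) = c.testBit j ∧ (pk5 a b c d e).testBit (15 + j) = d.testBit j ∧
    (pk5 a b c d e).testBit (20 + j) = e.testBit j := by
  unfold pk5
  refine ⟨testBit_low ha _ hj, ?_, ?_, ?_, ?_⟩
  · rw [testBit_high ha, testBit_low hb _ hj]
  · rw [show 10 + j = 5 + (5 + j) by ring, testBit_high ha, testBit_high hb, testBit_low hc _ hj]
  · rw [show 15 + j = 5 + (5 + (5 + j)) by ring, testBit_high ha, testBit_high hb, testBit_high hc,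
      testBit_low hd _ hj]
  · rw [show 20 + j = 5 + (5 + (5 + (5 + j))) by ring, testBit_high ha, testBit_high hb, testBit_high hc,
      testBit_high hd]

theorem masked_eq (m : ℕ) : m &&& maskC =
    pk5 (m.testBit 0).toNat (m.testBit 5).toNat (m.testBit 10).toNat (m.testBit 15).toNat (m.testBit 20).toNat := by
  refine Nat.eq_of_testBit_eq fun n => ?_
  rw [Nat.testBit_and]
  have hm : ∀ b0 b1 b2 b3 b4 : Bool, ∀ n < 25,
      (pk5 b0.toNat b1.toNat b2.toNat b3.toNat b4.toNat).testBit n =
        ((n == 0 && b0) || (n == 5 && b1) || (n == 10 && b2) || (n == 15 && b3) ||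
          (n == 20 && b4)) ∧
      maskC.testBit n = (n == 0 || n == 5 || n == 10 || n == 15 || n == 20) := by
    decide +kernel
  rcases Nat.lt_or_ge n 25 with h | h
  · obtain ⟨e1, e2⟩ := hm (m.testBit 0) (m.testBit 5) (m.testBit 10) (m.testBit 15) (m.testBit 20) n h
    rw [e1, e2]
    interval_cases n <;> simp
  · have hl : ∀ b0 b1 b2 b3 b4 : Bool, pk5 b0.toNat b1.toNat b2.toNat b3.toNat b4.toNat < 2 ^ 25 := by
      decide +kernel
    rw [Nat.testBit_eq_false_of_lt ((hl _ _ _ _ _).trans_le (Nat.pow_le_pow_right (by norm_num) h)),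
      Nat.testBit_eq_false_of_lt (show maskC < 2 ^ n from
        (by decide : maskC < 2 ^ 25).trans_le (Nat.pow_le_pow_right (by norm_num) h)), Bool.and_false]

theorem term_eq (a b k : ℕ) : term a b k =
    pk5 (bif a.testBit k then row b k else 0) (bif a.testBit (5 + k) then row b k else 0)
      (bif a.testBit (10 + k) then row b k else 0) (bif a.testBit (15 + k) then row b k else 0)
      (bif a.testBit (20 + k) then row b k else 0) := by
  have h : ∀ c : Bool, (bif c then row b k else 0) = c.toNat * row b k := fun c => by cases c <;> simp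
  rw [term, masked_eq]
  simp only [Nat.testBit_shiftRight, add_zero, h, pk5, Nat.add_comm k]
  ring_nf

theorem term_lt (a b k : ℕ) : term a b k < 2 ^ 25 := by
  have h : ∀ c : Bool, (bif c then row b k else 0) < 32 := fun c => by
    cases c
    · norm_num
    · exact row_lt b k
  have h0 := h (a.testBit k); have h1 := h (a.testBit (5 + k)); have h2 := h (a.testBit (10 + k))
  have h3 := h (a.testBit (15 + k)); have h4 := h (a.testBit (20 + k))
  rw [term_eq, pk5]; omega

theorem testBit_term (a b k : ℕ) (i j : Fin 5) :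
    (term a b k).testBit (5 * i + j) = (a.testBit (5 * i + k) && (row b k).testBit j) := by
  have h : ∀ c : Bool, (bif c then row b k else 0) < 32 := fun c => by
    cases c
    · norm_num
    · exact row_lt b k
  have hb : ∀ c : Bool, (bif c then row b k else 0).testBit j = (c && (row b k).testBit j) := fun c => by
    cases c <;> simp
  obtain ⟨h0, h1, h2, h3, h4⟩ := testBit_pk5 (e := bif a.testBit (20 + k) then row b k else 0)
    (h (a.testBit k)) (h (a.testBit (5 + k))) (h (a.testBit (10 + k))) (h (a.testBit (15 + k))) j j.2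
  rw [term_eq]
  fin_cases i
  · simpa [hb] using h0
  · simpa [hb] using h1
  · simpa [hb] using h2
  · simpa [hb] using h3
  · simpa [hb] using h4

theorem bit_sum : ∀ a0 a1 a2 a3 a4 b0 b1 b2 b3 b4 : Bool,
    (if ((a0 && b0) ^^ ((a1 && b1) ^^ ((a2 && b2) ^^ ((a3 && b3) ^^ (a4 && b4))))) then (1 : ZMod 2) else 0) =
      (if a0 then 1 else 0) * (if b0 then 1 else 0) + (if a1 then 1 else 0) * (if b1 then 1 else 0) +
        (if a2 then 1 else 0) * (if b2 then 1 else 0) + (if a3 then 1 else 0) * (if b3 then 1 else 0) +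
        (if a4 then 1 else 0) * (if b4 then 1 else 0) := by decide +kernel

theorem toMat_mulC (a b : ℕ) : toMat (mulC a b) = toMat a * toMat b := by
  ext i j
  have hm : (mulC a b).testBit (5 * i + j) = ((term a b 0).testBit (5 * i + j) ^^ ((term a b 1).testBit (5 * i + j) ^^
      ((term a b 2).testBit (5 * i + j) ^^ ((term a b 3).testBit (5 * i + j) ^^
        (term a b 4).testBit (5 * i + j))))) := by
    simp only [mulC, force_eq, show ∀ x y : ℕ, Nat.xor x y = x ^^^ y from fun _ _ => rfl, Nat.testBit_xor]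
  rw [Matrix.mul_apply, Fin.sum_univ_five]
  show (if _ then (1 : ZMod 2) else 0) = _
  rw [hm]
  simp only [testBit_term, testBit_row _ _ _ j.2]
  rw [bit_sum]
  rfl

theorem toMat_one : toMat oneC = 1 := by decide +kernel

theorem toMat_s : toMat sC = Cfsg.Agent.Spor.TransvectionFive.tv := by decide +kernel

theorem toMat_inj {a b : ℕ} (ha : a < 2 ^ 25) (hb : b < 2 ^ 25) (h : toMat a = toMat b) : a = b := by
  refine Nat.eq_of_testBit_eq fun k => ?_
  rcases Nat.lt_or_ge k 25 with hk | hk
  · have e := congrFun (congrFun h ⟨k / 5, by omega⟩) ⟨k % 5, Nat.mod_lt _ (by norm_num)⟩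
    simp only [toMat, Nat.div_add_mod] at e
    revert e
    cases a.testBit k <;> cases b.testBit k <;> decide
  · rw [Nat.testBit_eq_false_of_lt (ha.trans_le (Nat.pow_le_pow_right (by norm_num) hk)),
      Nat.testBit_eq_false_of_lt (hb.trans_le (Nat.pow_le_pow_right (by norm_num) hk))]

theorem mulC_lt (a b : ℕ) : mulC a b < 2 ^ 25 := by
  simp only [mulC, force_eq]
  exact Nat.xor_lt_two_pow (term_lt _ _ _) (Nat.xor_lt_two_pow (term_lt _ _ _) (Nat.xor_lt_two_pow (term_lt _ _ _)
    (Nat.xor_lt_two_pow (term_lt _ _ _) (term_lt _ _ _))))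

theorem mulC_assoc (a b c : ℕ) : mulC (mulC a b) c = mulC a (mulC b c) :=
  toMat_inj (mulC_lt _ _) (mulC_lt _ _) (by simp only [toMat_mulC, mul_assoc])

end Cfsg.Agent.Fus.Transv
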