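import Cfsg.Agent.Lib.Spor.Cos.Words

/-!
# Derived words with the position of their source
-/

set_option autoImplicit false
set_option maxRecDepth 100000

namespace Cfsg.Agent.Fus.Transv

open Cfsg.Agent.Spor.Cos (derivedOk)

/-- Equality of two words, quickly. -/
def eqW : List ℕ → List ℕ → Bool
  | [], [] => true
  | a :: v, b :: w => Nat.beq a b && eqW v w
  | _, _ => false

theorem eqW_eq : ∀ {v w : List ℕ}, eqW v w = true → v = w
  | [], [], _ => rfl
  | [], _ :: _, h => by simp [eqW] at h
  | _ :: _, [], h => by simp [eqW] at h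
  | a :: v, b :: w, h => by
    simp only [eqW, Bool.and_eq_true, Nat.beq_eq] at h
    rw [h.1, eqW_eq h.2]

/-- A word with its source `(j, k, r)`: `r = 2` for the short words. -/
def derivedAt (n : ℕ) (base : List (List ℕ)) (w : List ℕ) (p : ℕ × ℕ × ℕ) : Bool :=
  bif Nat.beq p.2.2 2 then w.isEmpty || (List.range n).any fun s => eqW w [s, s]
  else Nat.blt p.1 base.length && (base.getD p.1 []).all (fun s => Nat.blt s n) && Nat.ble p.2.1 w.length &&
    eqW (w.drop p.2.1 ++ w.take p.2.1) (bif Nat.beq p.2.2 1 then (base.getD p.1 []).reverse else base.getD p.1 [])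

/-- All words with their sources. -/
def derivedAll (n : ℕ) (base : List (List ℕ)) : List (List ℕ) → List (ℕ × ℕ × ℕ) → Bool
  | [], _ => true
  | _ :: _, [] => false
  | w :: ws, p :: ps => derivedAt n base w p && derivedAll n base ws ps

theorem derivedAt_ok {n : ℕ} {base : List (List ℕ)} {w : List ℕ} {p : ℕ × ℕ × ℕ}
    (h : derivedAt n base w p = true) : derivedOk n base w = true := by
  unfold derivedAt at h
  simp only [derivedOk, Bool.or_eq_true, List.any_eq_true, Bool.and_eq_true]
  cases hp : Nat.beq p.2.2 2 <;> rw [hp] at h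
  · simp only [cond_false, Bool.and_eq_true, Nat.blt_eq, Nat.ble_eq] at h
    obtain ⟨⟨⟨hj, hall⟩, hk⟩, he⟩ := h
    have e := eqW_eq he
    refine Or.inr ⟨base.getD p.1 [], by rw [List.getD_eq_getElem _ _ hj]; exact List.getElem_mem hj, hall, p.2.1,
      List.mem_range.2 (by omega), ?_⟩
    rw [e]
    cases Nat.beq p.2.2 1 <;> simp
  · simp only [cond_true, Bool.or_eq_true, List.any_eq_true] at h
    refine Or.inl (h.imp_right fun ⟨s, hs, he⟩ => ⟨s, hs, ?_⟩)
    rw [eqW_eq he]; simp

theorem derived_of_all {n : ℕ} {base : List (List ℕ)} : ∀ {ws : List (List ℕ)} {ps : List (ℕ × ℕ × ℕ)},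
    derivedAll n base ws ps = true → (ws.all fun w => derivedOk n base w) = true
  | [], _, _ => rfl
  | _ :: _, [], h => by simp [derivedAll] at h
  | w :: ws, p :: ps, h => by
    simp only [derivedAll, Bool.and_eq_true] at h
    simp only [List.all_cons, derivedAt_ok h.1, derived_of_all h.2, Bool.and_self]

end Cfsg.Agent.Fus.Transv
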