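import Cfsg.Agent.Lib.Fus.Transv.Code

/-!
# The numbers are the centralizer of the transvection
-/

set_option autoImplicit false
set_option maxRecDepth 100000

namespace Cfsg.Agent.Fus.Transv

open Cfsg.Agent.Spor.TransvectionFive (mk Par exists_mk isUnit_block det_mk mem_iff card_centralizer tv)

/-- A vector of three bits as a number. -/
def v3 (f : Fin 3 → ZMod 2) : ℕ := (f 0).val + 2 * (f 1).val + 4 * (f 2).val

/-- A three by three block as a number. -/
def m9 (B : Matrix (Fin 3) (Fin 3) (ZMod 2)) : ℕ := v3 (B 0) + 8 * v3 (B 1) + 64 * v3 (B 2)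

theorem toMat_pk5 {a b c d e : ℕ} (ha : a < 32) (hb : b < 32) (hc : c < 32) (hd : d < 32) (i j : Fin 5) :
    toMat (pk5 a b c d e) i j = if (![a, b, c, d, e] i).testBit j then 1 else 0 := by
  obtain ⟨h0, h1, h2, h3, h4⟩ := testBit_pk5 (e := e) ha hb hc hd j j.2
  have key : (pk5 a b c d e).testBit (5 * i + j) = (![a, b, c, d, e] i).testBit j := by
    fin_cases i
    · simpa using h0
    · simpa using h1
    · simpa using h2
    · simpa using h3
    · simpa using h4
  unfold toMat
  rw [key]

theorem row0_ok : ∀ x : ZMod 2, ∀ v : Fin 3 → ZMod 2, (1 + 2 * x.val + 4 * v3 v < 32) ∧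
    ∀ j : Fin 5, (if (1 + 2 * x.val + 4 * v3 v).testBit j then (1 : ZMod 2) else 0) = ![1, x, v 0, v 1, v 2] j := by
  decide +kernel

theorem rowLow_ok : ∀ y : ZMod 2, ∀ r : Fin 3 → ZMod 2, (2 * y.val + 4 * v3 r < 32) ∧
    ∀ j : Fin 5, (if (2 * y.val + 4 * v3 r).testBit j then (1 : ZMod 2) else 0) = ![0, y, r 0, r 1, r 2] j := by
  decide +kernel

theorem v3_lt : ∀ f : Fin 3 → ZMod 2, v3 f < 8 := by decide +kernel

theorem v3_bits : ∀ f : Fin 3 → ZMod 2, v3 f % 2 = (f 0).val ∧ v3 f / 2 % 2 = (f 1).val ∧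
    v3 f / 4 % 2 = (f 2).val := by decide +kernel

theorem row1_ok : ∀ j : Fin 5, (if (2 : ℕ).testBit j then (1 : ZMod 2) else 0) = ![0, 1, 0, 0, 0] j := by
  decide +kernel

theorem toMat_mkC (p : Par) : toMat (mkC p.1.val (v3 p.2.1) (v3 p.2.2.1) (m9 p.2.2.2)) = mk p := by
  obtain ⟨x, v, w, B⟩ := p
  have hb := v3_lt (B 0); have hb1 := v3_lt (B 1); have hb2 := v3_lt (B 2)
  obtain ⟨w0, w1, w2⟩ := v3_bits w
  have m0 : m9 B % 8 = v3 (B 0) := by simp only [m9]; omega
  have m1 : m9 B / 8 % 8 = v3 (B 1) := by simp only [m9]; omega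
  have m2 : m9 B / 64 % 8 = v3 (B 2) := by simp only [m9]; omega
  obtain ⟨h0, e0⟩ := row0_ok x v
  obtain ⟨h2, e2⟩ := rowLow_ok (w 0) (B 0)
  obtain ⟨h3, e3⟩ := rowLow_ok (w 1) (B 1)
  obtain ⟨h4, e4⟩ := rowLow_ok (w 2) (B 2)
  ext i j
  simp only [mkC, w0, w1, w2, m0, m1, m2]
  rw [toMat_pk5 h0 (by norm_num) h2 h3]
  fin_cases i
  · refine (e0 j).trans ?_; fin_cases j <;> rfl
  · refine (row1_ok j).trans ?_; fin_cases j <;> rfl
  · refine (e2 j).trans ?_; fin_cases j <;> rfl
  · refine (e3 j).trans ?_; fin_cases j <;> rfl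
  · refine (e4 j).trans ?_; fin_cases j <;> rfl

theorem gl_ok : ∀ B : Matrix (Fin 3) (Fin 3) (ZMod 2), B.det ≠ 0 → m9 B ∈ glList := by decide +kernel

theorem mem_elems {x v w m : ℕ} (hx : x < 2) (hv : v < 8) (hw : w < 8) (hm : m ∈ glList) :
    mkC x v w m ∈ elems := by
  simp only [elems, List.mem_flatMap, List.mem_map, List.mem_range]
  exact ⟨m, hm, w, hw, v, hv, x, hx, rfl⟩

/-- What is checked for every element. -/
def spec (c : ℕ) : Bool := inH c && Nat.blt c (2 ^ 25) && Nat.beq (mulC c sC) (mulC sC c) &&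
  Nat.beq (mulC c (invC c)) oneC

theorem all_of_parts {p : ℕ → Bool} : ∀ (n : ℕ) {l : List ℕ}, l.length ≤ 1792 * n →
    (∀ j < n, ((l.drop (1792 * j)).take 1792).all p = true) → l.all p = true
  | 0, l, h, _ => by rw [List.length_eq_zero_iff.1 (by omega : l.length = 0)]; rfl
  | n + 1, l, h, hp => by
    rw [← List.take_append_drop 1792 l, List.all_append, Bool.and_eq_true]
    refine ⟨by simpa using hp 0 (by omega), all_of_parts n (by rw [List.length_drop]; omega) fun j hj => ?_⟩
    rw [List.drop_drop, show 1792 + 1792 * j = 1792 * (j + 1) by ring]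
    exact hp (j + 1) (by omega)

theorem spec_part0 : ((elems.drop (1792 * 0)).take 1792).all spec = true := by decide +kernel

theorem spec_part1 : ((elems.drop (1792 * 1)).take 1792).all spec = true := by decide +kernel

theorem spec_part2 : ((elems.drop (1792 * 2)).take 1792).all spec = true := by decide +kernel

theorem spec_part3 : ((elems.drop (1792 * 3)).take 1792).all spec = true := by decide +kernel

theorem spec_part4 : ((elems.drop (1792 * 4)).take 1792).all spec = true := by decide +kernel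

theorem spec_part5 : ((elems.drop (1792 * 5)).take 1792).all spec = true := by decide +kernel

theorem spec_part6 : ((elems.drop (1792 * 6)).take 1792).all spec = true := by decide +kernel

theorem spec_part7 : ((elems.drop (1792 * 7)).take 1792).all spec = true := by decide +kernel

theorem spec_part8 : ((elems.drop (1792 * 8)).take 1792).all spec = true := by decide +kernel

theorem spec_part9 : ((elems.drop (1792 * 9)).take 1792).all spec = true := by decide +kernel

theorem spec_part10 : ((elems.drop (1792 * 10)).take 1792).all spec = true := by decide +kernel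

theorem spec_part11 : ((elems.drop (1792 * 11)).take 1792).all spec = true := by decide +kernel

theorem elems_length : elems.length = 21504 := by decide +kernel

theorem elems_spec : (elems.all spec) = true := by
  refine all_of_parts 12 (by rw [elems_length]) fun j hj => ?_
  interval_cases j
  exacts [spec_part0, spec_part1, spec_part2, spec_part3, spec_part4, spec_part5, spec_part6, spec_part7, spec_part8, spec_part9, spec_part10, spec_part11]

theorem mem_of_inH {c : ℕ} (h : inH c = true) : c ∈ elems := by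
  simp only [inH, Cfsg.Agent.Spor.Cos.force_eq, Bool.and_eq_true, Nat.beq_eq] at h
  obtain ⟨he, hm⟩ := h
  rw [he]
  refine mem_elems (Nat.mod_lt _ (by norm_num)) ?_ (by omega) ?_
  · have := row_lt c 0; omega
  · rw [glList, List.mem_filter, List.mem_range]
    refine ⟨?_, hm⟩
    have := row_lt c 2; have := row_lt c 3; have := row_lt c 4
    omega

/-- Being an element. -/
def Mem (c : ℕ) : Prop := inH c = true

theorem mem_iff_elems {c : ℕ} : Mem c ↔ c ∈ elems := by
  refine ⟨mem_of_inH, fun h => ?_⟩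
  have := List.all_eq_true.1 elems_spec c h
  simp only [spec, Bool.and_eq_true] at this
  exact this.1.1.1

theorem Mem.lt {c : ℕ} (h : Mem c) : c < 2 ^ 25 := by
  have := List.all_eq_true.1 elems_spec c (mem_iff_elems.1 h)
  simp only [spec, Bool.and_eq_true] at this
  exact Nat.blt_eq.mp this.1.1.2

theorem Mem.comm {c : ℕ} (h : Mem c) : mulC c sC = mulC sC c := by
  have := List.all_eq_true.1 elems_spec c (mem_iff_elems.1 h)
  simp only [spec, Bool.and_eq_true, Nat.beq_eq] at this
  exact this.1.2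

theorem Mem.mul_inv {c : ℕ} (h : Mem c) : mulC c (invC c) = oneC := by
  have := List.all_eq_true.1 elems_spec c (mem_iff_elems.1 h)
  simp only [spec, Bool.and_eq_true, Nat.beq_eq] at this
  exact this.2

theorem det_eq_one {A B : M5} (h : A * B = 1) : A.det = 1 := by
  rcases (by decide : ∀ t : ZMod 2, t = 0 ∨ t = 1) A.det with h0 | h0
  · have := congrArg Matrix.det h
    rw [Matrix.det_mul, h0, zero_mul, Matrix.det_one] at this
    exact absurd this zero_ne_one
  · exact h0

/-- The matrix of an element. -/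
def toSL {c : ℕ} (h : Mem c) : SL5 :=
  ⟨toMat c, det_eq_one ((toMat_mulC c (invC c)).symm.trans ((congrArg toMat h.mul_inv).trans toMat_one))⟩

theorem toSL_coe {c : ℕ} (h : Mem c) : (toSL h : M5) = toMat c := rfl

theorem toSL_mem {s : SL5} (hs : (s : M5) = tv) {c : ℕ} (h : Mem c) :
    toSL h ∈ Subgroup.centralizer ({s} : Set SL5) := by
  refine Subgroup.mem_centralizer_singleton_iff.2 (Subtype.ext ?_)
  rw [Matrix.SpecialLinearGroup.coe_mul, Matrix.SpecialLinearGroup.coe_mul, hs, ← toMat_s, toSL_coe, ← toMat_mulC,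
    ← toMat_mulC, h.comm]

theorem exists_code {s : SL5} (hs : (s : M5) = tv) {g : SL5} (hg : g ∈ Subgroup.centralizer ({s} : Set SL5)) :
    ∃ c, Mem c ∧ toMat c = (g : M5) := by
  obtain ⟨p, hp⟩ := (mem_iff s hs g).1 hg
  have hu := isUnit_block (p := p) (by rw [hp]; exact g.2)
  refine ⟨mkC p.1.val (v3 p.2.1) (v3 p.2.2.1) (m9 p.2.2.2), mem_iff_elems.2 ?_, (toMat_mkC p).trans hp⟩
  exact mem_elems (ZMod.val_lt _) (v3_lt _) (v3_lt _)
    (gl_ok _ ((Matrix.isUnit_iff_isUnit_det _).1 hu).ne_zero)

/-- A transvection as an element of the special linear group. -/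
def sSL : SL5 := ⟨tv, Matrix.det_transvection_of_ne 0 1 (by decide) 1⟩

theorem Mem.mul {a b : ℕ} (ha : Mem a) (hb : Mem b) : Mem (mulC a b) := by
  obtain ⟨c, hc, e⟩ := exists_code (s := sSL) rfl (mul_mem (toSL_mem (s := sSL) rfl ha) (toSL_mem (s := sSL) rfl hb))
  rw [Matrix.SpecialLinearGroup.coe_mul, toSL_coe, toSL_coe, ← toMat_mulC] at e
  exact toMat_inj hc.lt (mulC_lt _ _) e ▸ hc

theorem mem_one : Mem oneC := show inH oneC = true by decide +kernel

theorem mem_sC : Mem sC := show inH sC = true by decide +kernel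

theorem Mem.inv {a : ℕ} (ha : Mem a) : Mem (invC a) := by
  unfold invC
  simp only [Cfsg.Agent.Spor.Cos.force_eq]
  have h2 := ha.mul ha; have h4 := h2.mul h2; have h8 := h4.mul h4; have h16 := h8.mul h8
  have h32 := h16.mul h16; have h64 := h32.mul h32
  exact (h64.mul h64).mul (h32.mul (h4.mul (h2.mul ha)))

theorem Mem.cj {h x : ℕ} (hh : Mem h) (hx : Mem x) : Mem (cjC h x) := by
  rw [cjC, Cfsg.Agent.Spor.Cos.force_eq]
  exact (hh.mul hx).mul hh.inv

theorem Mem.prod : ∀ {l : List ℕ}, (∀ a ∈ l, Mem a) → Mem (prodC l)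
  | [], _ => mem_one
  | a :: l, h => (h a (by simp)).mul (Mem.prod fun b hb => h b (List.mem_cons_of_mem _ hb))

theorem elems_nodup : elems.Nodup := by
  classical
  have hcard := card_centralizer sSL rfl
  let f : Fin elems.length → Subgroup.centralizer ({sSL} : Set SL5) := fun i =>
    ⟨toSL (mem_iff_elems.2 (elems.get_mem i)), toSL_mem rfl _⟩
  have hs : Function.Surjective f := fun g => by
    obtain ⟨c, hc, e⟩ := exists_code (s := sSL) rfl g.2
    obtain ⟨i, hi⟩ := List.get_of_mem (mem_iff_elems.1 hc)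
    exact ⟨i, Subtype.ext (Subtype.ext (by subst hi; exact e))⟩
  have hb := (Nat.bijective_iff_surjective_and_card f).2
    ⟨hs, by rw [hcard, Nat.card_fin, elems_length]⟩
  refine List.nodup_iff_injective_get.2 fun i j hij => hb.1 (Subtype.ext (Subtype.ext ?_))
  show toMat (elems.get i) = toMat (elems.get j)
  rw [hij]

end Cfsg.Agent.Fus.Transv
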