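import Cfsg.Agent.Lib.Fus.Transv.Sylow
import Cfsg.Agent.Lib.Fus.Transv.Act
import Cfsg.Agent.Lib.Invol.StronglyEmbeddedCount

/-!
# A subgroup containing the centralizer in which fusion to the central involution is visible
-/

set_option autoImplicit false
set_option maxRecDepth 100000

namespace Cfsg.Agent.Fus.Transv

open Cfsg.Agent.Spor.Cos (ev ev_mem)

/-- Two words move the data of a pattern to the central involution. -/
noncomputable def witOk (ta tb : CTree) (m : ℕ) (wit : List (List ℕ)) : Bool :=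
  (List.range 8).all fun i => !inMask m i ||
    (((wit.getD i []).all fun s => Nat.blt s 6) && Nat.beq (act ta tb (wit.getD i []) (repC i)) sC)

/-- The subgroup contains the centralizer and the two involutions, and the pattern is known. -/
structure Emb {G : Type*} [Group G] (z : G) (I : ℕ → G) (a b : G) (ta tb : CTree) (m : ℕ) (M : Subgroup G) :
    Prop where
  /-- coordinates -/
  loc : Loc z I
  /-- the involutions -/
  pair : Pair I a b ta tb
  /-- the pattern -/
  hm : ∀ i < 8, inMask m i = true ↔ IsConj (I (repC i)) z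
  /-- the centralizer -/
  hC : ∀ c, Mem c → I c ∈ M
  /-- the letters -/
  hW : ∀ s, gW I a b s ∈ M
  /-- fused classes are fused in the subgroup -/
  hwit : ∀ i < 8, inMask m i = true → ∃ g ∈ M, g * I (repC i) * g⁻¹ = z

theorem emb_of_gen {G : Type*} [Group G] {z : G} {I : ℕ → G} {a b : G} {ta tb : CTree} {m : ℕ} {M : Subgroup G}
    (L : Loc z I) (hp : Pair I a b ta tb) (hm : ∀ i < 8, inMask m i = true ↔ IsConj (I (repC i)) z)
    (hC : ∀ c, Mem c → I c ∈ M) (hab : a ∈ M ∧ b ∈ M) {wit : List (List ℕ)} (hw : witOk ta tb m wit = true) :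
    Emb z I a b ta tb m M := by
  have hW : ∀ s, gW I a b s ∈ M := fun s => by
    unfold gW; split_ifs
    exacts [hC _ (gen_mem s), hab.1, hab.2]
  refine ⟨L, hp, hm, hC, hW, fun i hi hmask => ?_⟩
  have h := List.all_eq_true.1 hw i (List.mem_range.2 hi)
  simp only [hmask, Bool.not_true, Bool.false_or, Bool.and_eq_true, List.all_eq_true, Nat.blt_eq, Nat.beq_eq] at h
  refine ⟨ev (gW I a b) (wit.getD i []), ev_mem _ fun s _ => hW s, ?_⟩
  have := (hp.act_sound _ (Mem.rep i) h.1 (by rw [h.2]; exact fun e => not_mem_eight (e ▸ mem_sC))).2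
  rw [h.2, L.map_s] at this
  exact this

namespace Emb

variable {G : Type*} [Group G] [Finite G] {z : G} {I : ℕ → G} {a b : G} {ta tb : CTree} {m : ℕ} {M : Subgroup G}
variable (E : Emb z I a b ta tb m M)
include E

omit [Finite G] in
theorem z_mem : z ∈ M := E.loc.map_s ▸ E.hC _ mem_sC

omit [Finite G] in
theorem cent_z_le : Subgroup.centralizer ({z} : Set G) ≤ M := fun x hx => by
  obtain ⟨c, hc, rfl⟩ := (E.loc.range _).1 (Subgroup.mem_centralizer_singleton_iff.1 hx)
  exact E.hC c hc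

/-- A two-subgroup of `M` moves into the centralizer inside `M`. -/
theorem two_into (U : Subgroup G) (hU : U ≤ M) (h2 : IsPGroup 2 U) :
    ∃ g ∈ M, ∀ u ∈ U, g * u * g⁻¹ * z = z * (g * u * g⁻¹) := by
  haveI : Fact (Nat.Prime 2) := ⟨Nat.prime_two⟩
  obtain ⟨P, -, hPz⟩ := E.loc.exists_sylow
  have hPM : (P : Subgroup G) ≤ M := hPz.trans E.cent_z_le
  let PM : Sylow 2 M := P.subtype hPM
  obtain ⟨Q, hQ⟩ := (h2.comap_of_injective M.subtype M.subtype_injective).exists_le_sylow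
  obtain ⟨g, hg⟩ := MulAction.exists_smul_eq M Q PM
  refine ⟨g, g.2, fun u hu => ?_⟩
  have hmem : g * ⟨u, hU hu⟩ * g⁻¹ ∈ (PM : Subgroup M) := by
    rw [← hg, Sylow.coe_subgroup_smul]
    exact Subgroup.mem_map.2 ⟨⟨u, hU hu⟩, hQ (show (⟨u, hU hu⟩ : M) ∈ U.comap M.subtype from hu), rfl⟩
  have hmem' : (g : G) * u * (g : G)⁻¹ ∈ (P : Subgroup G) := by
    simp only [PM, Sylow.coe_subtype, Subgroup.mem_subgroupOf] at hmem
    exact hmem
  exact Subgroup.mem_centralizer_singleton_iff.1 (hPz hmem')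

/-- An element of `M` fused to `z` is fused to it in `M`. -/
theorem exists_to_z {x : G} (hx : x ∈ M) (hf : IsConj x z) : ∃ g ∈ M, g * x * g⁻¹ = z := by
  have hsq := E.loc.mul_self_of_conj hf
  have h2 : IsPGroup 2 (Subgroup.zpowers x) := by
    refine IsPGroup.of_card (n := 1) ?_
    rw [Nat.card_zpowers, pow_one, orderOf_eq_prime (hp := ⟨Nat.prime_two⟩) (by rw [pow_two, hsq])]
    intro h
    rw [h] at hf
    exact E.loc.z_ne_one (isConj_one_right.1 hf)
  obtain ⟨g, hg, hgz⟩ := E.two_into _ (Subgroup.zpowers_le.2 hx) h2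
  obtain ⟨c, hc, he⟩ := (E.loc.range _).1 (hgz x (Subgroup.mem_zpowers x))
  have hcz : IsConj (I c) z := by
    rw [he]
    exact (isConj_iff.2 ⟨g, rfl⟩ : IsConj x _).symm.trans hf
  obtain ⟨hlt, hF⟩ := (E.loc.fused_cls hc).1 hcz
  obtain ⟨k, hk, hkc⟩ := (cls_spec hc (clsOf_none hlt).2.1 (clsOf_none hlt).2.2).2
  obtain ⟨w, hw, hwz⟩ := E.hwit _ hlt ((E.hm _ hlt).2 hF)
  refine ⟨w * (I k)⁻¹ * g, mul_mem (mul_mem hw (inv_mem (E.hC k hk))) hg, ?_⟩
  calc w * (I k)⁻¹ * g * x * (w * (I k)⁻¹ * g)⁻¹ = w * ((I k)⁻¹ * (g * x * g⁻¹) * I k) * w⁻¹ := by group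
    _ = z := by
      rw [← he]
      conv_lhs => rw [← hkc, E.loc.map_cj hk (Mem.rep _)]
      rw [← hwz]; group

theorem cent_le {x : G} (hx : x ∈ M) (hf : IsConj x z) {y : G} (hy : y * x = x * y) : y ∈ M := by
  obtain ⟨g, hg, hgz⟩ := E.exists_to_z hx hf
  have : g * y * g⁻¹ ∈ M := E.cent_z_le (Subgroup.mem_centralizer_singleton_iff.2 (by
    rw [← hgz]
    calc g * y * g⁻¹ * (g * x * g⁻¹) = g * (y * x) * g⁻¹ := by group
      _ = g * x * g⁻¹ * (g * y * g⁻¹) := by rw [hy]; group))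
  simpa [mul_assoc] using mul_mem (mul_mem (inv_mem hg) this) hg

/-- Elements moving a fused element of `M` into `M` lie in `M`. -/
theorem fus {x : G} (hx : x ∈ M) (hf : IsConj x z) {g : G} (hg : g * x * g⁻¹ ∈ M) : g ∈ M := by
  obtain ⟨h₁, hh₁, e₁⟩ := E.exists_to_z hx hf
  obtain ⟨h₂, hh₂, e₂⟩ := E.exists_to_z hg ((isConj_iff.2 ⟨g, rfl⟩ : IsConj x _).symm.trans hf)
  have h : h₂ * g * h₁⁻¹ ∈ M := E.cent_z_le (Subgroup.mem_centralizer_singleton_iff.2 (by
    conv_lhs => rw [← e₁]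
    conv_rhs => rw [← e₂]
    group))
  simpa [mul_assoc] using mul_mem (mul_mem (inv_mem hh₂) h) hh₁

/-- If the centralizers of all involutions of `M` lie in `M`, it is the whole group. -/
theorem eq_top (hcent : ∀ x ∈ M, orderOf x = 2 → ∀ y, y * x = x * y → y ∈ M) : M = ⊤ := by
  by_contra hne
  have hev : Even (Nat.card M) := by
    have h2 : orderOf (⟨z, E.z_mem⟩ : M) = 2 := by rw [← Subgroup.orderOf_coe]; exact E.loc.orderOf_z
    exact even_iff_two_dvd.2 (h2 ▸ orderOf_dvd_natCard _)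
  have hse : Cfsg.IsStronglyEmbedded M := by
    refine (Cfsg.Agent.Invol.isStronglyEmbedded_iff hne hev).2 fun t ht ht2 g hg => ?_
    -- a conjugate of `z` commuting with `t`
    have hsq : t * t = 1 := by rw [← pow_two, ← ht2, pow_orderOf_eq_one]
    have h2 : IsPGroup 2 (Subgroup.zpowers t) := by
      refine IsPGroup.of_card (n := 1) ?_
      rw [Nat.card_zpowers, ht2, pow_one]
    obtain ⟨k, hk, hkz⟩ := E.two_into _ (Subgroup.zpowers_le.2 ht) h2
    set d := k⁻¹ * z * k with hd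
    have hdM : d ∈ M := mul_mem (mul_mem (inv_mem hk) E.z_mem) hk
    have hdf : IsConj d z := isConj_iff.2 ⟨k, by rw [hd]; group⟩
    have hdt : d * t = t * d := by
      have := hkz t (Subgroup.mem_zpowers t)
      calc d * t = k⁻¹ * (z * (k * t * k⁻¹)) * k := by rw [hd]; group
        _ = t * d := by rw [← this, hd]; group
    have hcm : g⁻¹ * d * g * (g⁻¹ * t * g) = g⁻¹ * t * g * (g⁻¹ * d * g) :=
      calc _ = g⁻¹ * (d * t) * g := by group
        _ = _ := by rw [hdt]; group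
    have ho : orderOf (g⁻¹ * t * g) = 2 := by
      rw [← ht2, ← Cfsg.Agent.Invol.orderOf_conj_eq g⁻¹ t, inv_inv]
    have hgd : g⁻¹ * d * g⁻¹⁻¹ ∈ M := by rw [inv_inv]; exact hcent _ hg ho _ hcm
    exact inv_mem_iff.1 (E.fus hdM hdf hgd)
  have hconj := Cfsg.Agent.Invol.isConj_involutions hse (a := I (repC 4)) (b := z) (by
    refine orderOf_eq_prime (hp := ⟨Nat.prime_two⟩) ?_ fun h => ?_
    · rw [pow_two, ← E.loc.hom _ _ (Mem.rep 4) (Mem.rep 4),
        show mulC (repC 4) (repC 4) = oneC by decide +kernel, E.loc.map_one]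
    · exact absurd ((E.loc.eq_one_iff (Mem.rep 4)).1 h) (by decide +kernel)) E.loc.orderOf_z
  exact E.loc.h45_not (c := 4) (by simp) hconj

end Emb

end Cfsg.Agent.Fus.Transv
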