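import Cfsg.Agent.Lib.Fus.Transv.Rel

/-!
# Choosing the two involutions
-/

set_option autoImplicit false
set_option maxRecDepth 100000

namespace Cfsg.Agent.Fus.Transv

open Cfsg.Agent.Spor.Cos (ev ev_append)
open NCtx (NS)

namespace Loc

variable {G : Type*} [Group G] {z : G} {I : ℕ → G} (L : Loc z I)
include L

theorem exists_swapping {m i : ℕ} (hi : i = 1 ∨ i = 2) (hbit : inMask m i = true)
    (hm : ∀ k < 8, inMask m k = true ↔ IsConj (I (repC k)) z) {gens imgs : List ℕ}
    {lv : List (List ℕ × List (List ℕ × ℕ))} {leaf : List (List ℕ × ℕ)} {first : List (ℕ × ℕ)}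
    (hpsi : psiOk m i gens imgs lv leaf first = true) {t : CTree} (hok : swapOk i gens imgs t = true) :
    ∃ a, Swap I a t := by
  have hne : repC i ≠ sC := by rcases hi with rfl | rfl <;> decide +kernel
  obtain ⟨σ, h1, h2⟩ := L.exists_swap hi ((hm i (by omega)).1 hbit)
  obtain ⟨k, hk, hku, hall⟩ := L.psi_conj hm hpsi h1 h2
  exact L.exists_swap_inv hne hok h1 h2 hk hku hall

/-- The first involution can be chosen so that the first option holds. -/
theorem fix_option {P : PData} {ta tb : CTree} {a b : G} (hp : Pair I a b ta tb) (hok : P.ok ta tb = true)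
    (hiy : P.y.iy = 4) {gens imgs : List ℕ} (hsw : swapOk 1 gens imgs ta = true) :
    ∃ a', Pair I a' b ta tb ∧ PGood z I a' b ta tb P := by
  have hok' := hok
  simp only [PData.ok, Bool.and_eq_true] at hok'
  have C : NCtx z I a b ta tb P.d := ⟨L, hp, P.d.good_of_ok _ _ hok'.1.1⟩
  have hy := P.d.ygood_of_ok _ _ _ hok'.1.2
  rcases C.NS_y hy with h | h
  · exact ⟨a, hp, hok, h⟩
  have h' := C.NS_gauge hy h
  set a' := a * I (mulC sC (repC 1))
  have hp' : Pair I a' b ta tb := ⟨hp.hom, L.swap_gauge hsw hp.swA, hp.swB⟩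
  have C' : NCtx z I a' b ta tb P.d := ⟨L, hp', C.good⟩
  have hix : P.d.ix = 5 := by
    rcases C.good.letters.2.2 with e | e
    · exact absurd (hiy.trans e.symm) hy.letters.2.2.2
    · exact e
  have hX : ev (gW I a' b) P.d.xW = ev (gW I a b) P.d.xW := by
    rw [C'.X_parts, C.X_parts, hix]; simp [gW]
  have hY : ev (gW I a' b) P.y.yW = I (wC P.y.wh) * a' * I (wC P.y.wq) := by
    obtain ⟨hq1, hq2, -⟩ := hy.letters
    rw [YData.yW, ev_append, ← hp'.ev_wC _ hq1, ← hp'.ev_wC _ hq2, mul_assoc, hiy]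
    rfl
  refine ⟨a', hp', hok, ?_⟩
  obtain ⟨h1, h2, h3⟩ := h'
  refine ⟨h1, h2, ?_⟩
  rw [hX, hY]
  simpa [gW, hiy, a'] using h3

end Loc

end Cfsg.Agent.Fus.Transv
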