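import Cfsg.Agent.Lib.Fus.Transv.Classes

/-!
# The possible fusion patterns
-/

set_option autoImplicit false
set_option maxRecDepth 100000

namespace Cfsg.Agent.Fus.Transv

/-- The classes of a mask, the class `0` always among them. -/
def inMask (m c : ℕ) : Bool := Nat.beq c 0 || (Nat.blt c 8 && m.testBit c)

/-- The recorded pairs at a representative. -/
def pairA : ℕ → List (ℕ × ℕ)
  | 1 => pairA1 | 2 => pairA2 | 3 => pairA3 | 6 => pairA6 | 7 => pairA7 | _ => []

/-- The recorded pairs with the central involution. -/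
def pairB : ℕ → List (ℕ × ℕ)
  | 1 => pairB1 | 2 => pairB2 | 3 => pairB3 | 6 => pairB6 | 7 => pairB7 | _ => []

/-- The classes that can be fused. -/
def candCls : List ℕ := [1, 2, 3, 6, 7]

/-- The commuting involutions of a representative. -/
def invCent (c : ℕ) : List (ℕ × ℕ × ℕ) := invTab.filter fun e => commC e.1 (repC c)

theorem pairs_ok : (candCls.all fun c =>
    ((invCent c).map (fun e => (e.2.1, clsOf (mulC e.1 (repC c)))) == pairA c) &&
      ((invCent c).map (fun e => (e.2.1, clsOf (mulC e.1 sC))) == pairB c)) = true := by decide +kernel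

/-- Counting the pairs of a mask. -/
def cnt (m : ℕ) (l : List (ℕ × ℕ)) : ℕ := (l.filter fun p => inMask m p.1 && inMask m p.2).length

/-- The order of the centralizer of a representative. -/
def cardC (c : ℕ) : ℕ := (elems.filter fun x => commC x (repC c)).length

/-- The square roots of a representative. -/
def rootA (c : ℕ) : ℕ := (elems.filter fun x => Nat.beq (mulC x x) (repC c)).length

/-- The square roots of the central involution commuting with a representative. -/
def rootB (c : ℕ) : ℕ := (elems.filter fun x => commC x (repC c) && Nat.beq (mulC x x) sC).length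

theorem cardC_one : cardC 1 = 1536 := by decide +kernel

theorem cardC_two : cardC 2 = 1536 := by decide +kernel

theorem cardC_three : cardC 3 = 256 := by decide +kernel

theorem cardC_four : cardC 4 = 256 := by decide +kernel

theorem cardC_five : cardC 5 = 512 := by decide +kernel

theorem cardC_six : cardC 6 = 128 := by decide +kernel

theorem cardC_seven : cardC 7 = 128 := by decide +kernel

theorem rootA_four : rootA 4 = 0 := by decide +kernel

theorem rootA_five : rootA 5 = 16 := by decide +kernel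

theorem rootB_three : rootB 3 = 16 := by decide +kernel

theorem rootB_four : rootB 4 = 16 := by decide +kernel

theorem rootB_five : rootB 5 = 32 := by decide +kernel

theorem no_partner {c d : ℕ} (hc : c ∈ [4, 5]) (hd : d < 8) (hd0 : d ≠ 0) :
    ¬ (cardC c = cardC d ∧ rootA c = rootB d) := by
  rintro ⟨h1, h2⟩
  simp only [List.mem_cons, List.not_mem_nil, or_false] at hc
  rcases hc with rfl | rfl <;> interval_cases d <;>
    simp [cardC_one, cardC_two, cardC_three, cardC_four, cardC_five, cardC_six, cardC_seven, rootA_four,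
      rootA_five, rootB_three, rootB_four, rootB_five] at h1 h2 hd0

theorem partner_small {c d : ℕ} (hc : c = 1 ∨ c = 2) (hd : d < 8) (hd0 : d ≠ 0) (h : cardC c = cardC d) :
    d = 1 ∨ d = 2 := by
  rcases hc with rfl | rfl <;> interval_cases d <;>
    simp [cardC_one, cardC_two, cardC_three, cardC_four, cardC_five, cardC_six, cardC_seven] at h hd0 ⊢

theorem mask_ok : ((List.range 256).all fun m =>
    m.testBit 4 || m.testBit 5 || m.testBit 0 ||
    !(candCls.all fun c => !m.testBit c ||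
      candCls.any fun d => m.testBit d && Nat.beq (cnt m (pairA c)) (cnt m (pairB d))) ||
    [0, 2, 4, 14, 78, 142, 206].any fun k => Nat.beq m k) = true := by decide +kernel

theorem length_filter_eq {α β : Type*} {l : List α} {l' : List β} (hl : l.Nodup) (hl' : l'.Nodup)
    {P : α → Bool} {Q : β → Bool} (R : α → β → Prop)
    (h1 : ∀ a ∈ l, P a = true → ∃ b ∈ l', Q b = true ∧ R a b)
    (h2 : ∀ b ∈ l', Q b = true → ∃ a ∈ l, P a = true ∧ R a b)
    (hf : ∀ a b b', R a b → R a b' → b = b') (hg : ∀ a a' b, R a b → R a' b → a = a') :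
    (l.filter P).length = (l'.filter Q).length := by
  classical
  rw [← List.toFinset_card_of_nodup (hl.filter P), ← List.toFinset_card_of_nodup (hl'.filter Q)]
  simp only [List.toFinset_filter]
  choose f hf1 hf2 hf3 using h1
  refine Finset.card_bij (fun a ha => f a (List.mem_toFinset.1 (Finset.mem_filter.1 ha).1) (Finset.mem_filter.1 ha).2)
    (fun a ha => Finset.mem_filter.2 ⟨List.mem_toFinset.2 (hf1 _ _ _), hf2 _ _ _⟩)
    (fun a ha a' ha' e => hg _ _ _ (hf3 a _ _) (e ▸ hf3 a' _ _)) fun b hb => ?_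
  obtain ⟨a, ha, hP, hR⟩ := h2 b (List.mem_toFinset.1 (Finset.mem_filter.1 hb).1) (Finset.mem_filter.1 hb).2
  exact ⟨a, Finset.mem_filter.2 ⟨List.mem_toFinset.2 ha, hP⟩, hf _ _ _ (hf3 a _ _) hR⟩

theorem invTab_fst_nodup : (invTab.map Prod.fst).Nodup := by
  rw [← eq_of_beq invTab_fst]
  exact elems_nodup.filter _

namespace Loc

variable {G : Type*} [Group G] {z : G} {I : ℕ → G} (L : Loc z I)
include L

/-- The partner of a fused class, with the conjugating element. -/
theorem exists_partner {c : ℕ} (hc : c < 8) (h0 : c ≠ 0) (h : IsConj (I (repC c)) z) :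
    ∃ g : G, ∃ d, d < 8 ∧ d ≠ 0 ∧ IsConj (I (repC d)) z ∧ g * I (repC c) * g⁻¹ = z ∧ g * z * g⁻¹ = I (repC d) := by
  obtain ⟨g, hg⟩ := isConj_iff.1 h
  have hcomm : (g * z * g⁻¹) * z = z * (g * z * g⁻¹) := by
    conv_lhs => arg 2; rw [← hg]
    conv_rhs => arg 1; rw [← hg]
    calc g * z * g⁻¹ * (g * I (repC c) * g⁻¹) = g * (z * I (repC c)) * g⁻¹ := by group
      _ = g * (I (repC c) * z) * g⁻¹ := by rw [L.comm_z (Mem.rep c)]
      _ = g * I (repC c) * g⁻¹ * (g * z * g⁻¹) := by group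
  obtain ⟨w, hw, hwe⟩ := (L.range _).1 hcomm
  have hwz : IsConj (I w) z := isConj_iff.2 ⟨g⁻¹, by rw [hwe]; group⟩
  obtain ⟨hlt, hF⟩ := (L.fused_cls hw).1 hwz
  obtain ⟨-, hw1, hw2⟩ := clsOf_none hlt
  obtain ⟨-, k, hk, hkw⟩ := cls_spec hw hw1 hw2
  have hkz := L.comm_z hk
  refine ⟨(I k)⁻¹ * g, clsOf w, hlt, fun h => ?_, hF, ?_, ?_⟩
  · apply h0
    have hs : I w = z := by
      rw [← hkw, h, L.map_cj hk (Mem.rep 0), repC_zero, L.map_s, hkz, mul_inv_cancel_right]
    have hzg : g * z * g⁻¹ = g * I (repC c) * g⁻¹ := by rw [← hwe, hs, hg]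
    have : I (repC c) = z := (mul_left_cancel (mul_right_cancel hzg)).symm
    rw [← L.map_s] at this
    have e := L.inj _ _ (Mem.rep c) mem_sC this
    have h8 := List.all_eq_true.1 repC_ok c (List.mem_range.2 hc)
    simp only [Bool.and_eq_true, Nat.beq_eq] at h8
    rw [← h8.2, e]
    decide +kernel
  · calc (I k)⁻¹ * g * I (repC c) * ((I k)⁻¹ * g)⁻¹ = (I k)⁻¹ * (g * I (repC c) * g⁻¹) * I k := by group
      _ = (I k)⁻¹ * (I k * z) := by rw [hg, mul_assoc, ← hkz]
      _ = z := by group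
  · calc (I k)⁻¹ * g * z * ((I k)⁻¹ * g)⁻¹ = (I k)⁻¹ * (g * z * g⁻¹) * I k := by group
      _ = (I k)⁻¹ * I w * I k := by rw [hwe]
      _ = I (repC (clsOf w)) := by rw [← hkw, L.map_cj hk (Mem.rep _), hkw]; group

/-- Conjugation between the two common centralizers. -/
theorem conj_cent {g : G} {a b x : ℕ} (ha : Mem a) (hb : Mem b) (h1 : g * I a * g⁻¹ = z)
    (h2 : g * z * g⁻¹ = I b) (hx : Mem x) (hxa : mulC x a = mulC a x) :
    ∃ y, Mem y ∧ mulC y b = mulC b y ∧ I y = g * I x * g⁻¹ := by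
  have e : (g * I x * g⁻¹) * z = z * (g * I x * g⁻¹) := by
    rw [← h1]
    calc g * I x * g⁻¹ * (g * I a * g⁻¹) = g * (I x * I a) * g⁻¹ := by group
      _ = g * (I a * I x) * g⁻¹ := by rw [(L.comm_iff hx ha).2 hxa]
      _ = g * I a * g⁻¹ * (g * I x * g⁻¹) := by group
  obtain ⟨y, hy, hye⟩ := (L.range _).1 e
  refine ⟨y, hy, (L.comm_iff hy hb).1 ?_, hye⟩
  rw [hye, ← h2]
  calc g * I x * g⁻¹ * (g * z * g⁻¹) = g * (I x * z) * g⁻¹ := by group
    _ = g * (z * I x) * g⁻¹ := by rw [L.comm_z hx]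
    _ = g * z * g⁻¹ * (g * I x * g⁻¹) := by group

theorem conj_cent' {g : G} {a b y : ℕ} (ha : Mem a) (hb : Mem b) (h1 : g * I a * g⁻¹ = z)
    (h2 : g * z * g⁻¹ = I b) (hy : Mem y) (hyb : mulC y b = mulC b y) :
    ∃ x, Mem x ∧ mulC x a = mulC a x ∧ I y = g * I x * g⁻¹ := by
  obtain ⟨x, hx, hxa, e⟩ := L.conj_cent (g := g⁻¹) hb ha (by rw [← h2]; group) (by rw [← h1]; group) hy hyb
  exact ⟨x, hx, hxa, by rw [e]; group⟩

theorem cardC_eq {g : G} {c d : ℕ} (h1 : g * I (repC c) * g⁻¹ = z) (h2 : g * z * g⁻¹ = I (repC d)) :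
    cardC c = cardC d ∧ rootA c = rootB d := by
  have hc := Mem.rep c; have hd := Mem.rep d
  have hf : ∀ a b b', (Mem b ∧ I b = g * I a * g⁻¹) → (Mem b' ∧ I b' = g * I a * g⁻¹) → b = b' :=
    fun a b b' h h' => L.inj _ _ h.1 h'.1 (h.2.trans h'.2.symm)
  constructor
  · refine length_filter_eq elems_nodup elems_nodup (fun a b => (Mem a ∧ Mem b) ∧ I b = g * I a * g⁻¹) ?_ ?_
      (fun a b b' h h' => hf a b b' ⟨h.1.2, h.2⟩ ⟨h'.1.2, h'.2⟩)
      (fun a a' b h h' => L.inj _ _ h.1.1 h'.1.1 (mul_left_cancel (mul_right_cancel (h.2.symm.trans h'.2))))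
    · intro x hx hP
      simp only [commC, Nat.beq_eq] at hP
      obtain ⟨y, hy, hyd, e⟩ := L.conj_cent hc hd h1 h2 (mem_iff_elems.2 hx) hP
      exact ⟨y, mem_iff_elems.1 hy, by simp only [commC, Nat.beq_eq]; exact hyd, ⟨mem_iff_elems.2 hx, hy⟩, e⟩
    · intro y hy hQ
      simp only [commC, Nat.beq_eq] at hQ
      obtain ⟨x, hx, hxc, e⟩ := L.conj_cent' hc hd h1 h2 (mem_iff_elems.2 hy) hQ
      exact ⟨x, mem_iff_elems.1 hx, by simp only [commC, Nat.beq_eq]; exact hxc, ⟨hx, mem_iff_elems.2 hy⟩, e⟩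
  · refine length_filter_eq elems_nodup elems_nodup (fun a b => (Mem a ∧ Mem b) ∧ I b = g * I a * g⁻¹) ?_ ?_
      (fun a b b' h h' => hf a b b' ⟨h.1.2, h.2⟩ ⟨h'.1.2, h'.2⟩)
      (fun a a' b h h' => L.inj _ _ h.1.1 h'.1.1 (mul_left_cancel (mul_right_cancel (h.2.symm.trans h'.2))))
    · intro x hx hP
      rw [Nat.beq_eq] at hP
      obtain ⟨y, hy, hyd, e⟩ := L.conj_cent hc hd h1 h2 (mem_iff_elems.2 hx)
        (by rw [← hP, mulC_assoc])
      refine ⟨y, mem_iff_elems.1 hy, ?_, ⟨mem_iff_elems.2 hx, hy⟩, e⟩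
      simp only [commC, Bool.and_eq_true, Nat.beq_eq]
      refine ⟨hyd, L.inj _ _ (hy.mul hy) mem_sC ?_⟩
      have hx' := mem_iff_elems.2 hx
      calc I (mulC y y) = g * (I x * I x) * g⁻¹ := by rw [L.hom _ _ hy hy, e]; group
        _ = g * I (repC c) * g⁻¹ := by rw [← L.hom _ _ hx' hx', hP]
        _ = I sC := by rw [h1, L.map_s]
    · intro y hy hQ
      simp only [commC, Bool.and_eq_true, Nat.beq_eq] at hQ
      obtain ⟨x, hx, hxc, e⟩ := L.conj_cent' hc hd h1 h2 (mem_iff_elems.2 hy) hQ.1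
      refine ⟨x, mem_iff_elems.1 hx, ?_, ⟨hx, mem_iff_elems.2 hy⟩, e⟩
      rw [Nat.beq_eq]
      refine L.inj _ _ (hx.mul hx) hc (mul_left_cancel (a := g) (mul_right_cancel (b := g⁻¹) ?_))
      have hy' := mem_iff_elems.2 hy
      calc g * I (mulC x x) * g⁻¹ = I y * I y := by rw [L.hom _ _ hx hx, e]; group
        _ = g * I (repC c) * g⁻¹ := by rw [← L.hom _ _ hy' hy', hQ.2, L.map_s, h1]

theorem pair_eq {g : G} {c d m : ℕ} (hcc : c ∈ candCls) (hdd : d ∈ candCls)
    (hm : ∀ i < 8, inMask m i = true ↔ IsConj (I (repC i)) z)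
    (h1 : g * I (repC c) * g⁻¹ = z) (h2 : g * z * g⁻¹ = I (repC d)) :
    cnt m (pairA c) = cnt m (pairB d) := by
  have hp : ∀ k ∈ candCls, (invCent k).map (fun e => (e.2.1, clsOf (mulC e.1 (repC k)))) = pairA k ∧
      (invCent k).map (fun e => (e.2.1, clsOf (mulC e.1 sC))) = pairB k := by
    intro k hk
    have := List.all_eq_true.1 pairs_ok k hk
    simp only [Bool.and_eq_true, beq_iff_eq] at this
    exact this
  have hmask : ∀ x, Mem x → (inMask m (clsOf x) = true ↔ IsConj (I x) z) := by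
    intro x hx
    rw [L.fused_cls hx]
    rcases Nat.lt_or_ge (clsOf x) 8 with h | h
    · rw [hm _ h]; simp [h]
    · simp only [inMask, Bool.or_eq_true, Bool.and_eq_true, Nat.beq_eq, Nat.blt_eq]
      constructor
      · rintro (h' | ⟨h', -⟩) <;> omega
      · exact fun h' => absurd h'.1 (by omega)
  have hnd : ∀ k, (invCent k).Nodup := fun k => (List.Nodup.of_map _ invTab_fst_nodup).filter _
  have hsp : ∀ e ∈ invTab, Mem e.1 ∧ clsOf e.1 = e.2.1 := fun e he => by
    have hm : e.1 ∈ elems.filter isInv := by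
      rw [eq_of_beq invTab_fst]; exact List.mem_map.2 ⟨e, he, rfl⟩
    have := List.all_eq_true.1 invTab_ok e he
    simp only [Bool.and_eq_true, Nat.beq_eq] at this
    exact ⟨mem_iff_elems.2 (List.mem_filter.1 hm).1, this.2⟩
  have hinj : ∀ e ∈ invTab, ∀ e' ∈ invTab, e.1 = e'.1 → e = e' :=
    fun e he e' he' => List.inj_on_of_nodup_map invTab_fst_nodup he he'
  have hc := Mem.rep c; have hd := Mem.rep d
  simp only [cnt, ← (hp c hcc).1, ← (hp d hdd).2, List.filter_map, List.length_map]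
  refine length_filter_eq (hnd c) (hnd d)
    (fun a b => (a ∈ invTab ∧ b ∈ invTab) ∧ I b.1 = g * I a.1 * g⁻¹) ?_ ?_
    (fun a b b' h h' => hinj _ h.1.2 _ h'.1.2 (L.inj _ _ (hsp _ h.1.2).1 (hsp _ h'.1.2).1 (h.2.trans h'.2.symm)))
    (fun a a' b h h' => hinj _ h.1.1 _ h'.1.1 (L.inj _ _ (hsp _ h.1.1).1 (hsp _ h'.1.1).1
      (mul_left_cancel (mul_right_cancel (h.2.symm.trans h'.2)))))
  · rintro a ha hP
    obtain ⟨ha, hac⟩ := List.mem_filter.1 ha
    simp only [commC, Nat.beq_eq] at hac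
    obtain ⟨hma, hcla⟩ := hsp a ha
    simp only [Function.comp, Bool.and_eq_true, ← hcla] at hP
    rw [hmask _ hma, hmask _ (hma.mul hc)] at hP
    obtain ⟨y, hy, hyd, e⟩ := L.conj_cent hc hd h1 h2 hma hac
    have hyz : IsConj (I y) z := (isConj_iff.2 ⟨g, e.symm⟩ : IsConj (I a.1) (I y)).symm.trans hP.1
    obtain ⟨b, hb, rfl⟩ := mem_invTab hy (L.inj _ _ (hy.mul hy) mem_one
      (by rw [L.hom _ _ hy hy, L.map_one, L.mul_self_of_conj hyz])) fun h => L.ne_one_of_conj hyz (h ▸ L.map_one)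
    refine ⟨b, List.mem_filter.2 ⟨hb, by simp only [commC, Nat.beq_eq]; exact hyd⟩, ?_, ⟨ha, hb⟩, e⟩
    simp only [Function.comp, Bool.and_eq_true, ← (hsp b hb).2]
    rw [hmask _ hy, hmask _ (hy.mul mem_sC)]
    refine ⟨hyz, (isConj_iff.2 ⟨g, ?_⟩ : IsConj (I (mulC a.1 (repC c))) (I (mulC b.1 sC))).symm.trans hP.2⟩
    rw [L.hom _ _ hma hc, L.hom _ _ hy mem_sC, L.map_s, e, ← h1]; group
  · rintro b hb hQ
    obtain ⟨hb, hbd⟩ := List.mem_filter.1 hb
    simp only [commC, Nat.beq_eq] at hbd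
    obtain ⟨hmb, hclb⟩ := hsp b hb
    simp only [Function.comp, Bool.and_eq_true, ← hclb] at hQ
    rw [hmask _ hmb, hmask _ (hmb.mul mem_sC)] at hQ
    obtain ⟨x, hx, hxc, e⟩ := L.conj_cent' hc hd h1 h2 hmb hbd
    have hxz : IsConj (I x) z := (isConj_iff.2 ⟨g, e.symm⟩ : IsConj (I x) (I b.1)).trans hQ.1
    obtain ⟨a, ha, rfl⟩ := mem_invTab hx (L.inj _ _ (hx.mul hx) mem_one
      (by rw [L.hom _ _ hx hx, L.map_one, L.mul_self_of_conj hxz])) fun h => L.ne_one_of_conj hxz (h ▸ L.map_one)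
    refine ⟨a, List.mem_filter.2 ⟨ha, by simp only [commC, Nat.beq_eq]; exact hxc⟩, ?_, ⟨ha, hb⟩, e⟩
    simp only [Function.comp, Bool.and_eq_true, ← (hsp a ha).2]
    rw [hmask _ hx, hmask _ (hx.mul hc)]
    refine ⟨hxz, (isConj_iff.2 ⟨g, ?_⟩ : IsConj (I (mulC a.1 (repC c))) (I (mulC b.1 sC))).trans hQ.2⟩
    rw [L.hom _ _ hx hc, L.hom _ _ hmb mem_sC, L.map_s, e, ← h1]; group

/-- The classes never fused. -/
theorem h45_not {c : ℕ} (hc : c ∈ [4, 5]) : ¬ IsConj (I (repC c)) z := by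
  intro h
  have hc' : c < 8 ∧ c ≠ 0 := by simp at hc; omega
  obtain ⟨g, d, hd, hd0, -, h1, h2⟩ := L.exists_partner hc'.1 hc'.2 h
  obtain ⟨e1, e2⟩ := L.cardC_eq h1 h2
  exact no_partner hc hd hd0 ⟨e1, e2⟩

/-- The fused classes form one of seven patterns. -/
theorem exists_mask : ∃ m, m ∈ [0, 2, 4, 14, 78, 142, 206] ∧
    ∀ i < 8, inMask m i = true ↔ IsConj (I (repC i)) z := by
  classical
  let f : ℕ → ℕ := fun i => if IsConj (I (repC i)) z then 2 ^ i else 0
  let m := f 1 + f 2 + f 3 + f 4 + f 5 + f 6 + f 7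
  have h45 : ∀ c ∈ [4, 5], ¬ IsConj (I (repC c)) z := fun c hc => L.h45_not hc
  have hbits : ∀ b1 b2 b3 b6 b7 : Bool,
      let k := (bif b1 then 2 else 0) + (bif b2 then 4 else 0) + (bif b3 then 8 else 0) + (bif b6 then 64 else 0) +
        (bif b7 then 128 else 0)
      k < 256 ∧ k.testBit 0 = false ∧ k.testBit 1 = b1 ∧ k.testBit 2 = b2 ∧ k.testBit 3 = b3 ∧
        k.testBit 4 = false ∧ k.testBit 5 = false ∧ k.testBit 6 = b6 ∧ k.testBit 7 = b7 := by decide +kernel
  obtain ⟨hlt, t0, t1, t2, t3, t4, t5, t6, t7⟩ := hbits (decide (IsConj (I (repC 1)) z))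
    (decide (IsConj (I (repC 2)) z)) (decide (IsConj (I (repC 3)) z)) (decide (IsConj (I (repC 6)) z))
    (decide (IsConj (I (repC 7)) z))
  have hm0 : m = (bif decide (IsConj (I (repC 1)) z) then 2 else 0) + (bif decide (IsConj (I (repC 2)) z) then 4 else 0) +
      (bif decide (IsConj (I (repC 3)) z) then 8 else 0) + (bif decide (IsConj (I (repC 6)) z) then 64 else 0) +
      (bif decide (IsConj (I (repC 7)) z) then 128 else 0) := by
    simp only [m, f, if_neg (h45 4 (by simp)), if_neg (h45 5 (by simp))]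
    simp [Bool.cond_decide]
  rw [← hm0] at hlt t0 t1 t2 t3 t4 t5 t6 t7
  have hm : ∀ i < 8, inMask m i = true ↔ IsConj (I (repC i)) z := by
    intro i hi
    simp only [inMask, Bool.or_eq_true, Bool.and_eq_true, Nat.beq_eq, Nat.blt_eq]
    have h0 : IsConj (I (repC 0)) z := by rw [repC_zero, L.map_s]
    interval_cases i
    · exact ⟨fun _ => h0, fun _ => Or.inl rfl⟩
    · rw [t1]
      exact ⟨fun h => of_decide_eq_true (h.resolve_left (by norm_num)).2, fun h => Or.inr ⟨by norm_num, decide_eq_true h⟩⟩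
    · rw [t2]
      exact ⟨fun h => of_decide_eq_true (h.resolve_left (by norm_num)).2, fun h => Or.inr ⟨by norm_num, decide_eq_true h⟩⟩
    · rw [t3]
      exact ⟨fun h => of_decide_eq_true (h.resolve_left (by norm_num)).2, fun h => Or.inr ⟨by norm_num, decide_eq_true h⟩⟩
    · rw [t4]
      exact ⟨fun h => absurd (h.resolve_left (by norm_num)).2 Bool.false_ne_true, fun h => absurd h (h45 4 (by simp))⟩
    · rw [t5]
      exact ⟨fun h => absurd (h.resolve_left (by norm_num)).2 Bool.false_ne_true, fun h => absurd h (h45 5 (by simp))⟩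
    · rw [t6]
      exact ⟨fun h => of_decide_eq_true (h.resolve_left (by norm_num)).2, fun h => Or.inr ⟨by norm_num, decide_eq_true h⟩⟩
    · rw [t7]
      exact ⟨fun h => of_decide_eq_true (h.resolve_left (by norm_num)).2, fun h => Or.inr ⟨by norm_num, decide_eq_true h⟩⟩
  refine ⟨m, ?_, hm⟩
  have h := List.all_eq_true.1 mask_ok m (List.mem_range.2 hlt)
  simp only [t0, t4, t5, Bool.false_or, Bool.or_eq_true, Bool.not_eq_true', List.any_eq_true, Nat.beq_eq] at h
  rcases h with h | ⟨k, hk, rfl⟩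
  · exfalso
    rw [List.all_eq_false] at h
    obtain ⟨c, hc, hcf⟩ := h
    simp only [Bool.or_eq_true, Bool.not_eq_true', List.any_eq_true, Bool.and_eq_true, Nat.beq_eq, not_or,
      not_exists, not_and, Bool.not_eq_false] at hcf
    obtain ⟨hmc, hno⟩ := hcf
    have hc8 : c < 8 ∧ c ≠ 0 := by simp [candCls] at hc; omega
    have hF : IsConj (I (repC c)) z := (hm c hc8.1).1 (by simp [inMask, hmc, hc8.1])
    obtain ⟨g, d, hd, hd0, hFd, h1, h2⟩ := L.exists_partner hc8.1 hc8.2 hF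
    have hdm : inMask m d = true := (hm d hd).2 hFd
    simp only [inMask, Bool.or_eq_true, Bool.and_eq_true, Nat.beq_eq, Nat.blt_eq] at hdm
    have hdc : d ∈ candCls := by
      have hb : m.testBit d = true := (hdm.resolve_left hd0).2
      have hcases : ∀ e < 8, e ≠ 0 → e ∈ candCls ∨ e = 4 ∨ e = 5 := by decide +kernel
      rcases hcases d hd hd0 with h | rfl | rfl
      · exact h
      · rw [t4] at hb; exact absurd hb Bool.false_ne_true
      · rw [t5] at hb; exact absurd hb Bool.false_ne_true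
    exact hno d hdc (hdm.resolve_left hd0).2 (L.pair_eq hc hdc hm h1 h2)
  · exact hk

end Loc

end Cfsg.Agent.Fus.Transv
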