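import Cfsg.Agent.Lib.Fus.Transv.GenData
import Cfsg.Agent.Lib.Fus.Transv.Bound

/-!
# The four letters generate the centralizer
-/

set_option autoImplicit false
set_option maxRecDepth 100000

namespace Cfsg.Agent.Fus.Transv

open Cfsg.Agent.Spor.Cos (force force_eq ev ev_mem)

/-- The words stand for the translations and the blocks. -/
noncomputable def partsOk : Bool :=
  ((List.range 8).all fun w => (List.range 2).all fun x =>
      ((wordsW.getD (2 * w + x) []).all fun s => Nat.blt s 4) &&
        Nat.beq (wC (wordsW.getD (2 * w + x) [])) (mkC x 0 w 273)) &&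
    ((List.range 8).all fun v =>
      ((wordsV.getD v []).all fun s => Nat.blt s 4) && Nat.beq (wC (wordsV.getD v [])) (mkC 0 v 0 273)) &&
    glList.all fun m => wordsB.any fun e =>
      Nat.beq e.1 m && (e.2.all fun s => Nat.blt s 4) && Nat.beq (wC e.2) (mkC 0 0 0 m)

/-- The decomposition of the elements with the given block. -/
noncomputable def splitOk (m : ℕ) : Bool :=
  force (mkC 0 0 0 m) fun B => (List.range 8).all fun w => (List.range 2).all fun x =>
    force (mulC (mkC x 0 w 273) B) fun AB => (List.range 8).all fun v =>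
      Nat.beq (mulC AB (mkC 0 v 0 273)) (mkC x v w m)

theorem partsOk_true : partsOk = true := by decide +kernel

theorem split_all : (glList.all splitOk) = true := by decide +kernel

variable {K : Type*} [Group K] {I : ℕ → K} {a b : K} {ta tb : CTree} (P : Pair I a b ta tb)
include P

theorem gW_mem_genGrp (s : ℕ) : gW I a b s ∈ genGrp I a b := by
  refine Subgroup.subset_closure ⟨min s 5, by omega, ?_⟩
  by_cases h : s < 6
  · rw [Nat.min_eq_left (by omega)]
  · simp only [gW, show min s 5 = 5 by omega, show ¬ s < 4 by omega, show ¬ s = 4 by omega]; simp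

theorem Pair.I_mem_genGrp {c : ℕ} (hc : Mem c) : I c ∈ genGrp I a b := by
  have hw : ∀ w : List ℕ, (∀ s ∈ w, s < 4) → I (wC w) ∈ genGrp I a b := fun w h => by
    rw [← P.ev_wC w h]
    exact ev_mem _ fun s _ => gW_mem_genGrp P s
  have hp := partsOk_true
  simp only [partsOk, Bool.and_eq_true, List.all_eq_true, List.any_eq_true, List.mem_range, Nat.blt_eq, Nat.beq_eq] at hp
  have he := mem_iff_elems.1 hc
  simp only [elems, List.mem_flatMap, List.mem_map, List.mem_range] at he
  obtain ⟨m, hm, w, hw8, v, hv8, x, hx2, rfl⟩ := he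
  have hs := List.all_eq_true.1 split_all m hm
  simp only [splitOk, force_eq, List.all_eq_true, List.mem_range, Nat.beq_eq] at hs
  obtain ⟨e, -, ⟨rfl, hel⟩, hev⟩ := hp.2 m hm
  obtain ⟨hAl, hA⟩ := hp.1.1 w hw8 x hx2
  obtain ⟨hVl, hV⟩ := hp.1.2 v hv8
  rw [← hs w hw8 x hx2 v hv8, ← hA, ← hev, ← hV, P.hom _ _ ((Mem.wC _).mul (Mem.wC _)) (Mem.wC _),
    P.hom _ _ (Mem.wC _) (Mem.wC _)]
  exact mul_mem (mul_mem (hw _ hAl) (hw _ hel)) (hw _ hVl)

end Cfsg.Agent.Fus.Transv
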