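import Cfsg.Agent.Lib.Fus.Transv.Code

/-! Generated data for the centralizer of a transvection. -/

set_option autoImplicit false
set_option maxRecDepth 100000

namespace Cfsg.Agent.Fus.Transv

/-- Words for the translations in the first column, by `w` and `x`. -/
def wordsW : List (List ℕ) := [
  [],
  [0, 3, 0, 3, 0, 3],
  [0, 3, 0, 2, 0, 3, 0, 2],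
  [0, 3, 0, 2, 3, 0, 3, 2],
  [0, 1, 0, 2, 0, 1, 3, 0, 2],
  [1, 0, 3, 0, 2, 0, 3, 0, 2, 1],
  [0, 1, 3, 0, 1, 3, 0, 1, 3],
  [0, 1, 0, 1, 3, 0, 1, 0, 3],
  [0, 2, 3, 0, 3, 2, 0, 3],
  [0, 2, 0, 3, 0, 2, 0, 3],
  [0, 3, 2, 0, 3, 0, 2, 3],
  [0, 3, 2, 3, 0, 3, 2, 3],
  [1, 0, 3, 2, 3, 0, 3, 2, 1, 3],
  [1, 0, 3, 2, 0, 3, 0, 2, 1, 3],
  [0, 2, 0, 1, 0, 3, 0, 3, 2, 0, 1],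
  [0, 2, 0, 1, 3, 0, 2, 0, 1]]

/-- Words for the translations in the first row. -/
def wordsV : List (List ℕ) := [
  [],
  [1, 0, 1, 2, 1, 0, 2, 3, 2, 1, 2],
  [0, 1, 2, 1, 0, 2, 3, 2, 1, 2, 1],
  [1, 2, 1, 3, 2, 3, 2, 1, 3, 2],
  [0, 1, 2, 0, 2, 1, 0, 3, 0, 2, 3, 2, 3],
  [1, 3, 2, 1, 2, 1, 3, 2, 3, 2],
  [1, 0, 2, 3, 2, 0, 1, 3, 2, 1, 2, 3],
  [0, 1, 2, 1, 0, 1, 2, 1, 2, 3, 2]]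

/-- Words for the blocks. -/
def wordsB : List (ℕ × List ℕ) := [
  (84, [0, 1, 0, 2, 0, 1, 3, 0, 3, 2]),
  (85, [0, 3, 0, 2, 3, 2]),
  (86, [3, 2, 0, 1, 2, 1, 2, 1, 0]),
  (87, [2, 0, 2, 1, 2, 0, 1, 2, 1]),
  (92, [1, 2, 0, 2, 3, 0, 1, 2, 1, 3]),
  (93, [2, 3, 2, 0, 3, 2, 1, 2, 3, 0]),
  (94, [0, 1, 2, 0, 2, 0, 3, 2, 3]),
  (95, [1, 0, 1, 2, 0, 1, 0]),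
  (98, [3, 2, 0, 2, 0, 2, 0, 1, 2, 3]),
  (99, [1, 3, 2, 1, 0, 2, 3, 2, 1, 3]),
  (102, [1, 2, 0, 2, 0, 3, 2, 1, 3, 0]),
  (103, [0, 1, 2, 3, 0, 1, 3, 0, 1]),
  (106, [0, 2, 3, 0, 3, 2, 0, 2, 1, 0, 2, 1]),
  (107, [2, 0, 3, 2, 0, 1, 3, 0, 1, 0]),
  (110, [3, 2, 0, 1, 3, 0, 3, 2, 1, 2]),
  (111, [0, 1, 3, 2, 3, 0, 2, 0, 1, 2, 3]),
  (114, [1, 0, 3, 0, 1, 2, 0, 2, 1, 2, 0]),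
  (115, [1, 0, 2, 0, 1, 0, 1, 2, 1, 2, 0, 2]),
  (116, [0, 1, 3, 2, 3, 2, 0, 1, 2, 1]),
  (117, [3, 2, 3, 2, 1, 2, 0, 2, 0]),
  (122, [3, 2, 1, 2, 1]),
  (123, [2, 0, 2, 1, 3, 2, 1, 0, 2, 3, 2]),
  (124, [0, 2, 1, 2, 1, 0, 2, 0, 1, 3, 0, 2]),
  (125, [0, 3, 2, 1, 2, 0]),
  (140, [3, 2, 1, 0, 2, 0, 2, 0, 2, 3]),
  (141, [0, 2, 3, 0, 2, 0, 2, 1, 0, 2, 0]),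
  (142, [2, 1, 2, 0, 1, 0, 3, 2, 1, 3, 2]),
  (143, [0, 3, 0, 3, 2, 0, 2, 0, 1]),
  (156, [0, 1, 3, 2, 3, 0, 2, 0, 2, 1]),
  (157, [0, 1, 0, 1, 2, 3, 2, 1, 3, 2]),
  (158, [1, 0, 3, 2, 0, 3, 0, 1, 3, 0]),
  (159, [1, 3, 2, 1, 3, 0, 2, 0, 2]),
  (161, [0, 1, 2, 1, 0, 2, 1, 2, 1, 2, 3, 2]),
  (163, [0, 2, 1, 2, 0, 1, 0, 3]),
  (165, [3, 0, 1, 0, 2, 1, 2, 0]),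
  (167, [0, 2, 3, 2, 0, 1, 3, 2, 3, 2]),
  (169, [0, 3, 0, 2, 0, 3, 2, 1, 0, 1]),
  (171, [2, 3, 2, 1, 0, 3]),
  (172, [1, 3, 2, 3, 2, 0, 1, 2, 1, 3]),
  (174, [0, 1, 2, 0, 2, 0, 1, 3, 2, 1]),
  (177, [0, 1, 2, 3, 2, 0, 1, 2, 0, 3]),
  (179, [1, 0, 2, 1, 2, 0, 2, 0, 1, 2, 1]),
  (181, [0, 1, 2, 0, 1, 2, 0, 1, 3, 2]),
  (183, [1, 3, 2, 3, 0, 2, 0, 1, 2]),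
  (185, [2, 0, 2, 1, 0, 2, 0, 2, 1]),
  (187, [0, 2, 0, 2, 0, 2, 3, 0, 1, 2, 1]),
  (188, [0, 1, 0, 3, 0, 2, 1, 0, 3]),
  (190, [1, 2, 3, 0, 2, 1, 0, 2]),
  (204, [0, 1, 2, 1, 2, 1, 2, 1, 2, 0, 2]),
  (205, [2, 1, 2, 0, 1, 2, 1, 2, 3, 2, 1]),
  (206, [1, 3, 2, 1, 2, 0, 1, 3, 0, 1, 2, 1]),
  (207, [1, 0, 2, 0, 2, 3, 0, 2, 1, 2, 0]),
  (212, [0, 1, 2, 1, 2, 1, 0, 2, 3]),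
  (213, [2, 0, 1, 3, 2, 1, 2, 1, 0, 2]),
  (214, [0, 1, 3, 0, 2, 0, 2, 1, 2, 1, 0, 2]),
  (215, [0, 1, 2, 3, 2, 3, 0, 1, 2, 1, 2]),
  (225, [0, 2, 0, 2, 1, 2, 1, 3, 2, 1]),
  (226, [0, 1, 3, 0, 1, 3, 0, 2, 0, 3, 2]),
  (229, [0, 1, 0, 1, 2, 1, 2, 0, 2, 0, 2]),
  (230, [2, 0, 2, 0, 1, 3, 2, 1, 3]),
  (233, [0, 3, 0, 1, 0, 3]),
  (234, [1, 2, 3, 0, 3, 2, 0]),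
  (236, [0, 2, 3, 2, 1, 2, 1, 2, 0, 2, 3]),
  (239, [0, 2, 1, 2, 3, 0, 1, 2, 1, 2, 3]),
  (241, [1, 3, 0, 2, 3, 2, 1, 2, 0, 1, 2]),
  (242, [1, 2, 3, 2, 1, 2, 1, 0, 2, 1, 2]),
  (244, [0, 1, 0, 2, 1, 0, 1]),
  (247, [0, 3, 0, 2, 0, 3, 0, 1, 0]),
  (249, [0, 1, 2, 0, 2, 1, 2, 1, 3, 2]),
  (250, [0, 3, 0, 1, 3, 0, 2, 0, 3, 2, 1]),
  (253, [2, 0, 1, 2, 0, 1, 3, 2, 3]),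
  (254, [2, 1, 0, 3, 0, 3, 2, 0, 3, 2]),
  (266, [2, 0, 2, 1, 2, 0, 2, 3]),
  (267, [0, 2, 1, 2, 0, 2, 0, 3, 0, 1, 0]),
  (270, [1, 3, 2, 1, 2, 1, 2, 0, 1, 3]),
  (271, [0, 1, 2, 1, 3, 2, 3, 0, 2]),
  (273, []),
  (275, [0, 3, 2, 1, 2, 0, 1, 2, 1, 2, 3]),
  (277, [0, 1, 3, 0, 2, 0, 1, 3, 0, 2]),
  (279, [0, 2, 0, 1, 3, 0, 2, 0, 2, 1, 2, 1]),
  (281, [0, 3, 2, 1, 3, 2, 0, 3, 0, 3]),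
  (282, [0, 1, 0, 3, 0, 2, 0, 2, 1, 2, 0]),
  (285, [1, 3, 0, 2, 0, 3, 0, 1, 0, 2, 3]),
  (286, [2, 0, 1, 3, 2, 1, 3, 2, 0]),
  (298, [1, 3, 0, 2, 1, 2, 1, 2, 1, 3]),
  (299, [0, 2, 0, 1, 2, 1, 3, 2, 3, 2, 0, 1]),
  (302, [1, 3, 0, 1, 2, 0, 2, 1, 2, 1, 0, 2]),
  (303, [0, 1, 3, 2, 1, 3, 2, 0, 2]),
  (305, [0, 2, 1, 0, 2, 1, 0, 2, 3, 2, 3]),
  (307, [2, 0, 1, 0, 3, 0, 3]),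
  (309, [1, 0, 1, 2, 0, 2, 1, 2, 1, 0, 2, 3]),
  (311, [0, 1, 0, 3, 0, 3, 2]),
  (313, [0, 2, 1, 2, 0, 2, 3, 2]),
  (314, [2, 0, 1, 2, 1, 3, 2, 3, 0]),
  (317, [1, 0, 1, 3, 2, 3, 0, 2, 0, 1, 3]),
  (318, [1, 0, 2, 1, 2, 1, 3, 2, 3, 0, 2, 0]),
  (330, [0, 2, 0, 2, 3, 2, 3, 2, 1]),
  (331, [1, 0, 2, 0, 2, 0, 1, 0, 1, 2]),
  (334, [0, 1, 2, 0, 2, 0, 1, 0, 3, 2, 0]),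
  (335, [0, 2, 0, 2, 3, 0, 2, 1, 0, 2, 0]),
  (337, [0, 2, 1, 2, 1, 2, 3, 2, 0, 1, 2, 1]),
  (339, [0, 1, 2, 1, 0, 2, 1, 2, 0, 3]),
  (340, [2, 3, 2, 0, 3, 0]),
  (342, [0, 1, 3, 2, 3, 0, 2, 1, 2, 0, 1]),
  (345, [2, 3, 0, 2, 1, 0, 2, 1, 0, 2, 3]),
  (346, [0, 3, 0, 1, 0, 2, 1, 2, 1]),
  (348, [0, 2, 1, 2, 3, 0]),
  (351, [2, 0, 3, 2, 3, 2, 1, 0, 1, 2, 1]),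
  (354, [0, 1, 3, 2, 0, 3, 2, 1, 2, 1, 2]),
  (355, [2, 0, 1, 2, 0, 3, 2, 1]),
  (358, [0, 1, 0, 3, 2, 0, 3, 0, 1, 3]),
  (359, [1, 2, 1, 3, 0, 2, 0, 2, 1, 0]),
  (369, [1, 2, 1, 0, 1, 2, 1, 2, 1, 0]),
  (370, [0, 2, 1, 2, 0, 3, 2, 0, 2, 0, 1]),
  (372, [0, 3, 2, 1, 2, 3, 0, 2, 3, 2]),
  (375, [0, 1, 0, 2, 1, 0, 2, 1, 2, 3]),
  (377, [0, 1, 2, 1, 2, 1, 0, 1, 2, 1]),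
  (379, [0, 1, 0, 3, 0, 2, 0, 3, 0]),
  (380, [0, 2, 0, 2, 1, 2, 3, 2, 3]),
  (382, [2, 0, 1, 3, 2, 3, 2, 3, 0]),
  (394, [1, 0, 2, 0, 2, 3, 2, 3, 2]),
  (395, [1, 0, 3, 0, 2, 1, 0, 3, 2, 3]),
  (396, [0, 3, 0, 1, 0, 3, 2, 3, 2, 0, 3, 0]),
  (397, [1, 2, 0, 1, 3, 0, 1, 0, 3, 2, 3]),
  (401, [1, 0, 2, 1, 2, 1, 2, 3, 2, 0, 1, 2]),
  (403, [1, 2, 0, 3, 0, 1, 0, 3, 2, 1]),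
  (405, [1, 0, 3, 0, 2, 1, 0, 1, 3, 2, 1]),
  (407, [0, 1, 0, 1, 2, 3, 2, 0, 3, 0, 1]),
  (409, [2, 1, 2, 0, 1, 3, 2, 0, 3]),
  (410, [1, 2, 0, 1, 2, 0, 2, 1, 2, 3]),
  (412, [1, 3, 2, 3, 2, 3, 2, 0, 1, 2, 3]),
  (415, [3, 2, 1, 3, 0, 2, 1, 0, 2]),
  (417, [3, 0, 2, 1, 0, 2, 3, 2, 1, 0]),
  (419, [2, 1, 0, 2, 0, 3, 2, 1, 3]),
  (421, [0, 2, 1, 2, 1, 0, 3, 2, 3, 0, 3]),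
  (423, [0, 1, 0, 2, 1, 2, 1, 0, 2, 1]),
  (425, [1, 0, 3, 0, 2, 0, 3, 2, 0, 1]),
  (426, [0, 2, 0, 1, 2, 0, 3, 2, 0, 2, 0]),
  (428, [0, 1, 0, 1, 2, 0, 3, 2, 0, 3]),
  (431, [1, 2, 0, 1, 2, 0, 1]),
  (442, [0, 1, 0, 2, 1, 2, 1, 0, 1, 2, 3]),
  (443, [0, 3, 2, 0, 3, 2, 3, 0, 1, 2]),
  (444, [2, 1, 2, 3, 0, 1, 3, 0, 2, 3]),
  (445, [3, 0, 3, 2, 1, 0, 2, 0, 3, 2]),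
  (458, [0, 2, 0, 1, 3, 0, 2, 0, 3]),
  (459, [1, 2, 1, 2, 0, 1, 0, 3, 0]),
  (460, [1, 2, 1, 2, 3]),
  (461, [0, 2, 3, 0, 3, 2, 1]),
  (465, [1, 2, 1, 0, 2, 0, 2, 0, 1, 2, 3]),
  (467, [3, 0, 2, 1, 2, 0, 1, 2, 1, 0]),
  (468, [1, 2, 1, 0, 2, 1, 2, 0, 2]),
  (470, [2, 0, 1, 2, 1, 2, 1, 3, 0, 2]),
  (473, [1, 3, 0, 2, 1, 3, 2, 1, 2]),
  (474, [3, 2, 3, 0, 1, 2, 0, 3, 0, 1]),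
  (477, [1, 0, 2, 1, 0, 2, 1]),
  (478, [2, 3, 0, 2, 0, 1, 2, 3, 0, 3]),
  (481, [1, 2, 0, 2, 0, 1, 2, 0, 2]),
  (482, [1, 0, 2, 0, 2, 3, 0, 3, 0]),
  (485, [3, 0, 1, 2, 3, 2]),
  (486, [2, 0, 1, 3, 2, 1, 0, 3, 2, 1]),
  (489, [2, 0, 2, 1, 0, 3, 2, 3, 2, 1, 3]),
  (491, [3, 2, 1, 2, 0, 1, 2, 0, 1, 0]),
  (492, [1, 3, 2, 1, 0, 3, 0, 2, 0, 1, 2, 1]),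
  (494, [2, 1, 2, 0, 3, 2, 1, 2, 0, 3, 2]),
  (498, [0, 1, 0, 3, 0, 3, 2, 1, 2, 1, 2, 3]),
  (499, [0, 3, 2, 3, 2, 1, 3, 0, 2]),
  (500, [3, 2, 3, 0, 2, 0, 2, 1, 0]),
  (501, [2, 3, 0, 2, 1, 2, 3, 0, 2, 1, 2])]

end Cfsg.Agent.Fus.Transv
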