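import Cfsg.Agent.Lib.Fus.Transv.Rel

/-!
# Two products that agree for one option and disagree for the other
-/

set_option autoImplicit false
set_option maxRecDepth 100000

namespace Cfsg.Agent.Fus.Transv

open Cfsg.Agent.Spor.Cos (force force_eq ev ev_append)
open NCtx (NS)

/-- A factor: an element of the centralizer, or `h a q`, with its decomposition along a subgroup. -/
structure LItem where
  /-- the kind: `0`, or the letter of the involution -/
  i : ℕ
  /-- the left part -/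
  h : ℕ
  /-- the right part -/
  q : ℕ
  /-- the left triple -/
  tl : ℕ × ℕ × ℕ
  /-- the moved element -/
  k : ℕ
  /-- the right triple -/
  tr : ℕ × ℕ × ℕ

namespace PData

variable (P : PData) (ta tb : CTree)

/-- The middle word of a factor. -/
def bW (i : ℕ) : List ℕ := bif Nat.beq i P.d.ix then P.d.xW else P.y.yW

/-- The parts of the middle word. -/
def bH (i : ℕ) : ℕ := bif Nat.beq i P.d.ix then wC P.d.wh else wC P.y.wh

/-- The parts of the middle word. -/
def bQ (i : ℕ) : ℕ := bif Nat.beq i P.d.ix then wC P.d.wq else wC P.y.wq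

/-- The checks of a factor. -/
noncomputable def itemOk (t : LItem) : Bool :=
  inH t.h && inH t.q && P.d.cOk ta tb t.tl &&
    (P.d.A.all fun x => P.d.inA (cjC (NData.cCode t.tl) x)) &&
    bif Nat.beq t.i 0 then Nat.beq (NData.cCode t.tl) t.h && Nat.beq t.q oneC
    else (Nat.beq t.i P.d.ix || Nat.beq t.i P.y.iy) && P.d.cOk ta tb t.tr &&
      (P.d.A.all fun x => P.d.inA (cjC (NData.cCode t.tr) x)) &&
      (P.d.A.all fun x => P.d.inA (act ta tb (P.bW t.i) x)) && inH t.k &&
      force (mapC (bif Nat.beq t.i 4 then ta else tb) t.k) fun k' => !Nat.beq k' 8 &&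
        Nat.beq (mulC (NData.cCode t.tl) (P.bH t.i)) (mulC t.h k') &&
        Nat.beq (mulC t.k (mulC (P.bQ t.i) (NData.cCode t.tr))) t.q

/-- The action of a factor. -/
noncomputable def iAct (t : LItem) (x : ℕ) : ℕ :=
  bif Nat.beq t.i 0 then cjC (NData.cCode t.tl) x
  else cjC (NData.cCode t.tl) (act ta tb (P.bW t.i) (cjC (NData.cCode t.tr) x))

/-- The exponent of a factor. -/
noncomputable def iExp (t : LItem) : ℕ :=
  bif Nat.beq t.i 0 then t.tl.2.2
  else NData.powE t.tl.2.2 (NData.powE (bif Nat.beq t.i P.d.ix then 1 else P.y.e) t.tr.2.2)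

/-- The pair of a factor for an option. -/
noncomputable def iDel (dopt : ℕ) (t : LItem) : ℕ :=
  bif Nat.beq t.i 0 then P.d.cDel ta tb t.tl
  else force (bif Nat.beq t.i P.d.ix then oneC else dopt) fun db =>
    force (bif Nat.beq t.i P.d.ix then 1 else P.y.e) fun eb =>
    mulC (cjC (NData.cCode t.tl) (mulC (act ta tb (P.bW t.i) (P.d.cDel ta tb t.tr)) (P.d.powS ta tb db eb t.tr.2.2)))
      (P.d.powS ta tb (P.d.cDel ta tb t.tl) t.tl.2.2 (NData.powE eb t.tr.2.2))

/-- The action of a product. -/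
noncomputable def lAct : List LItem → ℕ → ℕ
  | [], x => x
  | t :: l, x => P.iAct ta tb t (lAct l x)

/-- The exponent of a product. -/
noncomputable def lExp : List LItem → ℕ
  | [] => 1
  | t :: l => NData.powE (P.iExp t) (lExp l)

/-- The pair of a product. -/
noncomputable def lDel (dopt : ℕ) : List LItem → ℕ
  | [] => oneC
  | t :: l => mulC (P.iAct ta tb t (lDel dopt l)) (P.d.powS ta tb (P.iDel ta tb dopt t) (P.iExp t) (P.lExp l))

end PData

/-- The value of a factor. -/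
def iVal {G : Type*} [Group G] (I : ℕ → G) (a b : G) (t : LItem) : G :=
  if t.i = 0 then I t.h else I t.h * gW I a b t.i * I t.q

/-- The value of a product. -/
def lVal {G : Type*} [Group G] (I : ℕ → G) (a b : G) (l : List LItem) : G := (l.map (iVal I a b)).prod

variable {G : Type*} [Group G] {z : G} {I : ℕ → G} {a b : G} {ta tb : CTree} {P : PData}

theorem item_spec (C : NCtx z I a b ta tb P.d) (hy : P.d.YGood ta tb P.y) {dopt : ℕ}
    (hd : NS I a b P.d (ev (gW I a b) P.y.yW) dopt P.y.e) {t : LItem} (hok : P.itemOk ta tb t = true) :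
    (∀ x ∈ P.d.A, P.iAct ta tb t x ∈ P.d.A ∧ iVal I a b t * I x * (iVal I a b t)⁻¹ = I (P.iAct ta tb t x)) ∧
      NS I a b P.d (iVal I a b t) (P.iDel ta tb dopt t) (P.iExp t) := by
  simp only [PData.itemOk, Bool.and_eq_true, List.all_eq_true, NData.inA_iff] at hok
  obtain ⟨⟨⟨⟨hhm, hqm⟩, htl⟩, hlA⟩, hrest⟩ := hok
  replace hhm : Mem t.h := hhm
  obtain ⟨hlm, hls⟩ := C.NS_cCode htl
  have hl : ∀ x ∈ P.d.A, I (NData.cCode t.tl) * I x * (I (NData.cCode t.tl))⁻¹ = I (cjC (NData.cCode t.tl) x) :=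
    fun x hx => (C.loc.map_cj hlm (C.good.mem x hx).1).symm
  cases h0 : Nat.beq t.i 0 <;> rw [h0] at hrest
  · simp only [cond_false, force_eq, Bool.and_eq_true, Bool.or_eq_true, Nat.beq_eq, List.all_eq_true,
      NData.inA_iff, Bool.not_eq_true'] at hrest
    obtain ⟨⟨⟨⟨⟨hi, htr⟩, hrA⟩, hbA⟩, hkm⟩, ⟨h8, e1⟩, e2⟩ := hrest
    replace hkm : Mem t.k := hkm
    obtain ⟨hrm, hrs⟩ := C.NS_cCode htr
    have hiv : t.i = 4 ∨ t.i = 5 := by
      rcases hi with e | e <;> rw [e]
      · exact C.good.letters.2.2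
      · exact hy.letters.2.2.1
    have h8' : mapC (bif Nat.beq t.i 4 then ta else tb) t.k ≠ 8 := fun e => by rw [e] at h8; simp at h8
    have hlt : ∀ s ∈ P.bW t.i, s < 6 := by
      unfold PData.bW
      cases Nat.beq t.i P.d.ix
      · exact hy.yW_lt
      · exact C.good.xW_lt
    have hB : ∀ x ∈ P.d.A, ev (gW I a b) (P.bW t.i) * I x * (ev (gW I a b) (P.bW t.i))⁻¹ =
        I (act ta tb (P.bW t.i) x) := fun x hx =>
      (C.pair.act_sound _ (C.good.mem x hx).1 hlt fun e => not_mem_eight (e ▸ (C.good.mem _ (hbA x hx)).1)).2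
    have hbase : ev (gW I a b) (P.bW t.i) = I (P.bH t.i) * gW I a b t.i * I (P.bQ t.i) := by
      cases hx : Nat.beq t.i P.d.ix
      · have hiy : t.i = P.y.iy := hi.resolve_left fun e => by rw [e, Nat.beq_refl] at hx; simp at hx
        obtain ⟨hq1, hq2, -⟩ := hy.letters
        simp only [PData.bW, PData.bH, PData.bQ, hx, cond_false]
        rw [YData.yW, ev_append, ← C.pair.ev_wC _ hq1, ← C.pair.ev_wC _ hq2, mul_assoc, hiy]
        rfl
      · simp only [PData.bW, PData.bH, PData.bQ, hx, cond_true]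
        rw [C.X_parts, Nat.eq_of_beq_eq_true hx]
    have hbns : NS I a b P.d (ev (gW I a b) (P.bW t.i)) (bif Nat.beq t.i P.d.ix then oneC else dopt)
        (bif Nat.beq t.i P.d.ix then 1 else P.y.e) := by
      have hX : NS I a b P.d (ev (gW I a b) P.d.xW) oneC 1 :=
        ⟨C.good.one, Or.inl rfl, by rw [C.loc.map_one, one_mul, pow_one, mul_inv_cancel_right]⟩
      have c2 : ∀ {α : Type} (u v : α) (p : Bool), p = true → (bif p then u else v) = u := by
        rintro α u v p rfl; rfl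
      have c3 : ∀ {α : Type} (u v : α) (p : Bool), p = false → (bif p then u else v) = v := by
        rintro α u v p rfl; rfl
      unfold PData.bW
      by_cases hb : Nat.beq t.i P.d.ix = true
      · rw [c2 _ _ _ hb, c2 _ _ _ hb, c2 _ _ _ hb]; exact hX
      · rw [c3 _ _ _ (Bool.eq_false_iff.2 hb), c3 _ _ _ (Bool.eq_false_iff.2 hb), c3 _ _ _ (Bool.eq_false_iff.2 hb)]
        exact hd
    have hval : iVal I a b t = I (NData.cCode t.tl) * ev (gW I a b) (P.bW t.i) * I (NData.cCode t.tr) := by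
      have hb1 : Mem (P.bH t.i) := by unfold PData.bH; cases Nat.beq t.i P.d.ix <;> exact Mem.wC _
      have hb2 : Mem (P.bQ t.i) := by unfold PData.bQ; cases Nat.beq t.i P.d.ix <;> exact Mem.wC _
      have hsw := C.gW_swap hiv h8'
      have hm2 : Mem (mapC (bif Nat.beq t.i 4 then ta else tb) t.k) := by
        rcases hiv with e | e <;> simp only [e] at h8' ⊢
        · exact (C.pair.swA.map _ h8').2.1
        · exact (C.pair.swB.map _ h8').2.1
      rw [iVal, if_neg (fun e => by rw [e] at h0; simp at h0), hbase, ← e2,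
        C.loc.hom _ _ hkm (hb2.mul hrm), C.loc.hom _ _ hb2 hrm]
      calc I t.h * gW I a b t.i * (I t.k * (I (P.bQ t.i) * I (NData.cCode t.tr)))
          = I t.h * (gW I a b t.i * I t.k * (gW I a b t.i)⁻¹) * gW I a b t.i *
              (I (P.bQ t.i) * I (NData.cCode t.tr)) := by group
        _ = _ := by rw [hsw, ← C.loc.hom _ _ hhm hm2, ← e1, C.loc.hom _ _ hlm hb1]; group
    refine ⟨fun x hx => ?_, ?_⟩
    · simp only [PData.iAct, h0, cond_false]
      refine ⟨hlA _ (hbA _ (hrA x hx)), ?_⟩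
      rw [← hl _ (hbA _ (hrA x hx)), ← hB _ (hrA x hx), C.loc.map_cj hrm (C.good.mem x hx).1, hval]
      group
    · simp only [PData.iDel, PData.iExp, h0, cond_false, force_eq]
      have h1 := C.NS_mul hbns hrs (hbA _ hrs.1) (hB _ hrs.1)
      have h2 := C.NS_mul hls h1 (hlA _ h1.1) (hl _ h1.1)
      rw [← mul_assoc, ← hval] at h2
      exact h2
  · simp only [cond_true, Bool.and_eq_true, Nat.beq_eq] at hrest
    have hi : t.i = 0 := Nat.eq_of_beq_eq_true h0
    simp only [PData.iAct, PData.iDel, PData.iExp, h0, cond_true, iVal, if_pos hi, ← hrest.1]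
    exact ⟨fun x hx => ⟨hlA x hx, hl x hx⟩, hls⟩

theorem list_spec (C : NCtx z I a b ta tb P.d) (hy : P.d.YGood ta tb P.y) {dopt : ℕ}
    (hd : NS I a b P.d (ev (gW I a b) P.y.yW) dopt P.y.e) :
    ∀ {l : List LItem}, (∀ t ∈ l, P.itemOk ta tb t = true) →
      (∀ x ∈ P.d.A, P.lAct ta tb l x ∈ P.d.A ∧ lVal I a b l * I x * (lVal I a b l)⁻¹ = I (P.lAct ta tb l x)) ∧
        NS I a b P.d (lVal I a b l) (P.lDel ta tb dopt l) (P.lExp l)
  | [], _ => ⟨fun x hx => ⟨hx, by simp [lVal, PData.lAct]⟩, C.NS_one⟩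
  | t :: l, h => by
    obtain ⟨h1, h2⟩ := item_spec C hy hd (h t (List.mem_cons_self ..))
    obtain ⟨h3, h4⟩ := list_spec C hy hd (l := l) fun u hu => h u (List.mem_cons_of_mem _ hu)
    have e : lVal I a b (t :: l) = iVal I a b t * lVal I a b l := by simp [lVal]
    rw [e]
    refine ⟨fun x hx => ⟨(h1 _ (h3 x hx).1).1, ?_⟩, C.NS_mul h2 h4 (h1 _ h4.1).1 (h1 _ h4.1).2⟩
    show _ = I (P.iAct ta tb t (P.lAct ta tb l x))
    rw [← (h1 _ (h3 x hx).1).2, ← (h3 x hx).2]
    group

/-- Two products with the same action and pair are equal. -/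
theorem list_eq (C : NCtx z I a b ta tb P.d) (hy : P.d.YGood ta tb P.y) {dopt : ℕ}
    (hd : NS I a b P.d (ev (gW I a b) P.y.yW) dopt P.y.e) {l l' : List LItem}
    (h : ∀ t ∈ l, P.itemOk ta tb t = true) (h' : ∀ t ∈ l', P.itemOk ta tb t = true)
    (hA : ∀ x ∈ P.d.gA, P.lAct ta tb l x = P.lAct ta tb l' x)
    (hD : P.lDel ta tb dopt l = P.lDel ta tb dopt l') (hE : P.lExp l = P.lExp l') :
    lVal I a b l = lVal I a b l' := by
  obtain ⟨h1, -, -, h2⟩ := list_spec C hy hd h
  obtain ⟨h3, -, -, h4⟩ := list_spec C hy hd h'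
  set g := lVal I a b l
  set g' := lVal I a b l'
  have hns : NS I a b P.d (g'⁻¹ * g) oneC 1 := by
    refine ⟨C.good.one, Or.inl rfl, ?_⟩
    rw [hD, hE] at h2
    rw [C.loc.map_one, one_mul, pow_one]
    calc g'⁻¹ * g * ev (gW I a b) P.d.xW * (g'⁻¹ * g)⁻¹
        = g'⁻¹ * (g * ev (gW I a b) P.d.xW * g⁻¹) * g' := by group
      _ = _ := by rw [h2, ← h4]; group
  have := C.eq_one (g := g'⁻¹ * g) (fun x hx => by
    have e1 := (h1 x (C.good.gens x hx)).2
    have e2 := (h3 x (C.good.gens x hx)).2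
    rw [hA x hx] at e1
    refine mul_inv_eq_iff_eq_mul.1 ?_
    calc g'⁻¹ * g * I x * (g'⁻¹ * g)⁻¹ = g'⁻¹ * (g * I x * g⁻¹) * g' := by group
      _ = I x := by rw [e1, ← e2]; group) hns
  exact (inv_mul_eq_one.1 this).symm

/-- The factors are conjugate. -/
def convOk (t : ℕ) : List LItem → List LItem → Bool
  | [], [] => true
  | u :: l, v :: l' => Nat.beq v.i u.i && (bif Nat.beq u.i 0 then Nat.beq v.h (mulC (invC t) (mulC u.h t))
      else Nat.beq v.h (mulC (invC t) u.h) && Nat.beq v.q (mulC u.q t)) && inH u.h && inH u.q && convOk t l l'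
  | _, _ => false

theorem lVal_conj {G : Type*} [Group G] {z : G} {I : ℕ → G} (L : Loc z I) (a b : G) {t : ℕ} (ht : Mem t) :
    ∀ {l l' : List LItem}, convOk t l l' = true → lVal I a b l' = (I t)⁻¹ * lVal I a b l * I t
  | [], [], _ => by simp [lVal]
  | [], _ :: _, h => by simp [convOk] at h
  | _ :: _, [], h => by simp [convOk] at h
  | u :: l, v :: l', h => by
    simp only [convOk, Bool.and_eq_true, Nat.beq_eq] at h
    obtain ⟨⟨⟨⟨hi, hk⟩, hu⟩, hq⟩, hl⟩ := h
    replace hu : Mem u.h := hu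
    replace hq : Mem u.q := hq
    have ih := lVal_conj L a b ht hl
    have e : iVal I a b v = (I t)⁻¹ * iVal I a b u * I t := by
      simp only [iVal, hi]
      cases h0 : Nat.beq u.i 0 <;> rw [h0] at hk
      · simp only [cond_false, Bool.and_eq_true, Nat.beq_eq] at hk
        rw [if_neg (fun e => by rw [e] at h0; simp at h0), if_neg (fun e => by rw [e] at h0; simp at h0), hk.1, hk.2,
          L.hom _ _ ht.inv hu, L.map_inv ht, L.hom _ _ hq ht]
        group
      · simp only [cond_true, Nat.beq_eq] at hk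
        rw [if_pos (Nat.eq_of_beq_eq_true h0), if_pos (Nat.eq_of_beq_eq_true h0), hk,
          L.hom _ _ ht.inv (hu.mul ht), L.map_inv ht, L.hom _ _ hu ht]
        group
    simp only [lVal, List.map_cons, List.prod_cons] at ih ⊢
    rw [e, ih]
    group

/-- All checks for excluding the second option of the second subgroup. -/
noncomputable def linkOk (P P' : PData) (ta tb : CTree) (t : ℕ) (l₁ l₂ m₁ m₂ : List LItem) : Bool :=
  inH t && (l₁ ++ l₂).all (fun u => P.itemOk ta tb u) && (m₁ ++ m₂).all (fun u => P'.itemOk ta tb u) &&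
    (P.d.gA.all fun x => Nat.beq (P.lAct ta tb l₁ x) (P.lAct ta tb l₂ x)) &&
    Nat.beq (P.lDel ta tb P.y.d0 l₁) (P.lDel ta tb P.y.d0 l₂) && Nat.beq (P.lExp l₁) (P.lExp l₂) &&
    convOk t l₁ m₁ && convOk t l₂ m₂ &&
    !(Nat.beq (P'.lDel ta tb P'.y.d1 m₁) (P'.lDel ta tb P'.y.d1 m₂))

/-- The second subgroup is in its first option. -/
theorem link_good {P' : PData} (L : Loc z I) (hp : Pair I a b ta tb) (h : PGood z I a b ta tb P)
    (hok' : P'.ok ta tb = true) {t : ℕ} {l₁ l₂ m₁ m₂ : List LItem}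
    (hl : linkOk P P' ta tb t l₁ l₂ m₁ m₂ = true) : PGood z I a b ta tb P' := by
  have C := h.ctx L hp
  have hok := h.ok
  have hoks' := hok'
  simp only [PData.ok, Bool.and_eq_true] at hok hoks'
  have C' : NCtx z I a b ta tb P'.d := ⟨L, hp, P'.d.good_of_ok _ _ hoks'.1.1⟩
  have hy := P.d.ygood_of_ok _ _ _ hok.1.2
  have hy' := P'.d.ygood_of_ok _ _ _ hoks'.1.2
  rcases C'.NS_y hy' with h' | h'
  · exact ⟨hok', h'⟩
  exfalso
  simp only [linkOk, Bool.and_eq_true, List.all_eq_true, List.mem_append, Nat.beq_eq, Bool.not_eq_true'] at hl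
  obtain ⟨⟨⟨⟨⟨⟨⟨⟨ht, hi⟩, hi'⟩, hA⟩, hD⟩, hE⟩, hc1⟩, hc2⟩, hne⟩ := hl
  replace ht : Mem t := ht
  have e := list_eq C hy h.opt (fun u hu => hi u (Or.inl hu)) (fun u hu => hi u (Or.inr hu)) hA hD hE
  have e' : lVal I a b m₁ = lVal I a b m₂ := by rw [lVal_conj L a b ht hc1, lVal_conj L a b ht hc2, e]
  obtain ⟨-, g1⟩ := list_spec C' hy' h' (l := m₁) fun u hu => hi' u (Or.inl hu)
  obtain ⟨-, g2⟩ := list_spec C' hy' h' (l := m₂) fun u hu => hi' u (Or.inr hu)
  rw [e'] at g1
  rw [(C'.NS_uniq g1 g2).1, Nat.beq_refl] at hne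
  simp at hne

end Cfsg.Agent.Fus.Transv
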