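import Cfsg.Agent.Lib.Fus.Transv.Link

/-! Generated data for the centralizer of a transvection. -/

set_option autoImplicit false
set_option maxRecDepth 100000

namespace Cfsg.Agent.Fus.Transv

/-- The element moving the second subgroup. -/
def linkT : ℕ := 17043521

/-- A product used to fix the second option. -/
def linkL1 : List LItem := [⟨4, 25432129, 29694029, (17567813, 19140677, 1), 9375823, (17698881, 19142741, 1)⟩,
  ⟨0, 21303373, 17043521, (17109059, 21237839, 2), 0, (0, 0, 0)⟩,
  ⟨5, 25575489, 19013711, (17698903, 23349321, 2), 17043521, (17043521, 6572107, 2)⟩]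

/-- A product used to fix the second option. -/
def linkL2 : List LItem := [⟨5, 25575489, 23224407, (17698903, 23349321, 2), 17043521, (17698885, 6576197, 1)⟩,
  ⟨4, 25432129, 29694029, (17567813, 19140677, 1), 9375823, (17698881, 19142741, 1)⟩]

/-- A product used to fix the second option. -/
def linkM1 : List LItem := [⟨4, 25432129, 29694029, (21237827, 29626435, 1), 17043521, (23466051, 29691999, 1)⟩,
  ⟨0, 21303373, 17043521, (23400515, 19140687, 1), 0, (0, 0, 0)⟩,
  ⟨5, 25575489, 19013711, (17240133, 13244499, 2), 17649747, (19206209, 15341635, 2)⟩]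

/-- A product used to fix the second option. -/
def linkM2 : List LItem := [⟨5, 25575489, 23224407, (17240133, 13244499, 2), 17649747, (19337287, 32184399, 2)⟩,
  ⟨4, 25432129, 29694029, (21237827, 29626435, 1), 17043521, (23466051, 29691999, 1)⟩]

end Cfsg.Agent.Fus.Transv
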