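import Cfsg.Agent.Lib.Fus.Transv.LinkDataH
import Cfsg.Agent.Lib.Fus.Transv.RelDataH
import Cfsg.Agent.Lib.Fus.Transv.SwapData1_206
import Cfsg.Agent.Lib.Fus.Transv.SwapData2_206

/-! The check excluding the second option of the second subgroup. -/

set_option autoImplicit false
set_option maxRecDepth 100000

namespace Cfsg.Agent.Fus.Transv

theorem linkH_ok : linkOk pdataH0 pdataH1 swapTree1_206 swapTree2_206 linkT linkL1 linkL2 linkM1 linkM2 = true := by
  decide +kernel

end Cfsg.Agent.Fus.Transv
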