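import Cfsg.Agent.Lib.Fus.Transv.Elems

/-!
# Coordinates for the centralizer of an involution
-/

set_option autoImplicit false
set_option maxRecDepth 100000

namespace Cfsg.Agent.Fus.Transv

theorem Mem.inv_mul {a : ℕ} (ha : Mem a) : mulC (invC a) a = oneC := by
  refine toMat_inj (mulC_lt _ _) (mem_one.lt) ?_
  rw [toMat_mulC, toMat_one]
  exact mul_eq_one_comm.1 ((toMat_mulC a (invC a)).symm.trans ((congrArg toMat ha.mul_inv).trans toMat_one))

theorem Mem.one_mul {a : ℕ} (ha : Mem a) : mulC oneC a = a :=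
  toMat_inj (mulC_lt _ _) ha.lt (by rw [toMat_mulC, toMat_one, _root_.one_mul])

theorem Mem.mul_one {a : ℕ} (ha : Mem a) : mulC a oneC = a :=
  toMat_inj (mulC_lt _ _) ha.lt (by rw [toMat_mulC, toMat_one, _root_.mul_one])

theorem Mem.inv_unique {a b : ℕ} (ha : Mem a) (hb : Mem b) (h : mulC a b = oneC) : invC a = b := by
  rw [← ha.inv.mul_one, ← h, ← mulC_assoc, ha.inv_mul, hb.one_mul]

/-- The centralizer of `z` written with numbers. -/
structure Loc {G : Type*} [Group G] (z : G) (I : ℕ → G) : Prop where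
  /-- the product -/
  hom : ∀ a b, Mem a → Mem b → I (mulC a b) = I a * I b
  /-- no kernel -/
  inj : ∀ a b, Mem a → Mem b → I a = I b → a = b
  /-- the range -/
  range : ∀ x : G, x * z = z * x ↔ ∃ c, Mem c ∧ I c = x
  /-- the central involution -/
  map_s : I sC = z

namespace Loc

variable {G : Type*} [Group G] {z : G} {I : ℕ → G} (L : Loc z I)
include L

theorem map_one : I oneC = 1 := by
  have h := L.hom oneC oneC mem_one mem_one
  rw [mem_one.mul_one] at h
  exact left_eq_mul.1 h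

theorem map_inv {a : ℕ} (ha : Mem a) : I (invC a) = (I a)⁻¹ :=
  eq_inv_of_mul_eq_one_left (by rw [← L.hom _ _ ha.inv ha, ha.inv_mul, L.map_one])

theorem map_cj {h x : ℕ} (hh : Mem h) (hx : Mem x) : I (cjC h x) = I h * I x * (I h)⁻¹ := by
  rw [cjC, Cfsg.Agent.Spor.Cos.force_eq, L.hom _ _ (hh.mul hx) hh.inv, L.hom _ _ hh hx, L.map_inv hh]

theorem map_prod : ∀ {l : List ℕ}, (∀ a ∈ l, Mem a) → I (prodC l) = (l.map I).prod
  | [], _ => L.map_one
  | a :: l, h => by
    show I (mulC a (prodC l)) = _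
    rw [L.hom _ _ (h a (by simp)) (Mem.prod fun b hb => h b (List.mem_cons_of_mem _ hb)),
      map_prod fun b hb => h b (List.mem_cons_of_mem _ hb), List.map_cons, List.prod_cons]

theorem comm_z {a : ℕ} (ha : Mem a) : I a * z = z * I a := (L.range _).2 ⟨a, ha, rfl⟩

theorem comm_iff {a b : ℕ} (ha : Mem a) (hb : Mem b) : I a * I b = I b * I a ↔ mulC a b = mulC b a := by
  rw [← L.hom _ _ ha hb, ← L.hom _ _ hb ha]
  exact ⟨L.inj _ _ (ha.mul hb) (hb.mul ha), fun h => by rw [h]⟩

theorem eq_one_iff {a : ℕ} (ha : Mem a) : I a = 1 ↔ a = oneC :=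
  ⟨fun h => L.inj _ _ ha mem_one (h.trans L.map_one.symm), fun h => h ▸ L.map_one⟩

theorem mul_self_z : z * z = 1 := by
  rw [← L.map_s, ← L.hom _ _ mem_sC mem_sC, show mulC sC sC = oneC by decide +kernel, L.map_one]

theorem z_ne_one : z ≠ 1 := fun h => by
  have := (L.eq_one_iff mem_sC).1 (L.map_s.trans h)
  exact absurd this (by decide +kernel)

theorem orderOf_z : orderOf z = 2 :=
  orderOf_eq_prime (hp := ⟨Nat.prime_two⟩) (by rw [pow_two]; exact L.mul_self_z) L.z_ne_one

theorem card_centralizer : Nat.card (Subgroup.centralizer ({z} : Set G)) = 21504 := by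
  let f : Fin elems.length → Subgroup.centralizer ({z} : Set G) := fun i =>
    ⟨I (elems.get i), Subgroup.mem_centralizer_singleton_iff.2 (L.comm_z (mem_iff_elems.2 (elems.get_mem i)))⟩
  have hf : Function.Bijective f := by
    refine ⟨fun i j h => List.nodup_iff_injective_get.1 elems_nodup ?_, fun x => ?_⟩
    · exact L.inj _ _ (mem_iff_elems.2 (elems.get_mem i)) (mem_iff_elems.2 (elems.get_mem j))
        (congrArg Subtype.val h)
    · obtain ⟨c, hc, e⟩ := (L.range _).1 (Subgroup.mem_centralizer_singleton_iff.1 x.2)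
      obtain ⟨i, rfl⟩ := List.get_of_mem (mem_iff_elems.1 hc)
      exact ⟨i, Subtype.ext e⟩
  rw [← Nat.card_congr (Equiv.ofBijective f hf), Nat.card_fin, elems_length]

end Loc

open Cfsg.Agent.Spor.TransvectionFive (tv) in
theorem exists_loc {G : Type*} [Group G] {s : SL5} (hs : (s : M5) = Matrix.transvection 0 1 1) (z : G)
    (e : Subgroup.centralizer ({z} : Set G) ≃* Subgroup.centralizer ({s} : Set SL5))
    (hz : ∀ c : Subgroup.centralizer ({z} : Set G), (c : G) = z → (e c : SL5) = s) : ∃ I : ℕ → G, Loc z I := by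
  classical
  let el : ∀ c, Mem c → Subgroup.centralizer ({s} : Set SL5) := fun c hc => ⟨toSL hc, toSL_mem hs hc⟩
  let I : ℕ → G := fun c => if hc : Mem c then (e.symm (el c hc) : G) else 1
  have hI : ∀ c (hc : Mem c), I c = (e.symm (el c hc) : G) := fun c hc => dif_pos hc
  refine ⟨I, ⟨fun a b ha hb => ?_, fun a b ha hb h => ?_, fun x => ⟨fun h => ?_, ?_⟩, ?_⟩⟩
  · rw [hI _ (ha.mul hb), hI _ ha, hI _ hb, ← Subgroup.coe_mul, ← map_mul]
    congr 2
    exact Subtype.ext (Subtype.ext (toMat_mulC a b))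
  · rw [hI _ ha, hI _ hb] at h
    have h2 := congrArg Subtype.val (congrArg Subtype.val (e.symm.injective (Subtype.ext h)))
    exact toMat_inj ha.lt hb.lt h2
  · obtain ⟨c, hc, hce⟩ := exists_code hs (e ⟨x, Subgroup.mem_centralizer_singleton_iff.2 h⟩).2
    refine ⟨c, hc, ?_⟩
    rw [hI _ hc, show el c hc = e ⟨x, Subgroup.mem_centralizer_singleton_iff.2 h⟩ from
      Subtype.ext (Subtype.ext hce), e.symm_apply_apply]
  · rintro ⟨c, hc, rfl⟩
    rw [hI _ hc]
    exact Subgroup.mem_centralizer_singleton_iff.1 (e.symm (el c hc)).2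
  · have hzC : z ∈ Subgroup.centralizer ({z} : Set G) := Subgroup.mem_centralizer_singleton_iff.2 rfl
    rw [hI _ mem_sC, show el sC mem_sC = e ⟨z, hzC⟩ from
      Subtype.ext (Subtype.ext ((toMat_s).trans ((hs.symm).trans (congrArg Subtype.val (hz ⟨z, hzC⟩ rfl).symm)))),
      e.symm_apply_apply]

end Cfsg.Agent.Fus.Transv
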