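import Cfsg.Agent.Lib.Fus.Transv.STMain
import Cfsg.Agent.Lib.Fus.Transv.Affine
import Cfsg.Agent.Lib.Classical.SLGroup
import Cfsg.Agent.S0051

/-!
# The stabilizer of a vector
-/

set_option autoImplicit false
set_option linter.style.haveILetI false
set_option maxRecDepth 100000

namespace Cfsg.Agent.Fus.Transv

open Matrix

theorem xor_fin (j k : Fin 16) : ((x16 j k : Fin 16) : ℕ) = (j : ℕ) ^^^ k := rfl

/-- The rows below the first are those of the identity. -/
theorem inE_of_rows : (elems.all fun c => inE c || !(Nat.beq (row c 0 % 2) 1 && Nat.beq (row c 1) 2 &&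
    Nat.beq (row c 2) 4 && Nat.beq (row c 3) 8 && Nat.beq (row c 4) 16)) = true := by decide +kernel

namespace Loc

variable {G : Type*} [Group G] {z : G} {I : ℕ → G} (L : Loc z I)
include L

/-- The complement in the centralizer. -/
def comp : Subgroup G where
  carrier := {x | ∃ c, Mem c ∧ toMat c 0 = (1 : M5) 0 ∧ I c = x}
  one_mem' := ⟨oneC, mem_one, by rw [toMat_one], L.map_one⟩
  mul_mem' := by
    rintro _ _ ⟨a, ha, ea, rfl⟩ ⟨b, hb, eb, rfl⟩
    refine ⟨mulC a b, ha.mul hb, ?_, L.hom _ _ ha hb⟩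
    funext j
    rw [toMat_mulC, Matrix.mul_apply]
    simp [ea, Matrix.one_apply, eb]
  inv_mem' := by
    rintro _ ⟨a, ha, ea, rfl⟩
    refine ⟨invC a, ha.inv, ?_, L.map_inv ha⟩
    funext j
    have h : (toMat a * toMat (invC a)) 0 j = (1 : M5) 0 j := by rw [← toMat_mulC, ha.mul_inv, toMat_one]
    rw [Matrix.mul_apply] at h
    simpa [ea, Matrix.one_apply] using h

/-- The translations as a function. -/
def tr16 (k : Fin 16) : G := (fun _ : Loc z I => I (eC k)) L

theorem mem_EG16 {x : G} : x ∈ EG L ↔ ∃ k, L.tr16 k = x :=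
  ⟨fun ⟨k, hk, e⟩ => ⟨⟨k, hk⟩, e⟩, fun ⟨k, e⟩ => ⟨k, k.2, e⟩⟩

/-- The group is affine if the translations are normal. -/
theorem exists_aff16 [Finite G] (hN : (EG L).Normal) (hG : Nat.card G = 322560) :
    ∃ B : Subgroup G, Aff16 L.tr16 B := by
  haveI := hN
  have hrow : ∀ k : Fin 16, toMat (eC k) 0 = (1 : M5) 0 → k = 0 := by decide +kernel
  have hsplit : ∀ c, Mem c → toMat (mulC c (eC (row c 0 / 2))) 0 = (1 : M5) 0 := by
    intro c hc
    have h1 := Nat.eq_of_beq_eq_true (List.all_eq_true.1 split_E c (mem_iff_elems.1 hc))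
    funext j
    show (if _ then (1 : ZMod 2) else 0) = _
    rw [show (5 * ((0 : Fin 5) : ℕ) + (j : ℕ)) = 5 * 0 + (j : ℕ) from rfl, ← testBit_row _ 0 _ j.2, h1]
    exact (by decide : ∀ j : Fin 5, (if (1 : ℕ).testBit j then (1 : ZMod 2) else 0) = (1 : M5) 0 j) j
  haveI : IsMulCommutative (EG L) := ⟨⟨fun a b => Subtype.ext (L.EG_comm a.2 b.2)⟩⟩
  have hidx : (Subgroup.centralizer ({z} : Set G)).index = 15 := by
    have := Subgroup.card_mul_index (Subgroup.centralizer ({z} : Set G))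
    rw [L.card_centralizer, hG] at this
    omega
  obtain ⟨B, hB⟩ := Cfsg.Agent.S0051.result (EG L) (Subgroup.centralizer ({z} : Set G)) L.EG_le
    (by rw [L.card_EG, hidx]; norm_num) L.comp
    (by
      rintro _ ⟨c, hc, -, rfl⟩
      exact Subgroup.mem_centralizer_singleton_iff.2 (L.comm_z hc))
    (by
      rw [eq_bot_iff]
      rintro x ⟨⟨c, hc, e0, rfl⟩, k, hk, e⟩
      rw [Subgroup.mem_bot, ← e]
      have := hrow ⟨k, hk⟩ (L.inj _ _ (eC_mem hk) hc e ▸ e0)
      rw [show k = 0 from congrArg Fin.val this, eC_zero, L.map_one])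
    (le_antisymm (sup_le L.EG_le (by
      rintro _ ⟨c, hc, -, rfl⟩
      exact Subgroup.mem_centralizer_singleton_iff.2 (L.comm_z hc))) fun x hx => by
      obtain ⟨c, hc, rfl⟩ := (L.range _).1 (Subgroup.mem_centralizer_singleton_iff.1 hx)
      have hk : row c 0 / 2 < 16 := by have := row_lt c 0; omega
      set k := row c 0 / 2
      have e : I c = I (mulC c (eC k)) * I (eC k) := by
        rw [L.hom _ _ hc (eC_mem hk), mul_assoc, L.EG_sq ⟨k, hk, rfl⟩, mul_one]
      rw [e]
      exact mul_mem (Subgroup.mem_sup_right ⟨_, hc.mul (eC_mem hk), hsplit c hc, rfl⟩)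
        (Subgroup.mem_sup_left ⟨k, hk, rfl⟩))
  refine ⟨B, ⟨fun j k => ?_, fun j k h => Fin.ext (eC_inj j.2 k.2 (L.inj _ _ (eC_mem j.2) (eC_mem k.2) h)),
    fun g j => ?_, fun g hg => ?_, fun j hj => ?_, fun g => ?_, hG⟩⟩
  · show I (eC j) * I (eC k) = I (eC (x16 j k))
    rw [← L.hom _ _ (eC_mem j.2) (eC_mem k.2), eC_mul j.2 k.2, xor_fin]
  · obtain ⟨k, hk⟩ := L.mem_EG16.1 (hN.conj_mem _ (L.mem_EG16.2 ⟨j, rfl⟩) g)
    exact ⟨k, hk.symm⟩
  · obtain ⟨k, hk⟩ := L.mem_EG16.1 (L.cent_EG fun y hy => by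
      obtain ⟨k, rfl⟩ := L.mem_EG16.1 hy; exact hg k)
    exact ⟨k, hk.symm⟩
  · have : L.tr16 j ∈ (⊥ : Subgroup G) := hB.disjoint.le_bot ⟨L.mem_EG16.2 ⟨j, rfl⟩, hj⟩
    rw [Subgroup.mem_bot] at this
    refine Fin.ext (eC_inj j.2 (by norm_num) (L.inj _ _ (eC_mem j.2) (eC_mem (by norm_num)) ?_))
    show L.tr16 j = _
    rw [this, Fin.val_zero, eC_zero, L.map_one]
  · obtain ⟨⟨⟨a, ha⟩, ⟨b, hb⟩⟩, e⟩ := hB.2 g
    obtain ⟨k, rfl⟩ := L.mem_EG16.1 ha
    refine ⟨k, ?_⟩
    rw [← show L.tr16 k * b = g from e, ← mul_assoc, L.EG_sq (L.mem_EG16.2 ⟨k, rfl⟩), one_mul]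
    exact hb

theorem card_oneClass [Finite G] (hF : OneClass z I) : Nat.card G = 322560 := by
  have hN := L.EG_normal hF
  rw [← Subgroup.index_mul_card (Subgroup.centralizer ({z} : Set G)), L.card_centralizer]
  suffices (Subgroup.centralizer ({z} : Set G)).index = 15 by rw [this]
  have hmem : ∀ g : G, g * z * g⁻¹ ∈ EG L := fun g => hN.conj_mem z L.z_EG g
  let f : G ⧸ Subgroup.centralizer ({z} : Set G) → {p : EG L // (p : G) ≠ 1} :=
    Quotient.lift (fun g => ⟨⟨g * z * g⁻¹, hmem g⟩, fun h => L.z_ne_one (conj_eq_one_iff.1 h)⟩) fun a b h => by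
      have h' := Subgroup.mem_centralizer_singleton_iff.1 (QuotientGroup.leftRel_apply.1 h)
      refine Subtype.ext (Subtype.ext ?_)
      show a * z * a⁻¹ = b * z * b⁻¹
      calc a * z * a⁻¹ = a * (z * (a⁻¹ * b)) * b⁻¹ := by group
        _ = a * (a⁻¹ * b * z) * b⁻¹ := by rw [h']
        _ = b * z * b⁻¹ := by group
  have hf : Function.Bijective f := by
    refine ⟨fun a b => ?_, fun p => ?_⟩
    · induction a using QuotientGroup.induction_on with
      | _ a =>
        induction b using QuotientGroup.induction_on with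
        | _ b =>
          intro h
          have h' : a * z * a⁻¹ = b * z * b⁻¹ :=
            congrArg (fun q : {p : EG L // (p : G) ≠ 1} => ((q : EG L) : G)) h
          refine QuotientGroup.eq.2 (Subgroup.mem_centralizer_singleton_iff.2 ?_)
          calc a⁻¹ * b * z = a⁻¹ * (b * z * b⁻¹) * b := by group
            _ = a⁻¹ * (a * z * a⁻¹) * b := by rw [h']
            _ = z * (a⁻¹ * b) := by group
    · obtain ⟨g, hg⟩ := _root_.isConj_iff.1 (L.EG_conj hF p.1.2 p.2).symm
      exact ⟨QuotientGroup.mk g, Subtype.ext (Subtype.ext hg)⟩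
  rw [Subgroup.index, Nat.card_congr (Equiv.ofBijective f hf)]
  classical
  haveI := Fintype.ofFinite (EG L)
  rw [Nat.card_eq_fintype_card,
    Fintype.card_subtype_compl (fun p : EG L => (p : G) = 1), ← Nat.card_eq_fintype_card, L.card_EG,
    Fintype.card_congr (Equiv.subtypeEquivRight (p := fun p : EG L => (p : G) = 1) (q := fun p => p = 1)
      fun p => OneMemClass.coe_eq_one), Fintype.card_subtype_eq]

end Loc

theorem card_SL5 : Nat.card SL5 = 9999360 := by
  have h := Classical.natCard_GL_eq_SL_mul (F := ZMod 2) 5 (by norm_num)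
  rw [Matrix.card_GL_field, Classical.natCard_units_field, ZMod.card] at h
  have e : (∏ i : Fin 5, (2 ^ 5 - 2 ^ (i : ℕ))) = 9999360 := by
    simp only [Fin.prod_univ_five]
    rfl
  rw [e] at h
  show Nat.card (Matrix.SpecialLinearGroup (Fin 5) (ZMod 2)) = 9999360
  omega

/-- The first basis vector. -/
def e0v : Fin 5 → ZMod 2 := Pi.single 0 1

/-- The stabilizer of the first basis vector. -/
abbrev StabE : Type := MulAction.stabilizer SL5 e0v

theorem mk_col (c : ℕ) (h : Mem c) : (toSL h) ∈ MulAction.stabilizer SL5 e0v := by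
  have hc : (elems.all fun c => Nat.beq (row c 0 % 2) 1 && Nat.beq (row c 1 % 2) 0 && Nat.beq (row c 2 % 2) 0 &&
      Nat.beq (row c 3 % 2) 0 && Nat.beq (row c 4 % 2) 0) = true := by decide +kernel
  have h' := List.all_eq_true.1 hc c (mem_iff_elems.1 h)
  simp only [Bool.and_eq_true, Nat.beq_eq] at h'
  rw [MulAction.mem_stabilizer_iff]
  show (toSL h : M5) *ᵥ e0v = e0v
  rw [e0v, Matrix.mulVec_single_one]
  funext i
  show (if c.testBit (5 * (i : ℕ) + 0) then (1 : ZMod 2) else 0) = _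
  have hb : ∀ k, c.testBit (5 * k + 0) = decide (row c k % 2 = 1) := fun k => by
    rw [← testBit_row c k 0 (by norm_num), Nat.testBit_zero]
  rw [hb]
  fin_cases i <;> simp [h']

/-- A matrix sending the first vector to a given one. -/
def moveMat (v : Fin 5 → ZMod 2) : M5 :=
  if v 0 = 1 then fun i j => if j = 0 then v i else (1 : M5) i j
  else if v 1 = 1 then fun i j => if j = 0 then v i else if j = 1 then (1 : M5) i 0 else (1 : M5) i j
  else if v 2 = 1 then fun i j => if j = 0 then v i else if j = 2 then (1 : M5) i 0 else (1 : M5) i j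
  else if v 3 = 1 then fun i j => if j = 0 then v i else if j = 3 then (1 : M5) i 0 else (1 : M5) i j
  else fun i j => if j = 0 then v i else if j = 4 then (1 : M5) i 0 else (1 : M5) i j

theorem moveMat_ok : ∀ v : Fin 5 → ZMod 2, v ≠ 0 → (moveMat v).det = 1 ∧ moveMat v *ᵥ e0v = v := by decide +kernel

theorem exists_move (v : Fin 5 → ZMod 2) (hv : v ≠ 0) : ∃ m : SL5, m • e0v = v :=
  ⟨⟨moveMat v, (moveMat_ok v hv).1⟩, (moveMat_ok v hv).2⟩

theorem rows_dec : ∀ r : Fin 5, r ≠ 0 → ∀ j : Fin 5, sC.testBit (5 * (r : ℕ) + j) = decide (r = j) := by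
  decide +kernel

theorem eC_rows_dec : ∀ k : Fin 16, ∀ r : Fin 5, r ≠ 0 → ∀ j : Fin 5,
    (eC k).testBit (5 * (r : ℕ) + j) = decide (r = j) := by decide +kernel

theorem rows00 : (∀ k : Fin 16, (eC k).testBit 0 = true) ∧ sC.testBit 0 = true := by decide +kernel

theorem toMat_of_bit {c : ℕ} {r j : Fin 5} (h : c.testBit (5 * (r : ℕ) + j) = decide (r = j)) :
    toMat c r j = (1 : M5) r j := by
  show (if c.testBit (5 * (r : ℕ) + j) then (1 : ZMod 2) else 0) = _
  rw [h, Matrix.one_apply]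
  by_cases e : r = j <;> simp [e]

theorem toMat_00 {c : ℕ} (h : c.testBit 0 = true) : toMat c 0 0 = 1 := by
  show (if c.testBit (5 * ((0 : Fin 5) : ℕ) + ((0 : Fin 5) : ℕ)) then (1 : ZMod 2) else 0) = _
  rw [Fin.val_zero, h, if_pos rfl]

theorem eC_rows (k : Fin 16) :
    (∀ r : Fin 5, r ≠ 0 → ∀ j, toMat (eC k) r j = (1 : M5) r j) ∧ toMat (eC k) 0 0 = 1 :=
  ⟨fun r hr j => toMat_of_bit (eC_rows_dec k r hr j), toMat_00 (rows00.1 k)⟩

theorem sC_rows : (∀ r : Fin 5, r ≠ 0 → ∀ j, toMat sC r j = (1 : M5) r j) ∧ toMat sC 0 0 = 1 :=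
  ⟨fun r hr j => toMat_of_bit (rows_dec r hr j), toMat_00 rows00.2⟩

theorem stab_col (h : StabE) (i : Fin 5) : ((h : SL5) : M5) i 0 = (1 : M5) i 0 := by
  have h' : ((h : SL5) : M5) *ᵥ e0v = e0v := MulAction.mem_stabilizer_iff.1 h.2
  change ((h : SL5) : M5) *ᵥ (Pi.single 0 1 : Fin 5 → ZMod 2) = Pi.single 0 1 at h'
  rw [Matrix.mulVec_single_one] at h'
  have := congrFun h' i
  rw [Matrix.one_apply]
  simpa [Pi.single_apply] using this

theorem row_comm {A B : M5} (hA : ∀ r, r ≠ 0 → ∀ j, A r j = (1 : M5) r j) (hB : ∀ r, r ≠ 0 → ∀ j, B r j = (1 : M5) r j)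
    (a0 : A 0 0 = 1) (b0 : B 0 0 = 1) : A * B = B * A := by
  have key : ∀ A B : M5, (∀ r, r ≠ 0 → ∀ j, A r j = (1 : M5) r j) → (∀ r, r ≠ 0 → ∀ j, B r j = (1 : M5) r j) →
      A 0 0 = 1 → (A - 1) * (B - 1) = 0 := by
    intro A B hA hB a0
    ext i j
    rw [Matrix.mul_apply]
    refine Finset.sum_eq_zero fun r _ => ?_
    rw [Matrix.sub_apply, Matrix.sub_apply]
    by_cases hr : r = 0
    · subst hr
      by_cases hi : i = 0
      · subst hi; rw [a0, Matrix.one_apply_eq, sub_self, zero_mul]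
      · rw [hA i hi, sub_self, zero_mul]
    · rw [hB r hr, sub_self, mul_zero]
  have e : A * B = (A - 1) * (B - 1) + A + B - 1 := by noncomm_ring
  have e' : B * A = (B - 1) * (A - 1) + B + A - 1 := by noncomm_ring
  rw [e, e', key A B hA hB a0, key B A hB hA b0]
  abel

/-- Conjugates of the translations have the same shape. -/
theorem conj_rows (k : Fin 16) {gm gi : M5} (hgg : gm * gi = 1) (hc : ∀ i, gm i 0 = (1 : M5) i 0)
    (hc' : ∀ i, gi i 0 = (1 : M5) i 0) :
    (∀ r, r ≠ 0 → ∀ j, (gm * toMat (eC k) * gi) r j = (1 : M5) r j) ∧ (gm * toMat (eC k) * gi) 0 0 = 1 := by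
  obtain ⟨hE, hE0⟩ := eC_rows k
  set D : M5 := toMat (eC k) - 1 with hDdef
  have hy' : gm * toMat (eC k) * gi = 1 + gm * D * gi := by
    simp only [hDdef, mul_sub, sub_mul, mul_one, hgg, add_sub_cancel]
  have hval : ∀ i j, (gm * D * gi) i j = gm i 0 * ∑ q, D 0 q * gi q j := fun i j => by
    rw [mul_assoc, Matrix.mul_apply, Finset.sum_eq_single (0 : Fin 5)]
    · rw [Matrix.mul_apply]
    · intro r _ hr
      rw [Matrix.mul_apply, Finset.sum_eq_zero (fun q _ => by
        rw [show D r q = 0 by rw [hDdef, Matrix.sub_apply, hE r hr, sub_self], zero_mul]), mul_zero]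
    · simp
  refine ⟨fun r hr j => ?_, ?_⟩
  · rw [hy', Matrix.add_apply, hval, hc r, Matrix.one_apply_ne hr, zero_mul, add_zero]
  · rw [hy', Matrix.add_apply, hval, Matrix.one_apply_eq, Finset.sum_eq_single (0 : Fin 5)]
    · rw [show D 0 0 = 0 by rw [hDdef, Matrix.sub_apply, hE0, Matrix.one_apply_eq, sub_self], zero_mul, mul_zero,
        add_zero]
    · intro q _ hq
      rw [hc' q, Matrix.one_apply_ne hq, mul_zero]
    · simp

/-- Such a code is a translation. -/
theorem inE_of_shape {c : ℕ} (hc : Mem c) (h : ∀ r : Fin 5, r ≠ 0 → ∀ j, toMat c r j = (1 : M5) r j)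
    (h00 : toMat c 0 0 = 1) : inE c = true := by
  refine (Bool.or_eq_true _ _).mp (List.all_eq_true.1 inE_of_rows c (mem_iff_elems.1 hc)) |>.resolve_right ?_
  have hbit : ∀ (r : Fin 5) (j : Fin 5), (row c r).testBit j = decide (toMat c r j = 1) := fun r j => by
    rw [testBit_row c r j j.2]
    show c.testBit _ = decide ((if c.testBit _ then (1 : ZMod 2) else 0) = 1)
    cases c.testBit (5 * r + j) <;> decide
  have hrw : ∀ r : Fin 5, r ≠ 0 → row c r = 2 ^ (r : ℕ) := fun r hr => by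
    refine Nat.eq_of_testBit_eq fun n => ?_
    rw [Nat.testBit_two_pow]
    rcases Nat.lt_or_ge n 5 with hn | hn
    · rw [hbit r ⟨n, hn⟩, h r hr, Matrix.one_apply]
      by_cases e : r = ⟨n, hn⟩
      · simp [e]
      · have : (r : ℕ) ≠ n := fun q => e (Fin.ext q)
        simp [e, this]
    · rw [Nat.testBit_eq_false_of_lt ((row_lt c r).trans_le ((by norm_num : 32 ≤ 2 ^ 5).trans
        (Nat.pow_le_pow_right (by norm_num) hn)))]
      have := r.2
      simp; omega
  have h0 : row c 0 % 2 = 1 := by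
    have := hbit 0 0
    rw [h00] at this
    simpa [Nat.testBit_zero] using this
  simp [h0, show row c 1 = 2 from hrw 1 (by decide), show row c 2 = 4 from hrw 2 (by decide),
    show row c 3 = 8 from hrw 3 (by decide), show row c 4 = 16 from hrw 4 (by decide)]

theorem nonzero_count : (Finset.univ.filter fun v : Fin 5 → ZMod 2 => v ≠ 0).card = 31 := by decide +kernel

theorem e0v_ne : e0v ≠ 0 := by decide +kernel

theorem aff_stab : ∃ (e : Fin 16 → StabE) (B : Subgroup StabE), Aff16 e B := by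
  classical
  let zX : StabE := ⟨toSL mem_sC, mk_col _ mem_sC⟩
  let I : ℕ → StabE := fun c => if h : Mem c then ⟨toSL h, mk_col _ h⟩ else 1
  have hI : ∀ c (h : Mem c), I c = ⟨toSL h, mk_col _ h⟩ := fun c h => dif_pos h
  have L : Loc zX I := by
    refine ⟨fun a b ha hb => ?_, fun a b ha hb h => ?_, fun x => ⟨fun h => ?_, ?_⟩, hI _ mem_sC⟩
    · rw [hI _ (ha.mul hb), hI _ ha, hI _ hb]
      exact Subtype.ext (Subtype.ext (toMat_mulC a b))
    · rw [hI _ ha, hI _ hb] at h
      exact toMat_inj ha.lt hb.lt (congrArg (fun x : StabE => ((x : SL5) : M5)) h :)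
    · obtain ⟨c, hc, e⟩ := exists_code (s := (zX : SL5)) toMat_s (g := (x : SL5))
        (Subgroup.mem_centralizer_singleton_iff.2 (congrArg Subtype.val h))
      exact ⟨c, hc, by rw [hI _ hc]; exact Subtype.ext (Subtype.ext e)⟩
    · rintro ⟨c, hc, rfl⟩
      rw [hI _ hc]
      exact Subtype.ext (Subtype.ext (by
        show toMat c * toMat sC = toMat sC * toMat c
        rw [← toMat_mulC, ← toMat_mulC, hc.comm]))
  have hcard : Nat.card StabE = 322560 := by
    have h1 := Subgroup.card_mul_index (MulAction.stabilizer SL5 e0v)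
    have h31 : (MulAction.stabilizer SL5 e0v).index = 31 := by
      rw [MulAction.index_stabilizer, show MulAction.orbit SL5 e0v = {v | v ≠ 0} from ?_]
      · rw [← nonzero_count, ← Set.ncard_coe_finset]
        congr 1
        ext v
        simp
      ext v
      constructor
      · rintro ⟨g, rfl⟩ h
        apply e0v_ne
        have := congrArg (fun w => g⁻¹ • w) (show g • e0v = 0 from h)
        simp only [inv_smul_smul] at this
        rw [this]
        exact Matrix.mulVec_zero _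
      · intro hv
        obtain ⟨m, hm⟩ := exists_move v hv
        exact ⟨m, hm⟩
    rw [h31, card_SL5] at h1
    show Nat.card (MulAction.stabilizer SL5 e0v) = 322560
    omega
  have hN : (EG L).Normal := by
    refine ⟨fun x hx g => ?_⟩
    obtain ⟨k, hk, rfl⟩ := hx
    have hgg : ((g : SL5) : M5) * ((g⁻¹ : StabE) : SL5).1 = 1 := by
      show (((g * g⁻¹ : StabE) : SL5) : M5) = 1
      rw [mul_inv_cancel]; rfl
    obtain ⟨hrow, hy00⟩ := conj_rows ⟨k, hk⟩ hgg (stab_col g) (stab_col g⁻¹)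
    have hval : ((g * I (eC k) * g⁻¹ : StabE) : SL5).1 =
        ((g : SL5) : M5) * toMat (eC k) * ((g⁻¹ : StabE) : SL5).1 := by
      rw [hI _ (eC_mem hk)]; rfl
    obtain ⟨c, hc, e⟩ := (L.range (g * I (eC k) * g⁻¹)).1 (Subtype.ext (Subtype.ext (by
      show ((g * I (eC k) * g⁻¹ : StabE) : SL5).1 * toMat sC = toMat sC * ((g * I (eC k) * g⁻¹ : StabE) : SL5).1
      rw [hval]
      exact row_comm hrow sC_rows.1 hy00 sC_rows.2)))
    have hcy : toMat c = ((g : SL5) : M5) * toMat (eC k) * ((g⁻¹ : StabE) : SL5).1 := by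
      rw [← hval, ← e, hI _ hc]; rfl
    rw [← e]
    refine (L.code_EG hc).2 (inE_of_shape hc ?_ ?_)
    · intro r hr j; rw [hcy]; exact hrow r hr j
    · rw [hcy]; exact hy00
  obtain ⟨B, hB⟩ := L.exists_aff16 hN hcard
  exact ⟨_, B, hB⟩

/-- The pattern with one class gives the stabilizer of a vector. -/
theorem Loc.stab_iso {G : Type*} [Group G] [Finite G] {z : G} {I : ℕ → G} (L : Loc z I) (hF : OneClass z I) :
    ∃ v : Fin 5 → ZMod 2, v ≠ 0 ∧ Nonempty (G ≃* MulAction.stabilizer SL5 v) := by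
  obtain ⟨B, hB⟩ := L.exists_aff16 (L.EG_normal hF) (L.card_oneClass hF)
  obtain ⟨e', B', hB'⟩ := aff_stab
  exact ⟨e0v, by decide +kernel, hB.iso hB'⟩

end Cfsg.Agent.Fus.Transv
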