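import Mathlib

/-! Generated data for the centralizer of a transvection. -/

set_option autoImplicit false
set_option maxRecDepth 100000

namespace Cfsg.Agent.Fus.Transv

/-- Elements moving the representatives `1` and `2` by the central involution. -/
def swapList : List ℕ := [
  17045569, 17043525]

/-- Elements showing that the other classes lie outside the core. -/
def oddList : List (ℕ × ℕ) := [
  (3, 17174593), (4, 17174593), (6, 25432129), (7, 25432129)]

/-- The permutation of the classes by the outer automorphism. -/
def tauCls : List ℕ := [
  0, 2, 1, 3, 4, 5, 7, 6]

end Cfsg.Agent.Fus.Transv
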