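import Cfsg.Agent.Lib.Fus.Transv.Fusion
import Cfsg.Agent.Lib.Fus.Transv.SetupData
import Cfsg.Agent.Lib.Invol.ZStar
import Cfsg.Agent.Lib.Grp.Cores
import Cfsg.Prelude.Def_Solvable

/-!
# Choosing coordinates and the swapping elements
-/

set_option autoImplicit false
set_option maxRecDepth 100000

namespace Cfsg.Agent.Fus.Transv

open Cfsg.Agent.Spor.TransvectionFive (tv)
open Cfsg.Agent.Spor.Cos (force_eq)

/-- The bit of a number, as a number. -/
def bitN (c k : ℕ) : ℕ := bif c.testBit k then 1 else 0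

/-- A row of the twisted matrix: the entries of one column. -/
def tauRow (d k : ℕ) : ℕ :=
  bitN d (5 + k) + 2 * bitN d k + 4 * bitN d (10 + k) + 8 * bitN d (15 + k) + 16 * bitN d (20 + k)

/-- The outer automorphism: the inverse transpose with the first two coordinates exchanged. -/
def tauC (c : ℕ) : ℕ := Cfsg.Agent.Spor.Cos.force (invC c) fun d =>
  pk5 (tauRow d 1) (tauRow d 0) (tauRow d 2) (tauRow d 3) (tauRow d 4)

/-- The exchange of the first two coordinates. -/
def sg : Fin 5 → Fin 5 := ![1, 0, 2, 3, 4]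

/-- The twist of a matrix. -/
def twist (A : M5) : M5 := A.transpose.submatrix sg sg

theorem twist_twist (A : M5) : twist (twist A) = A := by
  have h : ∀ i, sg (sg i) = i := by decide
  ext i j
  simp [twist, h]

theorem twist_mul (A B : M5) : twist (A * B) = twist B * twist A := by
  have hb : Function.Bijective sg := by decide
  rw [twist, Matrix.transpose_mul]
  exact Matrix.submatrix_mul _ _ _ sg _ hb

theorem toMat_tauC (c : ℕ) : toMat (tauC c) = twist (toMat (invC c)) := by
  simp only [tauC, force_eq]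
  have hb : ∀ a b c d e : Bool, (bif a then 1 else 0) + 2 * (bif b then 1 else 0) + 4 * (bif c then 1 else 0) +
      8 * (bif d then 1 else 0) + 16 * (bif e then 1 else 0) < 32 ∧
      ∀ j : Fin 5, ((bif a then 1 else 0) + 2 * (bif b then 1 else 0) + 4 * (bif c then 1 else 0) +
        8 * (bif d then 1 else 0) + 16 * (bif e then 1 else 0)).testBit j = ![a, b, c, d, e] j := by decide +kernel
  set d := invC c
  have hl : ∀ k, tauRow d k < 32 := fun k => (hb _ _ _ _ _).1
  have hr : ∀ (k : ℕ) (j : Fin 5), (tauRow d k).testBit j =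
      ![d.testBit (5 + k), d.testBit k, d.testBit (10 + k), d.testBit (15 + k), d.testBit (20 + k)] j :=
    fun k j => (hb _ _ _ _ _).2 j
  have hk : ∀ (i j : Fin 5), (tauRow d (sg i)).testBit j = d.testBit (5 * (sg j : ℕ) + (sg i : ℕ)) := by
    intro i j
    rw [hr]
    fin_cases j <;> simp [sg]
  ext i j
  rw [toMat_pk5 (hl 1) (hl 0) (hl 2) (hl 3)]
  have hrow : (![tauRow d 1, tauRow d 0, tauRow d 2, tauRow d 3, tauRow d 4] i) = tauRow d (sg i) := by
    fin_cases i <;> rfl
  rw [hrow, hk]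
  rfl

theorem Mem.twist_inv {c : ℕ} (hc : Mem c) : toMat (tauC c) * twist (toMat c) = 1 := by
  rw [toMat_tauC, ← twist_mul, ← toMat_mulC, hc.mul_inv, toMat_one]
  decide

theorem Mem.tau {c : ℕ} (hc : Mem c) : Mem (tauC c) := by
  let g : SL5 := ⟨toMat (tauC c), det_eq_one hc.twist_inv⟩
  have hg : g ∈ Subgroup.centralizer ({sSL} : Set SL5) := by
    refine Subgroup.mem_centralizer_singleton_iff.2 (Subtype.ext ?_)
    have hs : twist tv = tv := by decide +kernel
    have e : toMat (invC c) * tv = tv * toMat (invC c) := by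
      rw [← toMat_s, ← toMat_mulC, ← toMat_mulC, hc.inv.comm]
    show toMat (tauC c) * tv = tv * toMat (tauC c)
    rw [toMat_tauC]
    conv_lhs => rw [← hs]
    conv_rhs => rw [← hs]
    rw [← twist_mul, ← twist_mul, e]
  obtain ⟨d, hd, e⟩ := exists_code (s := sSL) rfl hg
  have hlt : tauC c < 2 ^ 25 := by
    have hb : ∀ k, bitN (invC c) k ≤ 1 := fun k => by
      unfold bitN; cases (invC c).testBit k <;> simp
    have hr : ∀ k, tauRow (invC c) k < 32 := fun k => by
      have := hb (5 + k); have := hb k; have := hb (10 + k); have := hb (15 + k); have := hb (20 + k)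
      simp only [tauRow]; omega
    have := hr 0; have := hr 1; have := hr 2; have := hr 3; have := hr 4
    simp only [tauC, force_eq, pk5]; omega
  exact toMat_inj hd.lt hlt e ▸ hd

theorem Mem.tau_mul {a b : ℕ} (ha : Mem a) (hb : Mem b) : tauC (mulC a b) = mulC (tauC a) (tauC b) := by
  refine toMat_inj (ha.mul hb).tau.lt (mulC_lt _ _) ?_
  rw [toMat_mulC, toMat_tauC, toMat_tauC, toMat_tauC, ← twist_mul, ← toMat_mulC]
  congr 2
  refine (ha.mul hb).inv_unique (hb.inv.mul ha.inv) ?_
  rw [mulC_assoc, ← mulC_assoc b, hb.mul_inv, ha.inv.one_mul, ha.mul_inv]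

theorem Mem.tau_tau {a : ℕ} (ha : Mem a) : tauC (tauC a) = a := by
  refine toMat_inj ha.tau.tau.lt ha.lt ?_
  rw [toMat_tauC, ← twist_twist (toMat a)]
  congr 1
  exact left_inv_eq_right_inv ((toMat_mulC _ _).symm.trans ((congrArg toMat ha.tau.inv_mul).trans toMat_one))
    ha.twist_inv

theorem tau_s : tauC sC = sC := by decide +kernel

theorem tau_cls : ((List.range 8).all fun i => Nat.beq (clsOf (tauC (repC i))) (tauCls.getD i 0)) = true := by
  decide +kernel

theorem swap_ok : ([1, 2].all fun i => inH (swapList.getD (i - 1) 0) &&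
    Nat.beq (cjC (swapList.getD (i - 1) 0) (repC i)) (mulC (repC i) sC) &&
    Nat.beq (cjC (swapList.getD (i - 1) 0) (mulC (repC i) sC)) (repC i)) = true := by decide +kernel

theorem odd_ok : (oddList.all fun e => inH e.2 &&
    Nat.beq (powC (mulC (repC e.1) (cjC e.2 (repC e.1))) 3) oneC &&
    !Nat.beq (mulC (repC e.1) (cjC e.2 (repC e.1))) oneC) = true ∧ oddList.map Prod.fst = [3, 4, 6, 7] := by
  decide +kernel

theorem center_eq {c : ℕ} (hc : Mem c) (h : ∀ g ∈ gensH, mulC c g = mulC g c) : c = oneC ∨ c = sC := by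
  have := List.all_eq_true.1 center_ok c (List.mem_filter.2 ⟨mem_iff_elems.1 hc, List.all_eq_true.2 fun g hg => by
    simp only [commC, Nat.beq_eq]; exact h g hg⟩)
  simpa only [Bool.or_eq_true, Nat.beq_eq] using this

theorem exists_setup {G : Type*} [Group G] {s : SL5} (hs : (s : M5) = Matrix.transvection 0 1 1) {z : G}
    (hz : orderOf z = 2) (e : Subgroup.centralizer ({z} : Set G) ≃* Subgroup.centralizer ({s} : Set SL5)) :
    ∃ I : ℕ → G, Loc z I := by
  refine exists_loc hs z e fun c hc => ?_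
  obtain ⟨d, hd, hde⟩ := exists_code hs (e c).2
  have hcz : ∀ y : Subgroup.centralizer ({z} : Set G), c * y = y * c := fun y => Subtype.ext (by
    show (c : G) * y = y * c
    rw [hc]; exact (Subgroup.mem_centralizer_singleton_iff.1 y.2).symm)
  have hcomm : ∀ g ∈ gensH, mulC d g = mulC g d := by
    intro g hg
    have hgm : Mem g := by
      have := List.all_eq_true.1 gens_mem g hg
      simp only [Bool.and_eq_true] at this
      exact this.1
    refine toMat_inj (mulC_lt _ _) (mulC_lt _ _) ?_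
    have := congrArg e (hcz (e.symm ⟨toSL hgm, toSL_mem hs hgm⟩))
    rw [map_mul, map_mul, e.apply_symm_apply] at this
    have h2 := congrArg (fun x : Subgroup.centralizer ({s} : Set SL5) => ((x : SL5) : M5)) this
    simp only [Subgroup.coe_mul, Matrix.SpecialLinearGroup.coe_mul, toSL_coe, ← hde] at h2
    rw [toMat_mulC, toMat_mulC, h2]
  rcases center_eq hd hcomm with rfl | rfl
  · exfalso
    have h1 : e c = 1 := Subtype.ext (Subtype.ext (hde.symm.trans toMat_one))
    rw [map_eq_one_iff e e.injective] at h1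
    rw [h1] at hc
    rw [← hc] at hz
    simp at hz
  · exact Subtype.ext (hde.symm.trans (toMat_s.trans hs.symm))

namespace Loc

variable {G : Type*} [Group G] {z : G} {I : ℕ → G} (L : Loc z I)
include L

theorem twisted : Loc z (fun c => I (tauC c)) where
  hom a b ha hb := by rw [ha.tau_mul hb, L.hom _ _ ha.tau hb.tau]
  inj a b ha hb h := by rw [← ha.tau_tau, L.inj _ _ ha.tau hb.tau h, hb.tau_tau]
  range x := by
    rw [L.range x]
    exact ⟨fun ⟨c, hc, e⟩ => ⟨tauC c, hc.tau, by rw [hc.tau_tau, e]⟩, fun ⟨c, hc, e⟩ => ⟨tauC c, hc.tau, e⟩⟩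
  map_s := by rw [tau_s, L.map_s]

theorem fused_twisted {i : ℕ} (hi : i < 8) :
    IsConj (I (tauC (repC i))) z ↔ IsConj (I (repC (tauCls.getD i 0))) z := by
  have h := List.all_eq_true.1 tau_cls i (List.mem_range.2 hi)
  rw [Nat.beq_eq] at h
  rw [L.fused_cls (Mem.rep i).tau, h]
  have : tauCls.getD i 0 < 8 := (show ∀ i < 8, tauCls.getD i 0 < 8 by decide) i hi
  exact ⟨fun h => h.2, fun h => ⟨this, h⟩⟩

/-- The class of a conjugate of `z` in the core is one of the first two. -/
theorem core_fused [Finite G] {x : Subgroup.centralizer ({z} : Set G)}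
    (hx : x ∈ Cfsg.pCore 2 (Subgroup.centralizer ({z} : Set G))) (hc : IsConj (x : G) z) (hne : (x : G) ≠ z) :
    IsConj (I (repC 1)) z ∨ IsConj (I (repC 2)) z := by
  obtain ⟨c, hcm, e⟩ := (L.range _).1 (Subgroup.mem_centralizer_singleton_iff.1 x.2)
  rw [← e] at hc hne
  obtain ⟨hlt, hF⟩ := (L.fused_cls hcm).1 hc
  have h0 : clsOf c ≠ 0 := fun h => by
    obtain ⟨-, h1, h2⟩ := clsOf_none hlt
    obtain ⟨-, k, hk, hkc⟩ := cls_spec hcm h1 h2
    rw [h, repC_zero] at hkc
    refine hne ?_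
    rw [← hkc, L.map_cj hk mem_sC, L.map_s, L.comm_z hk, mul_inv_cancel_right]
  have hne5 : clsOf c ≠ 5 := fun h => L.h45_not (c := 5) (by simp) (h ▸ hF)
  have hbig : clsOf c ∉ [3, 4, 6, 7] := by
    intro hmem
    obtain ⟨hok, hfst⟩ := odd_ok
    rw [← hfst, List.mem_map] at hmem
    obtain ⟨p, hp, hpe⟩ := hmem
    have := List.all_eq_true.1 hok p hp
    simp only [Bool.and_eq_true, Nat.beq_eq, Bool.not_eq_true'] at this
    obtain ⟨⟨hh, h3⟩, hne1⟩ := this
    rw [hpe] at h3 hne1
    obtain ⟨-, h1, h2⟩ := clsOf_none hlt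
    obtain ⟨-, k, hk, hkc⟩ := cls_spec hcm h1 h2
    let N := Cfsg.pCore 2 (Subgroup.centralizer ({z} : Set G))
    haveI : Fact (Nat.Prime 2) := ⟨Nat.prime_two⟩
    haveI hN : N.Normal := Cfsg.Agent.Grp.pCore_isNormal
    let el : ∀ a, Mem a → Subgroup.centralizer ({z} : Set G) := fun a ha =>
      ⟨I a, Subgroup.mem_centralizer_singleton_iff.2 (L.comm_z ha)⟩
    have hr : el _ (Mem.rep (clsOf c)) ∈ N := by
      have := hN.conj_mem x hx (el _ hk)⁻¹
      convert this using 1
      refine Subtype.ext ?_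
      show I (repC (clsOf c)) = (I k)⁻¹ * x * (I k)⁻¹⁻¹
      rw [← e]
      conv_rhs => rw [← hkc]
      rw [L.map_cj hk (Mem.rep _)]; group
    have hprod := N.mul_mem hr (hN.conj_mem _ hr (el _ hh))
    set m := mulC (repC (clsOf c)) (cjC p.2 (repC (clsOf c))) with hm
    have hmm : Mem m := (Mem.rep _).mul (Mem.cj hh (Mem.rep _))
    obtain ⟨j, hj⟩ := (Cfsg.Agent.Grp.pCore_isPGroup (p := 2)) ⟨_, hprod⟩
    have hval : I m ^ 2 ^ j = 1 := by
      have := congrArg (fun y : N => ((y : Subgroup.centralizer ({z} : Set G)) : G)) hj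
      simp only [SubmonoidClass.coe_pow, OneMemClass.coe_one] at this
      rw [hm, L.hom _ _ (Mem.rep _) (Mem.cj hh (Mem.rep _)), L.map_cj hh (Mem.rep _)]
      simpa only [el, Subgroup.coe_mul, Subgroup.coe_inv] using this
    have hcube : I m ^ 3 = 1 := by
      have : powC m 3 = mulC m (mulC m (mulC m oneC)) := rfl
      rw [← L.map_one, ← h3, this, hmm.mul_one, L.hom _ _ hmm (hmm.mul hmm), L.hom _ _ hmm hmm, pow_succ',
        pow_two]
    have h1' : I m = 1 := by
      have hco : Nat.Coprime (2 ^ j) 3 := (by decide : Nat.Coprime 2 3).pow_left _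
      have := pow_gcd_eq_one.2 ⟨hval, hcube⟩
      rwa [hco, pow_one] at this
    exact absurd ((L.eq_one_iff hmm).1 h1') (fun h => by rw [h] at hne1; simp at hne1)
  have : clsOf c = 1 ∨ clsOf c = 2 := by
    simp only [List.mem_cons, List.not_mem_nil, or_false, not_or] at hbig
    omega
  rcases this with h | h <;> rw [h] at hF
  exacts [Or.inl hF, Or.inr hF]

/-- In a simple group some class is fused. -/
theorem exists_fused [Finite G] [IsSimpleGroup G] :
    ∃ i, i < 8 ∧ i ≠ 0 ∧ IsConj (I (repC i)) z := by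
  by_contra hno
  push Not at hno
  have hiso : Cfsg.IsIsolatedInvolution z := ⟨L.orderOf_z, fun g hg => by
    obtain ⟨c, hc, e⟩ := (L.range _).1 hg.eq.symm
    have hcz : IsConj (I c) z := by rw [e]; exact (isConj_iff.2 ⟨g, rfl⟩ : IsConj z _).symm
    obtain ⟨hlt, hF⟩ := (L.fused_cls hc).1 hcz
    rcases eq_or_ne (clsOf c) 0 with h | h
    · obtain ⟨-, h1, h2⟩ := clsOf_none hlt
      obtain ⟨-, k, hk, hkc⟩ := cls_spec hc h1 h2
      rw [h, repC_zero] at hkc
      rw [← e, ← hkc, L.map_cj hk mem_sC, L.map_s, L.comm_z hk, mul_inv_cancel_right]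
    · exact absurd hF (hno _ hlt h)⟩
  obtain ⟨N, hN, hodd, hcom⟩ := Cfsg.Agent.ZStar.exists_odd_normal hiso
  rcases hN.eq_bot_or_eq_top with h | h
  · have hc : ∀ g : G, z * g = g * z := fun g => by
      have := hcom g
      rw [h, Subgroup.mem_bot] at this
      exact mul_inv_eq_iff_eq_mul.1 (mul_inv_eq_one.1 this)
    have hgen : ∀ g ∈ gensH, Mem g := fun g hg => by
      have := List.all_eq_true.1 gens_mem g hg
      simp only [Bool.and_eq_true] at this
      exact this.1
    have hzc : Subgroup.zpowers z = ⊤ ∨ Subgroup.zpowers z = ⊥ := by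
      have hn : (Subgroup.zpowers z).Normal := ⟨fun n hn g => by
        obtain ⟨k, rfl⟩ := Subgroup.mem_zpowers_iff.1 hn
        have hcm : Commute (z ^ k) g := (show Commute z g from hc g).zpow_left k
        rw [← hcm.eq, mul_inv_cancel_right]; exact hn⟩
      exact hn.eq_bot_or_eq_top.symm
    rcases hzc with ht | hb
    · have h2 := L.card_centralizer
      have hz' : Nat.card (Subgroup.zpowers z) = 2 := by rw [Nat.card_zpowers, L.orderOf_z]
      rw [ht, Subgroup.card_top] at hz'
      have hle := Subgroup.card_le_card_group (Subgroup.centralizer ({z} : Set G))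
      omega
    · exact L.z_ne_one (Subgroup.zpowers_eq_bot.1 hb)
  · have h2 : 2 ∣ Nat.card (⊤ : Subgroup G) := by
      rw [Subgroup.card_top, ← L.orderOf_z]
      exact orderOf_dvd_natCard _
    exact Nat.not_even_iff_odd.2 hodd (h ▸ even_iff_two_dvd.2 h2)

/-- An element exchanging `z` and the representative. -/
theorem exists_swap {i : ℕ} (hi : i = 1 ∨ i = 2) (h : IsConj (I (repC i)) z) :
    ∃ σ : G, σ * z * σ⁻¹ = I (repC i) ∧ σ * I (repC i) * σ⁻¹ = z := by
  have hi8 : i < 8 ∧ i ≠ 0 := by omega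
  obtain ⟨g, d, hd, hd0, -, h1, h2⟩ := L.exists_partner hi8.1 hi8.2 h
  obtain ⟨e1, -⟩ := L.cardC_eq h1 h2
  have hd12 : d = 1 ∨ d = 2 := by
    exact partner_small hi hd hd0 e1
  have hsw : ∀ j, j = 1 ∨ j = 2 → ∃ k, I k * z = z * I k ∧
      I k * I (repC j) * (I k)⁻¹ = I (repC j) * z ∧ I k * (I (repC j) * z) * (I k)⁻¹ = I (repC j) := by
    intro j hj
    have := List.all_eq_true.1 swap_ok j (by rcases hj with rfl | rfl <;> simp)
    simp only [Bool.and_eq_true, Nat.beq_eq] at this
    obtain ⟨⟨hk, ha⟩, hb⟩ := this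
    refine ⟨_, L.comm_z hk, ?_, ?_⟩
    · rw [← L.map_cj hk (Mem.rep j), ha, L.hom _ _ (Mem.rep j) mem_sC, L.map_s]
    · conv_lhs => rw [← L.map_s, ← L.hom _ _ (Mem.rep j) mem_sC, ← L.map_cj hk ((Mem.rep j).mul mem_sC), hb]
  obtain ⟨p, hpz, hpu, hpzu⟩ := hsw i hi
  obtain ⟨q, hqz, hqw, hqzw⟩ := hsw d hd12
  set u := I (repC i)
  set w := I (repC d)
  set K := g⁻¹ * I q * g with hK
  have hKu : K * u * K⁻¹ = u :=
    calc K * u * K⁻¹ = g⁻¹ * (I q * (g * u * g⁻¹) * (I q)⁻¹) * g := by rw [hK]; group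
      _ = g⁻¹ * z * g := by rw [h1, hqz, mul_inv_cancel_right]
      _ = u := by rw [← h1]; group
  have hKz : K * z * K⁻¹ = z * u :=
    calc K * z * K⁻¹ = g⁻¹ * (I q * (g * z * g⁻¹) * (I q)⁻¹) * g := by rw [hK]; group
      _ = g⁻¹ * (w * z) * g := by rw [h2, hqw]
      _ = g⁻¹ * (g * z * g⁻¹ * (g * u * g⁻¹)) * g := by rw [h1, h2]
      _ = z * u := by group
  have hzu : u * z = z * u := L.comm_z (Mem.rep i)
  have huu : u * u = 1 := L.mul_self_of_conj h
  refine ⟨I p * K * I p, ?_, ?_⟩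
  · calc I p * K * I p * z * (I p * K * I p)⁻¹ = I p * (K * (I p * z * (I p)⁻¹) * K⁻¹) * (I p)⁻¹ := by group
      _ = I p * (z * u) * (I p)⁻¹ := by rw [hpz, mul_inv_cancel_right, hKz]
      _ = u := by rw [← hzu, hpzu]
  · calc I p * K * I p * u * (I p * K * I p)⁻¹ = I p * (K * (I p * u * (I p)⁻¹) * K⁻¹) * (I p)⁻¹ := by group
      _ = I p * ((K * u * K⁻¹) * (K * z * K⁻¹)) * (I p)⁻¹ := by rw [hpu]; group
      _ = I p * (u * u * z) * (I p)⁻¹ := by rw [hKu, hKz, ← hzu, ← mul_assoc u u z]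
      _ = z := by rw [huu, one_mul, hpz, mul_inv_cancel_right]

end Loc

end Cfsg.Agent.Fus.Transv
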