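import Cfsg.Agent.Lib.Fus.Transv.CaseL
import Cfsg.Agent.Lib.Fus.Transv.CaseM
import Cfsg.Agent.Lib.Fus.Transv.CaseH
import Cfsg.Agent.Lib.Fus.Transv.Setup
import Cfsg.Agent.Lib.Fus.Transv.STFinal
import Cfsg.Agent.Lib.Classical.SLNormal
import Cfsg.Agent.S2133
import Cfsg.Agent.S2134
import Cfsg.Agent.S1695
import Cfsg.Agent.S0364
import Cfsg.Agent.S0365

/-!
# The three simple groups and the patterns
-/

set_option autoImplicit false
set_option maxRecDepth 100000

namespace Cfsg.Agent.Fus.Transv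

theorem simple_SL5 : IsSimpleGroup SL5 := by
  haveI : Fact (Nat.Prime 2) := ⟨Nat.prime_two⟩
  haveI := Cfsg.Agent.Classical.PSL_isSimple (F := ZMod 2) (n := 5) (by norm_num) (by norm_num)
  have hz : Subgroup.center SL5 = ⊥ := by
    refine Subgroup.eq_bot_of_card_eq _ ?_
    rw [Cfsg.Agent.Classical.natCard_center_SL, Nat.card_units, Nat.card_zmod]
    rfl
  haveI : Nontrivial SL5 := Finite.one_lt_card_iff_nontrivial.1 (by rw [card_SL5]; norm_num)
  let f := ((QuotientGroup.quotientMulEquivOfEq hz).trans QuotientGroup.quotientBot)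
  exact IsSimpleGroup.isSimpleGroup_of_surjective (G := Matrix.ProjectiveSpecialLinearGroup (Fin 5) (ZMod 2))
    f.toMonoidHom f.surjective

section

variable {G : Type*} [Group G] [Finite G] {z : G} {I : ℕ → G}

theorem not_oneClass [IsSimpleGroup G] (L : Loc z I) (hF : OneClass z I) : False := by
  haveI := L.EG_normal hF
  have h16 := L.card_EG
  rcases Subgroup.Normal.eq_bot_or_eq_top (inferInstance : (EG L).Normal) with h | h
  · rw [h, Subgroup.card_bot] at h16
    omega
  · rw [h, Subgroup.card_top] at h16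
    have h1 := Subgroup.card_le_card_group (Subgroup.centralizer ({z} : Set G))
    rw [L.card_centralizer] at h1
    omega

theorem tau_masks : (List.range 8).all (fun i => (inMask 2 i == inMask 4 (tauCls.getD i 0)) &&
    (inMask 78 i == inMask 142 (tauCls.getD i 0)) && Nat.blt (tauCls.getD i 0) 8) = true := by decide +kernel

omit [Finite G] in
theorem twist_mask (L : Loc z I) {m m' : ℕ} (hm : ∀ i < 8, inMask m' i = true ↔ IsConj (I (repC i)) z)
    (h : (m, m') = (2, 4) ∨ (m, m') = (78, 142)) :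
    ∀ i < 8, inMask m i = true ↔ IsConj (I (tauC (repC i))) z := by
  intro i hi
  have ht := List.all_eq_true.1 tau_masks i (List.mem_range.2 hi)
  simp only [Bool.and_eq_true, beq_iff_eq, Nat.blt_eq] at ht
  rw [L.fused_twisted hi, ← hm _ ht.2]
  rcases h with h | h <;> obtain ⟨rfl, rfl⟩ := Prod.mk.inj h
  · rw [ht.1.1]
  · rw [ht.1.2]

/-- With a fused class among the first two, coordinates with one of four patterns exist. -/
theorem exists_pattern (L : Loc z I) (h12 : ∃ i, i < 8 ∧ i ≠ 0 ∧ IsConj (I (repC i)) z) :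
    ∃ J : ℕ → G, Loc z J ∧ ∃ m, m ∈ [2, 14, 78, 206] ∧ ∀ i < 8, inMask m i = true ↔ IsConj (J (repC i)) z := by
  obtain ⟨m, hm, hmask⟩ := L.exists_mask
  simp only [List.mem_cons, List.not_mem_nil, or_false] at hm
  rcases hm with rfl | rfl | rfl | rfl | rfl | rfl | rfl
  · obtain ⟨i, hi, hi0, hF⟩ := h12
    have h := (hmask i hi).2 hF
    simp [inMask, hi0] at h
  · exact ⟨I, L, 2, by simp, hmask⟩
  · exact ⟨_, L.twisted, 2, by simp, twist_mask L hmask (Or.inl rfl)⟩
  · exact ⟨I, L, 14, by simp, hmask⟩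
  · exact ⟨I, L, 78, by simp, hmask⟩
  · exact ⟨_, L.twisted, 78, by simp, twist_mask L hmask (Or.inr rfl)⟩
  · exact ⟨I, L, 206, by simp, hmask⟩

/-- The three patterns of simple groups. -/
def Pat3 (z : G) (J : ℕ → G) : Prop :=
  HasPat z J swapTree1_14 swapTree2_14 pdataL ∨ HasPat z J swapTree1_78 swapTree2_78 pdataM ∨
    HasPat z J swapTree1_206 swapTree2_206 pdataH

/-- One of the three patterns, unless the group is a vector stabilizer. -/
theorem pat3_or (L : Loc z I) (h12 : ∃ i, i < 8 ∧ i ≠ 0 ∧ IsConj (I (repC i)) z) :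
    (∃ J, Loc z J ∧ OneClass z J) ∨ ∃ J, Pat3 z J := by
  obtain ⟨J, hJ, m, hm, hmask⟩ := exists_pattern L h12
  simp only [List.mem_cons, List.not_mem_nil, or_false] at hm
  rcases hm with rfl | rfl | rfl | rfl
  · exact Or.inl ⟨J, hJ, hmask⟩
  · exact Or.inr ⟨J, Or.inl (hasPatL hJ hmask)⟩
  · exact Or.inr ⟨J, Or.inr (Or.inl (hasPatM hJ hmask))⟩
  · exact Or.inr ⟨J, Or.inr (Or.inr (hasPatH hJ hmask))⟩

theorem simple_pat3 [IsSimpleGroup G] {s : SL5} (hs : (s : M5) = Matrix.transvection 0 1 1) (hz : orderOf z = 2)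
    (e : Subgroup.centralizer ({z} : Set G) ≃* Subgroup.centralizer ({s} : Set SL5)) : ∃ J, Pat3 z J := by
  obtain ⟨I, L⟩ := exists_setup hs hz e
  exact (pat3_or L L.exists_fused).resolve_left fun ⟨J, hJ, hF⟩ => not_oneClass hJ hF

theorem boundL : EnumL.logL.N * (pdataL0.d.A.length * tdataL.keys.toList.length) = 9999360 := by
  rw [tdataL_card, show EnumL.logL.N = 155 from rfl]

theorem boundM : EnumM.logM.N * (pdataM0.d.A.length * tdataM.keys.toList.length) = 244823040 := by
  rw [tdataM_card, show EnumM.logM.N = 1771 from rfl]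

theorem boundH : EnumH.logH.N * (pdataH0.d.A.length * tdataH.keys.toList.length) = 4030387200 := by
  rw [tdataH_card, show EnumH.logH.N = 29155 from rfl]

end

theorem exists_tvS : ∃ s : SL5, (s : M5) = Matrix.transvection 0 1 1 :=
  ⟨⟨Matrix.transvection 0 1 1, Matrix.det_transvection_of_ne 0 1 (by decide) 1⟩, rfl⟩

/-- The largest of the three simple groups has the last pattern. -/
theorem he_pat : ∃ (z : Cfsg.Spor.He) (J : ℕ → Cfsg.Spor.He), HasPat z J swapTree1_206 swapTree2_206 pdataH := by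
  obtain ⟨s, hs⟩ := exists_tvS
  obtain ⟨hsimple, hcard⟩ := Cfsg.Agent.S1695.result
  haveI := hsimple
  haveI : Finite Cfsg.Spor.He := Nat.finite_of_card_ne_zero (by rw [hcard]; norm_num)
  obtain ⟨z, hz, ⟨e⟩⟩ := Cfsg.Agent.S2134.result s hs
  obtain ⟨J, h | h | h⟩ := simple_pat3 hs hz e
  · have := (card_le_of_pat h patL).trans_eq boundL; omega
  · have := (card_le_of_pat h patM).trans_eq boundM; omega
  · exact ⟨z, J, h⟩

theorem iso_he {G : Type*} [Group G] [Finite G] {z : G} {J : ℕ → G}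
    (h : HasPat z J swapTree1_206 swapTree2_206 pdataH) : Nonempty (Cfsg.Spor.He ≃* G) := by
  obtain ⟨hsimple, hcard⟩ := Cfsg.Agent.S1695.result
  haveI := hsimple
  haveI : Finite Cfsg.Spor.He := Nat.finite_of_card_ne_zero (by rw [hcard]; norm_num)
  obtain ⟨z', J', h'⟩ := he_pat
  exact iso_of_pat h h' patH (by rw [boundH, hcard])

theorem m24_pat : ∃ (z : Cfsg.M24) (J : ℕ → Cfsg.M24), HasPat z J swapTree1_78 swapTree2_78 pdataM := by
  obtain ⟨s, hs⟩ := exists_tvS
  haveI := Cfsg.Agent.S0365.result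
  have hcard := Cfsg.Agent.S0364.result
  obtain ⟨z, hz, ⟨e⟩⟩ := Cfsg.Agent.S2133.result s hs
  obtain ⟨J, h | h | h⟩ := simple_pat3 hs hz e
  · have := (card_le_of_pat h patL).trans_eq boundL; omega
  · exact ⟨z, J, h⟩
  · obtain ⟨f⟩ := iso_he h
    have := Nat.card_congr f.toEquiv
    rw [Cfsg.Agent.S1695.result.2, hcard] at this
    omega

theorem iso_m24 {G : Type*} [Group G] [Finite G] {z : G} {J : ℕ → G}
    (h : HasPat z J swapTree1_78 swapTree2_78 pdataM) : Nonempty (Cfsg.M24 ≃* G) := by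
  haveI := Cfsg.Agent.S0365.result
  obtain ⟨z', J', h'⟩ := m24_pat
  exact iso_of_pat h h' patM (by rw [boundM, Cfsg.Agent.S0364.result])

theorem sl5_pat : ∃ (z : SL5) (J : ℕ → SL5), HasPat z J swapTree1_14 swapTree2_14 pdataL := by
  obtain ⟨s, hs⟩ := exists_tvS
  haveI := simple_SL5
  have hz : orderOf s = 2 := by
    refine orderOf_eq_prime (hp := ⟨Nat.prime_two⟩) (Subtype.ext ?_) fun h => ?_
    · rw [pow_two, Matrix.SpecialLinearGroup.coe_mul, hs, Matrix.transvection_mul_transvection_same _ _ (by decide)]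
      simp [Matrix.SpecialLinearGroup.coe_one, show (1 : ZMod 2) + 1 = 0 from rfl]
    · rw [h] at hs
      have := congrFun (congrFun hs 0) 1
      simp [Matrix.transvection] at this
  obtain ⟨J, h | h | h⟩ := simple_pat3 hs hz (MulEquiv.refl _)
  · exact ⟨s, J, h⟩
  · obtain ⟨f⟩ := iso_m24 h
    have := Nat.card_congr f.toEquiv
    rw [Cfsg.Agent.S0364.result, card_SL5] at this
    omega
  · obtain ⟨f⟩ := iso_he h
    have := Nat.card_congr f.toEquiv
    rw [Cfsg.Agent.S1695.result.2, card_SL5] at this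
    omega

theorem iso_sl5 {G : Type*} [Group G] [Finite G] {z : G} {J : ℕ → G}
    (h : HasPat z J swapTree1_14 swapTree2_14 pdataL) : Nonempty (SL5 ≃* G) := by
  haveI := simple_SL5
  obtain ⟨z', J', h'⟩ := sl5_pat
  exact iso_of_pat h h' patL (by rw [boundL, card_SL5])

/-- The groups of the three patterns. -/
theorem iso_of_pat3 {G : Type*} [Group G] [Finite G] {z : G} {J : ℕ → G} (h : Pat3 z J) :
    Nonempty (G ≃* SL5) ∨ Nonempty (G ≃* Cfsg.M24) ∨ Cfsg.Spor.IsoHe G := by
  rcases h with h | h | h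
  · exact Or.inl ((iso_sl5 h).map MulEquiv.symm)
  · exact Or.inr (Or.inl ((iso_m24 h).map MulEquiv.symm))
  · exact Or.inr (Or.inr ((iso_he h).map MulEquiv.symm))

end Cfsg.Agent.Fus.Transv
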