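import Mathlib

/-! Generated data for the centralizer of a transvection. -/

set_option autoImplicit false
set_option maxRecDepth 100000

namespace Cfsg.Agent.Fus.Transv

/-- Search trees. -/
inductive CTree where
  | leaf
  | node (key val : ℕ) (l r : CTree)

/-- The classes of the involutions. -/
def clsTree : CTree := (.node 17567809 3 (.node 15405151 3 (.node 8943707 7 (.node 6637655 7 (.node 5128279 4 (.node 4538433 7 (.node 4472917 3 (.node 4472905 6 (.node 4472899 4 (.node 4472897 3 .leaf .leaf) .leaf) (.node 4472907 6 .leaf .leaf)) (.node 4472925 6 (.node 4472919 4 .leaf .leaf) (.node 4472927 6 .leaf .leaf))) (.node 5128259 4 (.node 4538455 7 (.node 4538453 7 (.node 4538435 7 .leaf .leaf) .leaf) (.node 5128257 3 .leaf .leaf)) (.node 5128271 6 (.node 5128269 6 .leaf .leaf) (.node 5128277 3 .leaf .leaf)))) (.node 6572105 6 (.node 5193813 7 (.node 5193793 7 (.node 5128283 6 (.node 5128281 6 .leaf .leaf) .leaf) (.node 5193795 7 .leaf .leaf)) (.node 6572097 3 (.node 5193815 7 .leaf .leaf) (.node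 6572099 4 .leaf .leaf))) (.node 6572127 6 (.node 6572119 3 (.node 6572117 4 (.node 6572107 6 .leaf .leaf) .leaf) (.node 6572125 6 .leaf .leaf)) (.node 6637635 7 (.node 6637633 7 .leaf .leaf) (.node 6637653 7 .leaf .leaf))))) (.node 8917083 4 (.node 7293013 4 (.node 7292993 3 (.node 7227477 7 (.node 7227459 7 (.node 7227457 7 .leaf .leaf) .leaf) (.node 7227479 7 .leaf .leaf)) (.node 7293005 6 (.node 7292995 4 .leaf .leaf) (.node 7293007 6 .leaf .leaf))) (.node 8917059 4 (.node 7293019 6 (.node 7293017 6 (.node 7293015 3 .leaf .leaf) .leaf) (.node 8917057 3 .leaf .leaf)) (.node 8917063 6 (.node 8917061 6 .leaf .leaf) (.node 8917081 3 .leaf .leaf)))) (.node 8941645 6 (.node 8919129 7 (.node 8919105 7 (.node 8917087 6 (.node 8917085 6 .leaf .leaf) .leaf) (.node 8919107 7 .leaf .leaf)) (.node 8941633 3 (.node 8919131 7 .leaf .leaf) (.node 8941635 4 .leaf .leaf))) (.node 8941659 4 (.node 8941655 6 (.node 8941653 6 (.node 8941647 6 .leaf .leaf) .leaf) (.node 8941657 3 .leaf .leaf)) (.node 8943683 7 (.node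 8943681 7 .leaf .leaf) (.node 8943705 7 .leaf .leaf)))))) (.node 12937311 7 (.node 11106371 4 (.node 11081793 7 (.node 11079769 4 (.node 11079749 6 (.node 11079747 4 (.node 11079745 3 .leaf .leaf) .leaf) (.node 11079751 6 .leaf .leaf)) (.node 11079773 6 (.node 11079771 3 .leaf .leaf) (.node 11079775 6 .leaf .leaf))) (.node 11104323 7 (.node 11081819 7 (.node 11081817 7 (.node 11081795 7 .leaf .leaf) .leaf) (.node 11104321 7 .leaf .leaf)) (.node 11104347 7 (.node 11104345 7 .leaf .leaf) (.node 11106369 3 .leaf .leaf)))) (.node 12869705 6 (.node 11106393 4 (.node 11106389 6 (.node 11106383 6 (.node 11106381 6 .leaf .leaf) .leaf) (.node 11106391 6 .leaf .leaf)) (.node 12869697 3 (.node 11106395 3 .leaf .leaf) (.node 12869699 4 .leaf .leaf))) (.node 12869727 4 (.node 12869719 6 (.node 12869717 6 (.node 12869707 6 .leaf .leaf) .leaf) (.node 12869725 3 .leaf .leaf)) (.node 12937283 7 (.node 12937281 7 .leaf .leaf) (.node 12937309 7 .leaf .leaf))))) (.node 14968919 6 (.node 13310017 7 (.node 13242457 6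 (.node 13242437 6 (.node 13242435 4 (.node 13242433 3 .leaf .leaf) .leaf) (.node 13242439 6 .leaf .leaf)) (.node 13242461 3 (.node 13242459 6 .leaf .leaf) (.node 13242463 4 .leaf .leaf))) (.node 14968899 4 (.node 13310047 7 (.node 13310045 7 (.node 13310019 7 .leaf .leaf) .leaf) (.node 14968897 3 .leaf .leaf)) (.node 14968907 6 (.node 14968905 6 .leaf .leaf) (.node 14968917 6 .leaf .leaf)))) (.node 15341661 7 (.node 15032413 7 (.node 15032385 7 (.node 14968927 3 (.node 14968925 4 .leaf .leaf) .leaf) (.node 15032387 7 .leaf .leaf)) (.node 15341633 7 (.node 15032415 7 .leaf .leaf) (.node 15341635 7 .leaf .leaf))) (.node 15405127 6 (.node 15405123 4 (.node 15405121 3 (.node 15341663 7 .leaf .leaf) .leaf) (.node 15405125 6 .leaf .leaf)) (.node 15405147 6 (.node 15405145 6 .leaf .leaf) (.node 15405149 4 .leaf .leaf))))))) (.node 17068097 3 (.node 17045585 5 (.node 17043525 1 (.node 16984129 3 (.node 16916561 6 (.node 16916557 3 (.node 16916547 4 (.node 16916545 3 .leaf .leaf) .leaf) (.node 16916559 4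 .leaf .leaf)) (.node 16916573 6 (.node 16916563 6 .leaf .leaf) (.node 16916575 6 .leaf .leaf))) (.node 16984147 6 (.node 16984143 3 (.node 16984141 4 (.node 16984131 4 .leaf .leaf) .leaf) (.node 16984145 6 .leaf .leaf)) (.node 16984159 6 (.node 16984157 6 .leaf .leaf) (.node 17043523 0 .leaf .leaf)))) (.node 17043543 1 (.node 17043535 1 (.node 17043531 1 (.node 17043529 1 (.node 17043527 1 .leaf .leaf) .leaf) (.node 17043533 1 .leaf .leaf)) (.node 17043539 1 (.node 17043537 1 .leaf .leaf) (.node 17043541 1 .leaf .leaf))) (.node 17045569 2 (.node 17043549 1 (.node 17043547 1 (.node 17043545 1 .leaf .leaf) .leaf) (.node 17043551 1 .leaf .leaf)) (.node 17045577 5 (.node 17045571 2 .leaf .leaf) (.node 17045579 5 .leaf .leaf))))) (.node 17053785 6 (.node 17051731 6 (.node 17051715 4 (.node 17045595 5 (.node 17045593 5 (.node 17045587 5 .leaf .leaf) .leaf) (.node 17051713 3 .leaf .leaf)) (.node 17051723 4 (.node 17051721 3 .leaf .leaf) (.node 17051729 6 .leaf .leaf))) (.node 17053769 4 (.node 17053761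 3 (.node 17051739 6 (.node 17051737 6 .leaf .leaf) .leaf) (.node 17053763 4 .leaf .leaf)) (.node 17053777 6 (.node 17053771 3 .leaf .leaf) (.node 17053779 6 .leaf .leaf)))) (.node 17059931 6 (.node 17059915 6 (.node 17059907 4 (.node 17059905 3 (.node 17053787 6 .leaf .leaf) .leaf) (.node 17059913 6 .leaf .leaf)) (.node 17059923 4 (.node 17059921 3 .leaf .leaf) (.node 17059929 6 .leaf .leaf))) (.node 17061969 4 (.node 17061961 6 (.node 17061955 4 (.node 17061953 3 .leaf .leaf) .leaf) (.node 17061963 6 .leaf .leaf)) (.node 17061977 6 (.node 17061971 3 .leaf .leaf) (.node 17061979 6 .leaf .leaf)))))) (.node 17127489 7 (.node 17109061 5 (.node 17070147 4 (.node 17068115 6 (.node 17068107 6 (.node 17068105 6 (.node 17068099 4 .leaf .leaf) .leaf) (.node 17068113 6 .leaf .leaf)) (.node 17068123 4 (.node 17068121 3 .leaf .leaf) (.node 17070145 3 .leaf .leaf))) (.node 17070169 4 (.node 17070161 6 (.node 17070155 6 (.node 17070153 6 .leaf .leaf) .leaf) (.node 17070163 6 .leaf .leaf)) (.node 17109057 2 (.node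 17070171 3 .leaf .leaf) (.node 17109059 2 .leaf .leaf)))) (.node 17111119 5 (.node 17109079 5 (.node 17109075 5 (.node 17109073 5 (.node 17109063 5 .leaf .leaf) .leaf) (.node 17109077 5 .leaf .leaf)) (.node 17111107 2 (.node 17111105 2 .leaf .leaf) (.node 17111117 5 .leaf .leaf))) (.node 17125441 7 (.node 17111133 5 (.node 17111123 5 (.node 17111121 5 .leaf .leaf) .leaf) (.node 17111135 5 .leaf .leaf)) (.node 17125457 7 (.node 17125443 7 .leaf .leaf) (.node 17125459 7 .leaf .leaf))))) (.node 17240149 6 (.node 17174611 6 (.node 17174595 4 (.node 17127507 7 (.node 17127505 7 (.node 17127491 7 .leaf .leaf) .leaf) (.node 17174593 3 .leaf .leaf)) (.node 17174599 4 (.node 17174597 3 .leaf .leaf) (.node 17174609 6 .leaf .leaf))) (.node 17240133 4 (.node 17240129 3 (.node 17174615 6 (.node 17174613 6 .leaf .leaf) .leaf) (.node 17240131 4 .leaf .leaf)) (.node 17240145 6 (.node 17240135 3 .leaf .leaf) (.node 17240147 6 .leaf .leaf)))) (.node 17457247 4 (.node 17457231 6 (.node 17457219 4 (.node 17457217 3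 (.node 17240151 6 .leaf .leaf) .leaf) (.node 17457229 6 .leaf .leaf)) (.node 17457235 6 (.node 17457233 6 .leaf .leaf) (.node 17457245 3 .leaf .leaf))) (.node 17524817 6 (.node 17524813 6 (.node 17524803 4 (.node 17524801 3 .leaf .leaf) .leaf) (.node 17524815 6 .leaf .leaf)) (.node 17524829 4 (.node 17524819 6 .leaf .leaf) (.node 17524831 3 .leaf .leaf)))))))) (.node 21237825 3 (.node 19140673 2 (.node 17649729 7 (.node 17584221 6 (.node 17569859 7 (.node 17567827 4 (.node 17567815 6 (.node 17567813 6 (.node 17567811 4 .leaf .leaf) .leaf) (.node 17567825 3 .leaf .leaf)) (.node 17567831 6 (.node 17567829 6 .leaf .leaf) (.node 17569857 7 .leaf .leaf))) (.node 17584205 6 (.node 17584193 3 (.node 17569875 7 (.node 17569873 7 .leaf .leaf) .leaf) (.node 17584195 4 .leaf .leaf)) (.node 17584209 3 (.node 17584207 6 .leaf .leaf) (.node 17584211 4 .leaf .leaf)))) (.node 17633351 6 (.node 17586259 7 (.node 17586243 7 (.node 17586241 7 (.node 17584223 6 .leaf .leaf) .leaf) (.node 17586257 7 .leaf .leaf)) (.node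 17633347 4 (.node 17633345 3 .leaf .leaf) (.node 17633349 6 .leaf .leaf))) (.node 17635393 7 (.node 17633365 6 (.node 17633363 3 (.node 17633361 4 .leaf .leaf) .leaf) (.node 17633367 6 .leaf .leaf)) (.node 17635409 7 (.node 17635395 7 .leaf .leaf) (.node 17635411 7 .leaf .leaf))))) (.node 17698901 3 (.node 17651795 3 (.node 17651779 4 (.node 17649747 7 (.node 17649745 7 (.node 17649731 7 .leaf .leaf) .leaf) (.node 17651777 3 .leaf .leaf)) (.node 17651791 6 (.node 17651789 6 .leaf .leaf) (.node 17651793 4 .leaf .leaf))) (.node 17698885 6 (.node 17698881 3 (.node 17651807 6 (.node 17651805 6 .leaf .leaf) .leaf) (.node 17698883 4 .leaf .leaf)) (.node 17698897 6 (.node 17698887 6 .leaf .leaf) (.node 17698899 6 .leaf .leaf)))) (.node 17764439 3 (.node 17764423 6 (.node 17764419 4 (.node 17764417 3 (.node 17698903 4 .leaf .leaf) .leaf) (.node 17764421 6 .leaf .leaf)) (.node 17764435 6 (.node 17764433 6 .leaf .leaf) (.node 17764437 4 .leaf .leaf))) (.node 19081281 7 (.node 19013709 7 (.node 19013699 7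 (.node 19013697 7 .leaf .leaf) .leaf) (.node 19013711 7 .leaf .leaf)) (.node 19081293 7 (.node 19081283 7 .leaf .leaf) (.node 19081295 7 .leaf .leaf)))))) (.node 19208277 5 (.node 19148873 7 (.node 19142723 2 (.node 19140683 5 (.node 19140679 5 (.node 19140677 5 (.node 19140675 2 .leaf .leaf) .leaf) (.node 19140681 5 .leaf .leaf)) (.node 19140687 5 (.node 19140685 5 .leaf .leaf) (.node 19142721 2 .leaf .leaf))) (.node 19142749 5 (.node 19142741 5 (.node 19142731 5 (.node 19142729 5 .leaf .leaf) .leaf) (.node 19142743 5 .leaf .leaf)) (.node 19148865 7 (.node 19142751 5 .leaf .leaf) (.node 19148867 7 .leaf .leaf)))) (.node 19206215 5 (.node 19150923 7 (.node 19150915 7 (.node 19150913 7 (.node 19148875 7 .leaf .leaf) .leaf) (.node 19150921 7 .leaf .leaf)) (.node 19206211 2 (.node 19206209 2 .leaf .leaf) (.node 19206213 5 .leaf .leaf))) (.node 19208257 2 (.node 19206237 5 (.node 19206235 5 (.node 19206233 5 .leaf .leaf) .leaf) (.node 19206239 5 .leaf .leaf)) (.node 19208269 5 (.node 19208259 2 .leaf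 .leaf) (.node 19208271 5 .leaf .leaf))))) (.node 19337285 7 (.node 19232835 7 (.node 19230787 7 (.node 19208283 5 (.node 19208281 5 (.node 19208279 5 .leaf .leaf) .leaf) (.node 19230785 7 .leaf .leaf)) (.node 19230811 7 (.node 19230809 7 .leaf .leaf) (.node 19232833 7 .leaf .leaf))) (.node 19271749 7 (.node 19271745 7 (.node 19232859 7 (.node 19232857 7 .leaf .leaf) .leaf) (.node 19271747 7 .leaf .leaf)) (.node 19337281 7 (.node 19271751 7 .leaf .leaf) (.node 19337283 7 .leaf .leaf)))) (.node 19619935 7 (.node 19556447 7 (.node 19556419 7 (.node 19556417 7 (.node 19337287 7 .leaf .leaf) .leaf) (.node 19556445 7 .leaf .leaf)) (.node 19619907 7 (.node 19619905 7 .leaf .leaf) (.node 19619933 7 .leaf .leaf))) (.node 19863617 7 (.node 19798101 7 (.node 19798083 7 (.node 19798081 7 .leaf .leaf) .leaf) (.node 19798103 7 .leaf .leaf)) (.node 19863637 7 (.node 19863619 7 .leaf .leaf) (.node 19863639 7 .leaf .leaf))))))) (.node 27529281 3 (.node 23466049 7 (.node 21368925 6 (.node 21303363 7 (.node 21237835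 6 (.node 21237831 4 (.node 21237829 3 (.node 21237827 4 .leaf .leaf) .leaf) (.node 21237833 6 .leaf .leaf)) (.node 21237839 6 (.node 21237837 6 .leaf .leaf) (.node 21303361 7 .leaf .leaf))) (.node 21368901 3 (.node 21368897 3 (.node 21303367 7 (.node 21303365 7 .leaf .leaf) .leaf) (.node 21368899 4 .leaf .leaf)) (.node 21368921 6 (.node 21368903 4 .leaf .leaf) (.node 21368923 6 .leaf .leaf)))) (.node 23334983 3 (.node 21434439 7 (.node 21434435 7 (.node 21434433 7 (.node 21368927 6 .leaf .leaf) .leaf) (.node 21434437 7 .leaf .leaf)) (.node 23334979 4 (.node 23334977 3 .leaf .leaf) (.node 23334981 4 .leaf .leaf))) (.node 23400513 7 (.node 23334989 6 (.node 23334987 6 (.node 23334985 6 .leaf .leaf) .leaf) (.node 23334991 6 .leaf .leaf)) (.node 23400517 7 (.node 23400515 7 .leaf .leaf) (.node 23400519 7 .leaf .leaf))))) (.node 25432141 6 (.node 23531611 6 (.node 23531587 4 (.node 23466055 7 (.node 23466053 7 (.node 23466051 7 .leaf .leaf) .leaf) (.node 23531585 3 .leaf .leaf)) (.node 23531591 3 (.node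 23531589 4 .leaf .leaf) (.node 23531609 6 .leaf .leaf))) (.node 25432133 6 (.node 25432129 3 (.node 23531615 6 (.node 23531613 6 .leaf .leaf) .leaf) (.node 25432131 4 .leaf .leaf)) (.node 25432137 3 (.node 25432135 6 .leaf .leaf) (.node 25432139 4 .leaf .leaf)))) (.node 25440331 4 (.node 25434187 7 (.node 25434179 7 (.node 25434177 7 (.node 25432143 6 .leaf .leaf) .leaf) (.node 25434185 7 .leaf .leaf)) (.node 25440323 4 (.node 25440321 3 .leaf .leaf) (.node 25440329 3 .leaf .leaf))) (.node 25442369 7 (.node 25440349 6 (.node 25440343 6 (.node 25440341 6 .leaf .leaf) .leaf) (.node 25440351 6 .leaf .leaf)) (.node 25442377 7 (.node 25442371 7 .leaf .leaf) (.node 25442379 7 .leaf .leaf)))))) (.node 29626433 3 (.node 27539529 4 (.node 27531331 7 (.node 27529291 3 (.node 27529287 6 (.node 27529285 6 (.node 27529283 4 .leaf .leaf) .leaf) (.node 27529289 4 .leaf .leaf)) (.node 27529295 6 (.node 27529293 6 .leaf .leaf) (.node 27531329 7 .leaf .leaf))) (.node 27537481 7 (.node 27537473 7 (.node 27531339 7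 (.node 27531337 7 .leaf .leaf) .leaf) (.node 27537475 7 .leaf .leaf)) (.node 27539521 3 (.node 27537483 7 .leaf .leaf) (.node 27539523 4 .leaf .leaf)))) (.node 29499471 4 (.node 27539551 6 (.node 27539543 6 (.node 27539541 6 (.node 27539531 3 .leaf .leaf) .leaf) (.node 27539549 6 .leaf .leaf)) (.node 29499459 4 (.node 29499457 3 .leaf .leaf) (.node 29499469 3 .leaf .leaf))) (.node 29567041 7 (.node 29499481 6 (.node 29499479 6 (.node 29499477 6 .leaf .leaf) .leaf) (.node 29499483 6 .leaf .leaf)) (.node 29567053 7 (.node 29567043 7 .leaf .leaf) (.node 29567055 7 .leaf .leaf))))) (.node 31664205 4 (.node 29694019 7 (.node 29626443 6 (.node 29626439 6 (.node 29626437 6 (.node 29626435 4 .leaf .leaf) .leaf) (.node 29626441 6 .leaf .leaf)) (.node 29626447 4 (.node 29626445 3 .leaf .leaf) (.node 29694017 7 .leaf .leaf))) (.node 31596621 7 (.node 31596609 7 (.node 29694031 7 (.node 29694029 7 .leaf .leaf) .leaf) (.node 31596611 7 .leaf .leaf)) (.node 31664193 3 (.node 31596623 7 .leaf .leaf) (.node 31664195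 4 .leaf .leaf)))) (.node 31723591 6 (.node 31664219 6 (.node 31664215 6 (.node 31664213 6 (.node 31664207 3 .leaf .leaf) .leaf) (.node 31664217 6 .leaf .leaf)) (.node 31723587 4 (.node 31723585 3 .leaf .leaf) (.node 31723589 6 .leaf .leaf))) (.node 31791169 7 (.node 31723597 4 (.node 31723595 6 (.node 31723593 6 .leaf .leaf) .leaf) (.node 31723599 3 .leaf .leaf)) (.node 31791181 7 (.node 31791171 7 .leaf .leaf) (.node 31791183 7 .leaf .leaf)))))))))

end Cfsg.Agent.Fus.Transv
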