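import Cfsg.Agent.Lib.Fus.Transv.Setup
import Cfsg.Agent.Lib.Fus.Transv.TreeData

/-!
# Searching for the swapping automorphisms
-/

set_option autoImplicit false
set_option maxRecDepth 100000

namespace Cfsg.Agent.Fus.Transv

/-- Looking up a key. -/
noncomputable def CTree.find (t : CTree) : ℕ → ℕ :=
  CTree.rec (motive := fun _ => ℕ → ℕ) (fun _ => 8)
    (fun key val _ _ fl fr x => bif Nat.beq x key then val else bif Nat.blt x key then fl x else fr x) t

/-- The entries. -/
def CTree.toList : CTree → List (ℕ × ℕ)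
  | .leaf => []
  | .node k v l r => (k, v) :: (l.toList ++ r.toList)

theorem CTree.find_mem : ∀ (t : CTree) (x : ℕ), t.find x = 8 ∨ (x, t.find x) ∈ t.toList
  | .leaf, x => Or.inl rfl
  | .node k v l r, x => by
    show (bif Nat.beq x k then v else bif Nat.blt x k then l.find x else r.find x) = 8 ∨
      (x, bif Nat.beq x k then v else bif Nat.blt x k then l.find x else r.find x) ∈ (k, v) :: (l.toList ++ r.toList)
    cases h : Nat.beq x k
    · cases Nat.blt x k
      · simp only [cond_false, List.mem_cons, List.mem_append]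
        exact (CTree.find_mem r x).imp_right fun h => Or.inr (Or.inr h)
      · simp only [cond_false, cond_true, List.mem_cons, List.mem_append]
        exact (CTree.find_mem l x).imp_right fun h => Or.inr (Or.inl h)
    · rw [Nat.eq_of_beq_eq_true h]
      exact Or.inr (List.mem_cons_self ..)

/-- The class, quickly. -/
noncomputable def clsF (x : ℕ) : ℕ := clsTree.find x

theorem clsTree_ok : (clsTree.toList.all fun e => Nat.beq (clsOf e.1) e.2) = true := by decide +kernel

theorem clsF_tab : (invTab.all fun e => Nat.beq (clsF e.1) e.2.1) = true := by decide +kernel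

theorem clsF_eq (x : ℕ) : clsF x = clsOf x := by
  rcases CTree.find_mem clsTree x with h | h
  · cases hf : invTab.find? (fun e => Nat.beq e.1 x) with
    | none => rw [clsF, h]; unfold clsOf; rw [hf]
    | some e =>
      have he := Nat.eq_of_beq_eq_true (List.find?_some hf :)
      have := List.all_eq_true.1 clsF_tab e (List.mem_of_find?_eq_some hf)
      rw [Nat.beq_eq, he] at this
      rw [this]; unfold clsOf; rw [hf]
  · have := List.all_eq_true.1 clsTree_ok _ h
    rw [Nat.beq_eq] at this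
    exact this.symm

theorem Loc.fused_mask {G : Type*} [Group G] {z : G} {I : ℕ → G} (L : Loc z I) {m : ℕ}
    (hm : ∀ i < 8, inMask m i = true ↔ IsConj (I (repC i)) z) {x : ℕ} (hx : Mem x) :
    inMask m (clsF x) = true ↔ IsConj (I x) z := by
  rw [clsF_eq, L.fused_cls hx]
  rcases Nat.lt_or_ge (clsOf x) 8 with h | h
  · rw [hm _ h]; simp [h]
  · simp only [inMask, Bool.or_eq_true, Bool.and_eq_true, Nat.beq_eq, Nat.blt_eq]
    exact ⟨fun h' => by omega, fun h' => absurd h'.1 (by omega)⟩

/-- What a word shows about fusion. -/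
noncomputable def tag (m a b ab x : ℕ) : ℕ := Cfsg.Agent.Spor.Cos.force x fun x =>
  (bif Nat.beq x oneC then 1 else 0) + (bif inMask m (clsF x) then 2 else 0) +
    (bif inMask m (clsF (mulC x a)) then 4 else 0) + (bif inMask m (clsF (mulC x b)) then 8 else 0) +
    (bif inMask m (clsF (mulC x ab)) then 16 else 0)

/-- A word in a list of elements. -/
def prW (l : List ℕ) : List ℕ → ℕ
  | [] => oneC
  | j :: w => mulC (l.getD j oneC) (prW l w)

/-- The search. -/
noncomputable def search (m u zu : ℕ) (leaf : List (List ℕ × ℕ)) (lv : List (List ℕ × List (List ℕ × ℕ))) :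
    List ℕ → Bool :=
  List.rec (motive := fun _ => List ℕ → Bool) (fun acc => leaf.any fun e => e.1 == acc)
    (fun hd _ rec acc => hd.1.all fun y =>
      !(hd.2.all fun t => Nat.beq (tag m u sC zu (prW (acc ++ [y]) t.1)) t.2) || rec (acc ++ [y])) lv

/-- The checks on the data of one representative. -/
noncomputable def psiOk (m i : ℕ) (gens imgs : List ℕ) (lv : List (List ℕ × List (List ℕ × ℕ)))
    (leaf : List (List ℕ × ℕ)) (first : List (ℕ × ℕ)) : Bool :=
  (imgs.all fun g => inH g) && (gens.all fun g => inH g && commC g (repC i) && isInv g && !Nat.beq g sC && !Nat.beq g (repC i)) &&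
    Nat.beq gens.length lv.length &&
    (List.range gens.length).all (fun j =>
      ((invTab.map Prod.fst).filter (fun y => commC y (repC i) && !Nat.beq y sC && !Nat.beq y (repC i) &&
          Nat.beq (tag m (repC i) sC (mulC sC (repC i)) y) (tag m sC (repC i) (mulC sC (repC i)) (gens.getD j oneC))) ==
        bif Nat.beq j 0 then first.map Prod.fst else (lv.getD j ([], [])).1) &&
      (lv.getD j ([], [])).2.all fun t => t.1.all (fun l => Nat.ble l j) &&
        Nat.beq (tag m sC (repC i) (mulC sC (repC i)) (prW gens t.1)) t.2) &&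
    (first.all fun e => inH e.2 && commC e.2 (repC i) &&
      (lv.getD 0 ([], [])).1.any fun r => Nat.beq r (cjC e.2 e.1)) &&
    (leaf.all fun e => inH e.2 && commC e.2 (repC i) && (e.1 == imgs.map (cjC e.2)) &&
      Nat.beq imgs.length gens.length) &&
    search m (repC i) (mulC sC (repC i)) leaf lv []

namespace Loc

variable {G : Type*} [Group G] {z : G} {I : ℕ → G} (L : Loc z I)
include L

/-- The swapping automorphism is conjugate to the given one. -/
theorem psi_conj {m i : ℕ} (hm : ∀ k < 8, inMask m k = true ↔ IsConj (I (repC k)) z) {gens imgs : List ℕ}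
    {lv : List (List ℕ × List (List ℕ × ℕ))} {leaf : List (List ℕ × ℕ)} {first : List (ℕ × ℕ)}
    (hok : psiOk m i gens imgs lv leaf first = true) {σ : G} (hz : σ * z * σ⁻¹ = I (repC i))
    (hu : σ * I (repC i) * σ⁻¹ = z) :
    ∃ k, Mem k ∧ mulC k (repC i) = mulC (repC i) k ∧
      ∀ j < gens.length, σ * I (gens.getD j oneC) * σ⁻¹ = I (cjC k (imgs.getD j oneC)) := by
  classical
  simp only [psiOk, Bool.and_eq_true, List.all_eq_true, List.mem_range, beq_iff_eq, Nat.beq_eq,
    Bool.not_eq_true', commC] at hok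
  obtain ⟨⟨⟨⟨⟨⟨himg, hg⟩, hlen⟩, hlv⟩, hfirst⟩, hleaf⟩, hsearch⟩ := hok
  have himgs : ∀ j, Mem (imgs.getD j oneC) := fun j => by
    by_cases hj : j < imgs.length
    · rw [List.getD_eq_getElem _ _ hj]; exact himg _ (List.getElem_mem hj)
    · rw [List.getD_eq_default _ _ (by omega)]; exact mem_one
  set u := repC i with hu'
  have hum : Mem u := Mem.rep i
  revert σ hz hu
  suffices main : ∀ σ : G, σ * z * σ⁻¹ = I u → σ * I u * σ⁻¹ = z →
      (∀ hj : 0 < gens.length, ∃ y, Mem y ∧ I y = σ * I (gens.getD 0 oneC) * σ⁻¹ ∧ y ∈ first.map Prod.fst) ∧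
      ((∀ y, Mem y → I y = σ * I (gens.getD 0 oneC) * σ⁻¹ → 0 < gens.length → y ∈ (lv.getD 0 ([], [])).1) →
        ∃ k, Mem k ∧ mulC k u = mulC u k ∧
          ∀ j < gens.length, σ * I (gens.getD j oneC) * σ⁻¹ = I (cjC k (imgs.getD j oneC))) by
    intro σ hz hu
    rcases Nat.eq_zero_or_pos gens.length with h0 | h0
    · exact (main σ hz hu).2 fun _ _ _ h => absurd h (by omega)
    obtain ⟨y, hy, hye, hyf⟩ := (main σ hz hu).1 h0
    obtain ⟨e, he, rfl⟩ := List.mem_map.1 hyf
    obtain ⟨⟨hk, hku⟩, hr⟩ := hfirst e he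
    replace hk : Mem e.2 := hk
    simp only [List.any_eq_true, Nat.beq_eq] at hr
    obtain ⟨r, hr, hre⟩ := hr
    have hum : Mem u := Mem.rep i
    have hkI := (L.comm_iff hk hum).2 hku
    have hkz := L.comm_z hk
    obtain ⟨k₂, hk₂, hk₂u, hall⟩ := (main (I e.2 * σ)
      (by calc I e.2 * σ * z * (I e.2 * σ)⁻¹ = I e.2 * (σ * z * σ⁻¹) * (I e.2)⁻¹ := by group
            _ = I u := by rw [hz, hkI, mul_inv_cancel_right])
      (by calc I e.2 * σ * I u * (I e.2 * σ)⁻¹ = I e.2 * (σ * I u * σ⁻¹) * (I e.2)⁻¹ := by group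
            _ = z := by rw [hu, hkz, mul_inv_cancel_right])).2 (fun y hym hyI _ => by
        have : y = r := by
          refine L.inj _ _ hym (hre ▸ Mem.cj hk hy) ?_
          rw [hre, L.map_cj hk hy, hye, hyI]; group
        exact this ▸ hr)
    refine ⟨mulC (invC e.2) k₂, hk.inv.mul hk₂, ?_, fun j hj => ?_⟩
    · refine (L.comm_iff (hk.inv.mul hk₂) hum).1 ?_
      rw [L.hom _ _ hk.inv hk₂, L.map_inv hk]
      exact (Commute.inv_left (show Commute (I e.2) (I u) from hkI)).mul_left
        (show Commute (I k₂) (I u) from (L.comm_iff hk₂ hum).2 hk₂u)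
    · have him : Mem (imgs.getD j oneC) := himgs j
      rw [L.map_cj (hk.inv.mul hk₂) him, L.hom _ _ hk.inv hk₂, L.map_inv hk]
      have h := hall j hj
      rw [L.map_cj hk₂ him] at h
      calc σ * I (gens.getD j oneC) * σ⁻¹
          = (I e.2)⁻¹ * (I e.2 * σ * I (gens.getD j oneC) * (I e.2 * σ)⁻¹) * I e.2 := by group
        _ = _ := by rw [h]; group
  intro σ hz hu
  let R : ℕ → ℕ → Prop := fun x y => Mem y ∧ I y = σ * I x * σ⁻¹
  have hR : ∀ x, Mem x → mulC x u = mulC u x → ∃ y, R x y ∧ mulC y u = mulC u y := by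
    intro x hx hxu
    have e1 : (σ * I x * σ⁻¹) * z = z * (σ * I x * σ⁻¹) := by
      rw [← hu]
      calc σ * I x * σ⁻¹ * (σ * I u * σ⁻¹) = σ * (I x * I u) * σ⁻¹ := by group
        _ = σ * (I u * I x) * σ⁻¹ := by rw [(L.comm_iff hx hum).2 hxu]
        _ = σ * I u * σ⁻¹ * (σ * I x * σ⁻¹) := by group
    obtain ⟨y, hy, e⟩ := (L.range _).1 e1
    refine ⟨y, ⟨hy, e⟩, (L.comm_iff hy hum).1 ?_⟩
    rw [e, ← hz]
    calc σ * I x * σ⁻¹ * (σ * z * σ⁻¹) = σ * (I x * z) * σ⁻¹ := by group
      _ = σ * (z * I x) * σ⁻¹ := by rw [L.comm_z hx]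
      _ = σ * z * σ⁻¹ * (σ * I x * σ⁻¹) := by group
  have hconj : ∀ x y, Mem x → R x y → (IsConj (I x) z ↔ IsConj (I y) z) := fun x y _ h =>
    have hc : IsConj (I x) (I y) := isConj_iff.2 ⟨σ, h.2.symm⟩
    ⟨fun e => hc.symm.trans e, fun e => hc.trans e⟩
  have hmulR : ∀ x y x' y', Mem x → Mem x' → R x y → R x' y' → R (mulC x x') (mulC y y') :=
    fun x y x' y' hx hx' h h' => ⟨h.1.mul h'.1, by rw [L.hom _ _ h.1 h'.1, L.hom _ _ hx hx', h.2, h'.2]; group⟩
  have hRs : R sC u := ⟨hum, by rw [L.map_s, hz]⟩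
  have hRu : R u sC := ⟨mem_sC, by rw [L.map_s, hu]⟩
  have hRzu : R (mulC sC u) (mulC sC u) := by
    have h := hmulR _ _ _ _ hum mem_sC hRu hRs
    rwa [← hum.comm] at h ⊢
  have hmask := fun {x : ℕ} (hx : Mem x) => L.fused_mask hm hx
  have htag : ∀ x y, Mem x → R x y → tag m sC u (mulC sC u) x = tag m u sC (mulC sC u) y := by
    intro x y hx h
    have hb : ∀ a b : ℕ, Mem a → R a b → inMask m (clsF a) = inMask m (clsF b) := fun a b ha hab => by
      rw [Bool.eq_iff_iff, hmask ha, hmask hab.1]; exact hconj a b ha hab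
    have h1 : Nat.beq x oneC = Nat.beq y oneC := by
      rw [Bool.eq_iff_iff, Nat.beq_eq, Nat.beq_eq, ← L.eq_one_iff hx, ← L.eq_one_iff h.1, h.2]
      simp
    simp only [tag, Cfsg.Agent.Spor.Cos.force_eq, h1, hb x y hx h,
      hb _ _ (hx.mul mem_sC) (hmulR _ _ _ _ hx mem_sC h hRs), hb _ _ (hx.mul hum) (hmulR _ _ _ _ hx hum h hRu),
      hb _ _ (hx.mul (mem_sC.mul hum)) (hmulR _ _ _ _ hx (mem_sC.mul hum) h hRzu)]
  have hgm : ∀ j, Mem (gens.getD j oneC) := fun j => by
    by_cases hj : j < gens.length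
    · rw [List.getD_eq_getElem _ _ hj]; exact (hg _ (List.getElem_mem hj)).1.1.1.1
    · rw [List.getD_eq_default _ _ (by omega)]; exact mem_one
  have hex0 : ∀ j : Fin gens.length, ∃ y, R (gens.getD j oneC) y ∧
      y ∈ (bif Nat.beq (j : ℕ) 0 then first.map Prod.fst else (lv.getD j ([], [])).1) := by
    intro j
    have hj := List.getD_eq_getElem gens oneC j.2
    obtain ⟨⟨⟨⟨h1, h2⟩, h3⟩, h4⟩, h5⟩ := hg _ (List.getElem_mem j.2)
    rw [← hj] at h2 h3 h4 h5
    simp only [isInv, Bool.and_eq_true, Nat.beq_eq, Bool.not_eq_true'] at h3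
    obtain ⟨y, hy, hyu⟩ := hR _ (hgm j) h2
    refine ⟨y, hy, ?_⟩
    rw [← (hlv j j.2).1, List.mem_filter, List.mem_map]
    have hyy : mulC y y = oneC := by
      refine L.inj _ _ (hy.1.mul hy.1) mem_one ?_
      rw [(hmulR _ _ _ _ (hgm j) (hgm j) hy hy).2, h3.1, L.map_one]; group
    have hne : y ≠ oneC := fun e => by
      have := hy.2
      rw [e, L.map_one, eq_comm, mul_inv_eq_one, mul_eq_left, L.eq_one_iff (hgm j)] at this
      rw [this] at h3; simp at h3
    refine ⟨(mem_invTab hy.1 hyy hne).imp fun e h => ⟨h.1, h.2⟩, ?_⟩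
    simp only [Bool.and_eq_true, commC, Nat.beq_eq, Bool.not_eq_true']
    refine ⟨⟨⟨hyu, ?_⟩, ?_⟩, (htag _ _ (hgm j) hy).symm⟩
    · refine Bool.eq_false_iff.2 fun e => ?_
      have := hy.2
      rw [Nat.eq_of_beq_eq_true e, L.map_s, ← hu, mul_left_inj, mul_right_inj] at this
      exact absurd (L.inj _ _ hum (hgm j) this) fun e' => by rw [← e'] at h5; simp at h5
    · refine Bool.eq_false_iff.2 fun e => ?_
      have := hy.2
      rw [Nat.eq_of_beq_eq_true e, ← hz, ← L.map_s, mul_left_inj, mul_right_inj] at this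
      exact absurd (L.inj _ _ mem_sC (hgm j) this) fun e' => by rw [← e'] at h4; simp at h4
  refine ⟨fun hj => ?_, fun h0 => ?_⟩
  · obtain ⟨y, hy, hyc⟩ := hex0 ⟨0, hj⟩
    exact ⟨y, hy.1, hy.2, hyc⟩
  have hex : ∀ j : Fin gens.length, ∃ y, R (gens.getD j oneC) y ∧ y ∈ (lv.getD j ([], [])).1 := by
    intro j
    obtain ⟨y, hy, hyc⟩ := hex0 j
    rcases Nat.eq_zero_or_pos (j : ℕ) with hj0 | hj0
    · refine ⟨y, hy, ?_⟩
      rw [hj0] at hy ⊢
      exact h0 y hy.1 hy.2 (by omega)
    · rw [show Nat.beq (j : ℕ) 0 = false from Bool.eq_false_iff.2 fun e => by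
        have := Nat.eq_of_beq_eq_true e; omega, cond_false] at hyc
      exact ⟨y, hy, hyc⟩
  choose f hf hfc using hex
  let ys := List.ofFn f
  have hys : ys.length = gens.length := List.length_ofFn
  have hget : ∀ j, R (gens.getD j oneC) (ys.getD j oneC) := by
    intro j
    by_cases hj : j < gens.length
    · rw [List.getD_eq_getElem ys _ (hys.symm ▸ hj), List.getElem_ofFn]
      exact hf ⟨j, hj⟩
    · rw [List.getD_eq_default ys _ (by omega), List.getD_eq_default gens _ (by omega)]
      exact ⟨mem_one, by rw [L.map_one]; group⟩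
  have hword : ∀ w, Mem (prW gens w) ∧ R (prW gens w) (prW ys w) := by
    intro w
    induction w with
    | nil => exact ⟨mem_one, mem_one, by show I oneC = σ * I oneC * σ⁻¹; rw [L.map_one]; group⟩
    | cons j w ih => exact ⟨(hgm j).mul ih.1, hmulR _ _ _ _ (hgm j) ih.1 (hget j) ih.2⟩
  have hdown : ∀ (rest : List (List ℕ × List (List ℕ × ℕ))) (acc : List ℕ) (k : ℕ), k + rest.length = lv.length →
      rest = lv.drop k → acc = ys.take k → search m u (mulC sC u) leaf rest acc = true →
      (∀ (k' : ℕ), k' < lv.length → ∀ t ∈ (lv.getD k' ([], [])).2,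
        tag m u sC (mulC sC u) (prW (ys.take (k' + 1)) t.1) = t.2) →
      ∃ e ∈ leaf, e.1 = ys := by
    intro rest
    induction rest with
    | nil =>
      intro acc k hk _ hacc hs _
      obtain ⟨e, he, hee⟩ := List.any_eq_true.1 hs
      refine ⟨e, he, ?_⟩
      rw [beq_iff_eq.1 hee, hacc, List.take_of_length_le]
      simp at hk; omega
    | cons hd rest ih =>
      intro acc k hk hdrop hacc hs htst
      simp only [List.length_cons] at hk
      have hk' : k < lv.length := by omega
      have hhd : lv.getD k ([], []) = hd := by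
        rw [List.getD_eq_getElem _ _ hk']
        have := List.drop_eq_getElem_cons hk'
        rw [← hdrop] at this
        exact (List.cons.inj this).1.symm
      have hky : k < ys.length := by omega
      have hy : ys[k] ∈ hd.1 := by
        rw [← hhd, List.getElem_ofFn]
        exact hfc ⟨k, by omega⟩
      have hs' := List.all_eq_true.1 hs _ hy
      have hacc' : acc ++ [ys[k]] = ys.take (k + 1) := by rw [hacc, List.take_concat_get' ys k hky]
      rw [Bool.or_eq_true, Bool.not_eq_true'] at hs'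
      rcases hs' with h | h
      · exfalso
        rw [List.all_eq_false] at h
        obtain ⟨t, ht, hne⟩ := h
        rw [Nat.beq_eq, hacc'] at hne
        exact hne (htst k hk' t (hhd ▸ ht))
      · refine ih _ (k + 1) (by omega) ?_ hacc' h htst
        have := List.drop_eq_getElem_cons hk'
        rw [← hdrop] at this
        exact (List.cons.inj this).2
  have htake : ∀ k' < lv.length, ∀ t ∈ (lv.getD k' ([], [])).2,
      tag m u sC (mulC sC u) (prW (ys.take (k' + 1)) t.1) = t.2 := by
    intro k' hk' t ht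
    obtain ⟨hb, he⟩ := (hlv k' (hlen ▸ hk')).2 t ht
    rw [← he]
    have hw : ∀ w : List ℕ, (∀ j ∈ w, j ≤ k') → prW (ys.take (k' + 1)) w = prW ys w := by
      intro w
      induction w with
      | nil => exact fun _ => rfl
      | cons j w ih =>
        intro h
        show mulC _ _ = mulC _ _
        rw [ih fun x hx => h x (List.mem_cons_of_mem _ hx)]
        congr 1
        have hj := h j (List.mem_cons_self ..)
        rw [List.getD_eq_getElem?_getD, List.getD_eq_getElem?_getD, List.getElem?_take_of_lt (by omega)]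
    rw [hw t.1 ?_]
    · exact (htag _ _ (hword t.1).1 (hword t.1).2).symm
    · exact fun j hj => Nat.le_of_ble_eq_true (hb j hj)
  obtain ⟨e, he, hee⟩ := hdown lv [] 0 (by simp) rfl rfl hsearch htake
  obtain ⟨⟨⟨hk, hku⟩, hmap⟩, hilen⟩ := hleaf e he
  refine ⟨e.2, hk, hku, fun j hj => ?_⟩
  rw [← (hget j).2, ← hee, hmap, List.getD_eq_getElem _ _ (by rw [List.length_map]; omega), List.getElem_map,
    List.getD_eq_getElem _ _ (by omega)]

end Loc

end Cfsg.Agent.Fus.Transv
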