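import Cfsg.Agent.Lib.Fus.Transv.Embed
import Cfsg.Agent.Lib.Fus.Transv.Psi

/-!
# Subgroups without fused elements
-/

set_option autoImplicit false
set_option maxRecDepth 100000

namespace Cfsg.Agent.Fus.Transv

open Cfsg.Agent.Spor.Cos (force force_eq)

/-- An abelian subgroup without fused elements, with the ways to enlarge it. -/
structure CNode where
  /-- all elements -/
  V : List ℕ
  /-- the enlargements: an element, the index of the result, and the conjugating element -/
  exts : List (ℕ × ℕ × ℕ)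

namespace CNode

/-- Being an element. -/
def inV (n : CNode) (c : ℕ) : Bool := n.V.any fun v => Nat.beq v c

/-- Not fused. -/
noncomputable def unf (m c : ℕ) : Bool := Nat.beq c oneC || !inMask m (clsF c)

/-- The checks of the elements. -/
noncomputable def baseOk (m : ℕ) (n : CNode) : Bool :=
  n.inV oneC && n.V.all fun v => inH v && Nat.beq (mulC v v) oneC && unf m v &&
    n.V.all fun w => n.inV (mulC v w) && commC v w

/-- Enlarging by an element. -/
noncomputable def canExt (m : ℕ) (n : CNode) (c : ℕ) : Bool :=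
  !n.inV c && n.V.all fun v => commC c v && unf m (mulC c v)

/-- The check of one enlargement. -/
def extOk (Ns : List CNode) (n : CNode) (e : ℕ × ℕ × ℕ) : Bool :=
  inH e.2.2 && Nat.blt e.2.1 Ns.length && force e.2.1 fun k =>
    Nat.beq (Ns.getD k ⟨[], []⟩).V.length (2 * n.V.length) &&
      (n.V.all fun v => (Ns.getD k ⟨[], []⟩).inV (cjC e.2.2 v) &&
        (Ns.getD k ⟨[], []⟩).inV (cjC e.2.2 (mulC e.1 v))) &&
      (Ns.getD k ⟨[], []⟩).V.all fun w => n.V.any fun v =>
        Nat.beq (cjC e.2.2 v) w || Nat.beq (cjC e.2.2 (mulC e.1 v)) w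

/-- The checks of all enlargements. -/
noncomputable def extsOk (m : ℕ) (Ns : List CNode) (n : CNode) : Bool :=
  (n.exts.all fun e => extOk Ns n e) &&
    (invTab.map Prod.fst).all fun c => !canExt m n c || n.exts.any fun e => n.V.any fun v => Nat.beq (mulC e.1 v) c

/-- All checks of the list. -/
noncomputable def listOk (m : ℕ) (Ns : List CNode) : Bool :=
  (Ns.all fun n => baseOk m n && extsOk m Ns n && Nat.ble n.V.length 8) &&
    (List.range 8).all fun i => inMask m i || Ns.any fun n => eqW' n.V [oneC, repC i]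
where
  /-- Equality of lists. -/
  eqW' : List ℕ → List ℕ → Bool
    | [], [] => true
    | a :: v, b :: w => Nat.beq a b && eqW' v w
    | _, _ => false

theorem eqW'_eq : ∀ {v w : List ℕ}, listOk.eqW' v w = true → v = w
  | [], [], _ => rfl
  | [], _ :: _, h => by simp [listOk.eqW'] at h
  | _ :: _, [], h => by simp [listOk.eqW'] at h
  | a :: v, b :: w, h => by
    simp only [listOk.eqW', Bool.and_eq_true, Nat.beq_eq] at h
    rw [h.1, eqW'_eq h.2]

theorem inV_iff {n : CNode} {c : ℕ} : n.inV c = true ↔ c ∈ n.V := by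
  simp [inV, List.any_eq_true]

end CNode

/-- The group elements of a subgroup in the list. -/
def nodeSet {G : Type*} (I : ℕ → G) (n : CNode) : Set G := {x | ∃ v ∈ n.V, I v = x}

/-- An elementary abelian group without fused elements. -/
def PureSub {G : Type*} [Group G] (z : G) (U : Subgroup G) : Prop :=
  ∀ x ∈ U, x * x = 1 ∧ (∀ y ∈ U, x * y = y * x) ∧ (x ≠ 1 → ¬ IsConj x z)

/-- Moved exactly onto a subgroup of the list. -/
def Covered {G : Type*} [Group G] (I : ℕ → G) (Ns : List CNode) (U : Subgroup G) : Prop :=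
  ∃ n ∈ Ns, ∃ h, Mem h ∧ ∀ x : G, x ∈ U ↔ I h * x * (I h)⁻¹ ∈ nodeSet I n

/-- The centralizer of the subgroup lies in `M`. -/
def GoodNode {G : Type*} [Group G] (I : ℕ → G) (M : Subgroup G) (n : CNode) : Prop :=
  ∀ g : G, (∀ v ∈ n.V, g * I v = I v * g) → g ∈ M

variable {G : Type*} [Group G] {z : G} {I : ℕ → G} (L : Loc z I) {m : ℕ}
  (hm : ∀ i < 8, inMask m i = true ↔ IsConj (I (repC i)) z) {Ns : List CNode}

include L hm in
theorem unf_iff {c : ℕ} (hc : Mem c) : CNode.unf m c = true ↔ (I c ≠ 1 → ¬ IsConj (I c) z) := by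
  simp only [CNode.unf, Bool.or_eq_true, Nat.beq_eq, Bool.not_eq_true']
  rw [← L.eq_one_iff hc]
  constructor
  · rintro (h | h) h1
    · exact absurd h h1
    · intro hz
      rw [(L.fused_mask hm hc).2 hz] at h
      exact absurd h (by simp)
  · intro h
    by_cases h1 : I c = 1
    · exact Or.inl h1
    · exact Or.inr (Bool.eq_false_iff.2 fun e => h h1 ((L.fused_mask hm hc).1 e))

/-- The meaning of the checks of the list. -/
structure NodesGood (m : ℕ) (Ns : List CNode) : Prop where
  /-- the elements -/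
  base : ∀ n ∈ Ns, oneC ∈ n.V ∧ n.V.length ≤ 8 ∧ ∀ v ∈ n.V, Mem v ∧ mulC v v = oneC ∧
    CNode.unf m v = true ∧ ∀ w ∈ n.V, mulC v w ∈ n.V ∧ mulC v w = mulC w v
  /-- the enlargements -/
  ext : ∀ n ∈ Ns, ∀ c, Mem c → mulC c c = oneC → c ∉ n.V → (∀ v ∈ n.V, mulC c v = mulC v c ∧
    CNode.unf m (mulC c v) = true) → ∃ k ∈ Ns, k.V.length = 2 * n.V.length ∧ ∃ h, Mem h ∧
      (∀ v ∈ n.V, cjC h v ∈ k.V ∧ cjC h (mulC c v) ∈ k.V) ∧
      ∀ w ∈ k.V, ∃ v ∈ n.V, cjC h v = w ∨ cjC h (mulC c v) = w
  /-- the single involutions -/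
  single : ∀ i < 8, inMask m i = false → ∃ n ∈ Ns, n.V = [oneC, repC i]

theorem nodesGood_of_ok (h : CNode.listOk m Ns = true) : NodesGood m Ns := by
  simp only [CNode.listOk, Bool.and_eq_true, List.all_eq_true, List.mem_range, Bool.or_eq_true, List.any_eq_true,
    Nat.ble_eq] at h
  obtain ⟨hall, htop⟩ := h
  refine ⟨fun n hn => ?_, fun n hn c hc hsq hnot hcomm => ?_, fun i hi hmask => ?_⟩
  · obtain ⟨⟨hb, -⟩, h8⟩ := hall n hn
    simp only [CNode.baseOk, Bool.and_eq_true, List.all_eq_true, CNode.inV_iff, Nat.beq_eq, commC] at hb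
    exact ⟨hb.1, h8, fun v hv => ⟨(hb.2 v hv).1.1.1, (hb.2 v hv).1.1.2, (hb.2 v hv).1.2, (hb.2 v hv).2⟩⟩
  · obtain ⟨⟨hb, he⟩, -⟩ := hall n hn
    simp only [CNode.baseOk, Bool.and_eq_true, List.all_eq_true, CNode.inV_iff, Nat.beq_eq, commC] at hb
    simp only [CNode.extsOk, Bool.and_eq_true, List.all_eq_true, Bool.or_eq_true, Bool.not_eq_true',
      List.any_eq_true, List.mem_map, forall_exists_index, and_imp, forall_apply_eq_imp_iff₂, Nat.beq_eq] at he
    have hne : c ≠ oneC := fun e => hnot (e ▸ hb.1)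
    obtain ⟨p, hp, rfl⟩ := mem_invTab hc hsq hne
    rcases he.2 p hp with hf | ⟨e, hee, u, hu, huc⟩
    · exfalso
      have hcan : CNode.canExt m n p.1 = true := by
        simp only [CNode.canExt, Bool.and_eq_true, List.all_eq_true, Bool.not_eq_true', commC, Nat.beq_eq]
        exact ⟨Bool.eq_false_iff.2 fun e => hnot (CNode.inV_iff.1 e), hcomm⟩
      rw [hcan] at hf; exact absurd hf (by simp)
    · have hok := he.1 e hee
      simp only [CNode.extOk, force_eq, Bool.and_eq_true, Nat.blt_eq, List.all_eq_true, List.any_eq_true,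
        Bool.or_eq_true, Nat.beq_eq, CNode.inV_iff] at hok
      obtain ⟨⟨hh, hk⟩, ⟨hlen, himg⟩, hrev⟩ := hok
      rw [List.getD_eq_getElem _ _ hk] at hlen himg hrev
      have key : ∀ v ∈ n.V, mulC p.1 v = mulC e.1 (mulC u v) := fun v hv => by rw [← huc, mulC_assoc]
      refine ⟨_, List.getElem_mem hk, hlen, e.2.2, hh, fun v hv => ⟨(himg v hv).1, ?_⟩, fun w hw => ?_⟩
      · rw [key v hv]; exact (himg _ ((hb.2 u hu).2 v hv).1).2
      · obtain ⟨v, hv, h' | h'⟩ := hrev w hw
        · exact ⟨v, hv, Or.inl h'⟩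
        · refine ⟨mulC u v, ((hb.2 u hu).2 v hv).1, Or.inr ?_⟩
          rw [key _ ((hb.2 u hu).2 v hv).1, ← mulC_assoc u u v, (hb.2 u hu).1.1.2,
            (Mem.one_mul (hb.2 v hv).1.1.1)]
          exact h'
  · obtain ⟨n, hn, he⟩ := (htop i hi).resolve_left (by simp [hmask])
    exact ⟨n, hn, CNode.eqW'_eq he⟩

variable (hN : NodesGood m Ns)
include L hm hN

/-- Every subgroup without fused elements of the centralizer occurs in the list. -/
theorem covered (gs : List G) :
    ∀ {U : Subgroup G}, U = Subgroup.closure {x | x ∈ gs} → (∀ x ∈ U, x * z = z * x) → PureSub z U → U ≠ ⊥ →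
      Covered I Ns U := by
  induction gs with
  | nil =>
    intro U hU _ _ hne
    exact absurd (hU.trans (by simp)) hne
  | cons x gs ih =>
    intro U hU hz hp hne
    set U' := Subgroup.closure {y | y ∈ gs}
    have hle : U' ≤ U := by rw [hU]; exact Subgroup.closure_mono fun y hy => List.mem_cons_of_mem _ hy
    have hxU : x ∈ U := by rw [hU]; exact Subgroup.subset_closure (List.mem_cons_self ..)
    have hp' : PureSub z U' := fun y hy =>
      ⟨(hp y (hle hy)).1, fun w hw => (hp y (hle hy)).2.1 w (hle hw), (hp y (hle hy)).2.2⟩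
    have hz' : ∀ y ∈ U', y * z = z * y := fun y hy => hz y (hle hy)
    have hmem : ∀ y ∈ U, y ∈ U' ∨ x⁻¹ * y ∈ U' := by
      intro y hy
      rw [hU] at hy
      induction hy using Subgroup.closure_induction with
      | mem w hw =>
        rcases List.mem_cons.1 hw with rfl | hw
        · exact Or.inr (by rw [inv_mul_cancel]; exact one_mem _)
        · exact Or.inl (Subgroup.subset_closure hw)
      | one => exact Or.inl (one_mem _)
      | mul u v hu hv iu iv =>
        have huU : u ∈ U := hU ▸ hu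
        have hvU : v ∈ U := hU ▸ hv
        have hc := (hp x hxU).2.1 u huU
        rcases iu with iu | iu <;> rcases iv with iv | iv
        · exact Or.inl (mul_mem iu iv)
        · refine Or.inr ?_
          have e : x⁻¹ * (u * v) = u * (x⁻¹ * v) := by
            rw [← mul_assoc, ← mul_assoc, ((show Commute x u from hc).inv_left).eq]
          rw [e]; exact mul_mem iu iv
        · refine Or.inr ?_
          rw [← mul_assoc]; exact mul_mem iu iv
        · refine Or.inl ?_
          have e : u * v = (x⁻¹ * u) * (x⁻¹ * v) := by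
            have hx1 : x⁻¹ * x⁻¹ = 1 := by rw [← mul_inv_rev, (hp x hxU).1, inv_one]
            rw [((show Commute x u from hc).inv_left).eq]
            calc u * v = u * (x⁻¹ * x⁻¹) * v := by rw [hx1, mul_one]
              _ = _ := by group
          rw [e]; exact mul_mem iu iv
      | inv u hu iu =>
        have huU : u ∈ U := hU ▸ hu
        have hi : u⁻¹ = u := inv_eq_of_mul_eq_one_left (hp u huU).1
        rw [hi]; exact iu
    by_cases hxU' : x ∈ U'
    · have e : U = U' := le_antisymm (fun y hy => (hmem y hy).elim id fun h => by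
        simpa using mul_mem hxU' h) hle
      exact e ▸ ih rfl hz' hp' (e ▸ hne)
    have hx1 : x ≠ 1 := fun h => hxU' (h ▸ one_mem _)
    obtain ⟨c, hc, hcx⟩ := (L.range _).1 (hz x hxU)
    by_cases hbot : U' = ⊥
    · -- one involution
      have hc2 : mulC c c = oneC := by
        refine L.inj _ _ (hc.mul hc) mem_one ?_
        rw [L.hom _ _ hc hc, hcx, (hp x hxU).1, L.map_one]
      have hc1 : c ≠ oneC := fun e => hx1 (by rw [← hcx, e, L.map_one])
      obtain ⟨hlt, k, hk, hkc⟩ := cls_spec hc hc2 hc1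
      have hnf : inMask m (clsOf c) = false := Bool.eq_false_iff.2 fun hb =>
        (hp x hxU).2.2 hx1 (hcx ▸ (L.fused_cls hc).2 ⟨hlt, (hm _ hlt).1 hb⟩)
      obtain ⟨n, hn, hV⟩ := hN.single _ hlt hnf
      refine ⟨n, hn, invC k, hk.inv, fun y => ?_⟩
      have hconj : I (invC k) * x * (I (invC k))⁻¹ = I (repC (clsOf c)) := by
        rw [L.map_inv hk, inv_inv, ← hcx]
        conv_lhs => rw [← hkc, L.map_cj hk (Mem.rep _)]
        group
      constructor
      · intro hy
        rcases hmem y hy with h | h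
        · rw [hbot, Subgroup.mem_bot] at h
          exact ⟨oneC, by rw [hV]; simp, by rw [h, L.map_one]; group⟩
        · rw [hbot, Subgroup.mem_bot, inv_mul_eq_one] at h
          exact ⟨repC (clsOf c), by rw [hV]; simp, by rw [← h, hconj]⟩
      · rintro ⟨v, hv, e⟩
        rw [hV] at hv
        simp only [List.mem_cons, List.not_mem_nil, or_false] at hv
        rcases hv with rfl | rfl
        · rw [L.map_one, eq_comm, conj_eq_one_iff] at e
          rw [e]; exact one_mem _
        · rw [← hconj, mul_left_inj, mul_right_inj] at e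
          rwa [← e]
    obtain ⟨n, hn, h, hh, hiff⟩ := ih rfl hz' hp' hbot
    obtain ⟨-, -, hb⟩ := hN.base n hn
    set c' := cjC h c
    have hc' : Mem c' := Mem.cj hh hc
    have hI : I c' = I h * x * (I h)⁻¹ := by rw [L.map_cj hh hc, hcx]
    have hsq : mulC c' c' = oneC := by
      refine L.inj _ _ (hc'.mul hc') mem_one ?_
      rw [L.hom _ _ hc' hc', hI, L.map_one]
      calc _ = I h * (x * x) * (I h)⁻¹ := by group
        _ = 1 := by rw [(hp x hxU).1, mul_one, mul_inv_cancel]
    have hout : c' ∉ n.V := fun hin => hxU' ((hiff x).2 ⟨c', hin, hI⟩)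
    have hcomm : ∀ v ∈ n.V, mulC c' v = mulC v c' ∧ CNode.unf m (mulC c' v) = true := by
      intro v hv
      obtain ⟨hvm, -, -, -⟩ := hb v hv
      set y := (I h)⁻¹ * I v * I h
      have hyU : y ∈ U' := (hiff y).2 ⟨v, hv, by simp only [y]; group⟩
      have hvy : I v = I h * y * (I h)⁻¹ := by simp only [y]; group
      refine ⟨(L.comm_iff hc' hvm).1 ?_, (unf_iff L hm (hc'.mul hvm)).2 ?_⟩
      · rw [hI, hvy]
        calc _ = I h * (x * y) * (I h)⁻¹ := by group
          _ = _ := by rw [(hp x hxU).2.1 y (hle hyU)]; group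
      · intro h1 hzc
        have e : I (mulC c' v) = I h * (x * y) * (I h)⁻¹ := by rw [L.hom _ _ hc' hvm, hI, hvy]; group
        rw [e] at h1 hzc
        exact (hp (x * y) (mul_mem hxU (hle hyU))).2.2 (fun q => h1 (by rw [q]; group))
          ((isConj_iff.2 ⟨I h, rfl⟩ : IsConj (x * y) _).trans hzc)
    obtain ⟨k, hk, -, h', hh', hfw, hrev⟩ := hN.ext n hn c' hc' hsq hout hcomm
    refine ⟨k, hk, mulC h' h, hh'.mul hh, fun y => ?_⟩
    have hmove : ∀ w, I (mulC h' h) * w * (I (mulC h' h))⁻¹ = I h' * (I h * w * (I h)⁻¹) * (I h')⁻¹ := fun w => by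
      rw [L.hom _ _ hh' hh]; group
    constructor
    · intro hy
      rw [hmove]
      rcases hmem y hy with hy' | hy'
      · obtain ⟨v, hv, e⟩ := (hiff y).1 hy'
        exact ⟨_, (hfw v hv).1, by rw [L.map_cj hh' (hb v hv).1, e]⟩
      · obtain ⟨v, hv, e⟩ := (hiff _).1 hy'
        refine ⟨_, (hfw v hv).2, ?_⟩
        rw [L.map_cj hh' (hc'.mul (hb v hv).1), L.hom _ _ hc' (hb v hv).1, hI, e]
        group
    · rintro ⟨w, hw, e⟩
      obtain ⟨v, hv, hv' | hv'⟩ := hrev w hw
      · rw [hmove, ← hv', L.map_cj hh' (hb v hv).1, mul_left_inj, mul_right_inj] at e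
        exact hle ((hiff y).2 ⟨v, hv, e⟩)
      · rw [hmove, ← hv', L.map_cj hh' (hc'.mul (hb v hv).1), L.hom _ _ hc' (hb v hv).1, hI, mul_left_inj,
          mul_right_inj] at e
        have hxy : x⁻¹ * y ∈ U' := (hiff _).2 ⟨v, hv, by
          calc I v = (I h * x * (I h)⁻¹)⁻¹ * (I h * y * (I h)⁻¹) := by rw [← e]; group
            _ = _ := by group⟩
        simpa using mul_mem hxU (hle hxy)

end Cfsg.Agent.Fus.Transv
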