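import Cfsg.Agent.Lib.Fus.Transv.Step

/-! Generated data for the centralizer of a transvection. -/

set_option autoImplicit false
set_option maxRecDepth 100000

namespace Cfsg.Agent.Fus.Transv

/-- Words moving the fused classes to the central involution, in the pattern `14`. -/
def witListL : List (List ℕ) := [[], [4], [5], [4, 2, 3, 2, 0, 3, 0, 5], [], [], [], []]

/-- A subgroup without fused elements. -/
def nodeL0 : CNode :=
  ⟨[17043521, 17051715],
   [(25434177, 4, 17043521),
    (27531329, 5, 17043521),
    (27537473, 5, 17059905),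
    (25442369, 4, 17059905),
    (19140681, 6, 17043521),
    (27529289, 5, 17059921),
    (19142729, 6, 17059905),
    (25434185, 4, 17043537),
    (19148873, 6, 17043537),
    (17053769, 7, 17043521),
    (19150921, 6, 17059921),
    (25442377, 4, 17059921),
    (27539529, 5, 17043537),
    (17059913, 8, 17043521),
    (17061961, 8, 19140673),
    (17068105, 8, 25432129),
    (17070153, 8, 27529281),
    (17045585, 9, 17043521),
    (17053777, 9, 19140673),
    (17061969, 10, 17043521),
    (17068113, 10, 19140673),
    (17045593, 9, 25432129),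
    (17053785, 9, 27529281),
    (17059929, 10, 27529281),
    (17070169, 10, 25432129)]⟩

/-- The two separated classes of the subgroup. -/
def pairL0 : PairCert :=
  ⟨[17051715], 17043529, 17043523,
   [(17043521, [4, 0, 1, 0, 3, 0, 2, 0, 2, 1, 2, 0])],
   []⟩

/-- A subgroup without fused elements. -/
def nodeL1 : CNode :=
  ⟨[17043521, 17109061],
   [(23400513, 6, 12800089),
    (19271745, 11, 17043521),
    (23466049, 6, 25382989),
    (19337281, 11, 17567809),
    (21237827, 6, 12734529),
    (23334979, 6, 12800077),
    (21303363, 6, 12734549),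
    (19271747, 11, 17043537),
    (21368899, 6, 25317441),
    (17240131, 7, 16920653),
    (19337283, 11, 17567825),
    (21434435, 6, 25317461),
    (23531587, 6, 25383001),
    (17567811, 9, 4747329),
    (17633347, 9, 4812865),
    (17698883, 9, 4878401),
    (17764419, 9, 4943937),
    (17045577, 12, 17043521),
    (19142729, 12, 21237825),
    (17045579, 12, 17043525),
    (19142731, 12, 21237829),
    (17174609, 13, 17043521),
    (17240145, 13, 21237825),
    (17633361, 9, 6910045),
    (17698897, 9, 7043167),
    (17174611, 13, 19140673),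
    (17240147, 13, 23334977),
    (17567827, 9, 6844509),
    (17764435, 9, 6975581),
    (17045593, 12, 17567809),
    (19208281, 12, 21762113),
    (17045595, 12, 17567813),
    (19208283, 12, 21893185)]⟩

/-- The two separated classes of the subgroup. -/
def pairL1 : PairCert :=
  ⟨[17109061], 17043523, 17043525,
   [(17043521, [])],
   [4]⟩

/-- A subgroup without fused elements. -/
def nodeL2 : CNode :=
  ⟨[17043521, 17567813],
   [(17174595, 8, 16920641),
    (17240131, 8, 23279681),
    (17633347, 9, 6910017),
    (17698883, 10, 23212109),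
    (17059913, 14, 17043521),
    (17059915, 14, 17109057),
    (17584205, 14, 17043525),
    (17584207, 14, 17109061),
    (17109073, 13, 4472897),
    (17240145, 8, 7043167),
    (17633361, 9, 23685211),
    (17698897, 15, 17043521),
    (17764433, 16, 17043521),
    (17109075, 13, 21250121),
    (17174611, 8, 17461341),
    (17698899, 16, 21239881),
    (17764435, 16, 17059913)]⟩

/-- The two separated classes of the subgroup. -/
def pairL2 : PairCert :=
  ⟨[17567813], 17043523, 17043525,
   [(17043521, [])],
   [4]⟩

/-- A subgroup without fused elements. -/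
def nodeL3 : CNode :=
  ⟨[17043521, 17569857],
   [(19271745, 17, 17043521),
    (19337281, 17, 17045569),
    (17649729, 18, 17043521),
    (19271747, 17, 17043537),
    (19337283, 17, 17045585),
    (17059907, 4, 25694273),
    (17125443, 4, 29954113),
    (17584195, 5, 25759809),
    (17649731, 19, 17043521),
    (17109073, 11, 21250113),
    (17633361, 6, 21573705),
    (17125457, 4, 29974597),
    (17649745, 19, 16920645),
    (17109075, 11, 21383233),
    (17567827, 6, 21520461),
    (17059923, 4, 25718853),
    (17649747, 19, 17178693)]⟩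

/-- The two separated classes of the subgroup. -/
def pairL3 : PairCert :=
  ⟨[17569857], 17043523, 17045569,
   [(17043521, [])],
   [5]⟩

/-- A subgroup without fused elements. -/
def nodeL4 : CNode :=
  ⟨[17043521, 17051715, 25434177, 25442371],
   [(27529289, 20, 17043521),
    (19148873, 20, 21315653)]⟩

/-- The two separated classes of the subgroup. -/
def pairL4 : PairCert :=
  ⟨[17051715, 25434177], 17043523, 17043529,
   [(17043521, []),
    (17051715, [4, 2, 3, 2, 0, 3, 0, 5])],
   [4, 0, 1, 0, 3, 0, 2, 0, 2, 1, 2, 0]⟩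

/-- A subgroup without fused elements. -/
def nodeL5 : CNode :=
  ⟨[17043521, 17051715, 27531329, 27539523],
   [(19140681, 20, 21315669),
    (19148873, 20, 17059921)]⟩

/-- The two separated classes of the subgroup. -/
def pairL5 : PairCert :=
  ⟨[17051715, 27531329], 17043523, 17043529,
   [(17043521, []),
    (17051715, [4, 2, 3, 2, 0, 3, 0, 5]),
    (27539523, [4, 2, 3, 2, 0, 3, 0, 5, 0, 2, 3, 2, 3, 2, 3, 2, 0])],
   [4, 0, 1, 0, 3, 0, 2, 0, 2, 1, 2, 0]⟩

/-- A subgroup without fused elements. -/
def nodeL6 : CNode :=
  ⟨[17043521, 17051715, 19140681, 19148875],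
   [(27531329, 20, 21315669),
    (25442369, 20, 17059905)]⟩

/-- The two separated classes of the subgroup. -/
def pairL6 : PairCert :=
  ⟨[17051715, 19140681], 17043523, 17043529,
   [(17043521, []),
    (17051715, [4, 2, 3, 2, 0, 3, 0, 5])],
   [4, 0, 1, 0, 3, 0, 2, 0, 2, 1, 2, 0]⟩

/-- A subgroup without fused elements. -/
def nodeL7 : CNode :=
  ⟨[17043521, 17051715, 17053769, 17045579],
   []⟩

/-- The two separated classes of the subgroup. -/
def pairL7 : PairCert :=
  ⟨[17051715, 17053769], 17043523, 17043537,
   [(17043521, []),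
    (17051715, [4, 2, 3, 2, 0, 3, 0, 5]),
    (17053769, [4, 2, 3, 2, 0, 3, 0, 5, 0, 2, 0, 1, 2, 0, 2, 1, 3])],
   [4, 2, 3, 2, 0, 3, 0]⟩

/-- A subgroup without fused elements. -/
def nodeL8 : CNode :=
  ⟨[17043521, 17051715, 17059913, 17068107],
   [(17053777, 21, 17043521),
    (17061969, 21, 25759813)]⟩

/-- The two separated classes of the subgroup. -/
def pairL8 : PairCert :=
  ⟨[17051715, 17059913], 17043523, 17043529,
   [(17043521, []),
    (17051715, [4, 2, 3, 2, 0, 3, 0, 5])],
   [4, 0, 1, 0, 3, 0, 2, 0, 2, 1, 2, 0]⟩

/-- A subgroup without fused elements. -/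
def nodeL9 : CNode :=
  ⟨[17043521, 17051715, 17045585, 17053779],
   [(17061961, 21, 19140673),
    (17068105, 21, 17633349)]⟩

/-- The two separated classes of the subgroup. -/
def pairL9 : PairCert :=
  ⟨[17051715, 17045585], 17043523, 17043529,
   [(17043521, []),
    (17051715, [4, 2, 3, 2, 0, 3, 0, 5])],
   [4, 0, 1, 0, 3, 0, 2, 0, 2, 1, 2, 0]⟩

/-- A subgroup without fused elements. -/
def nodeL10 : CNode :=
  ⟨[17043521, 17051715, 17061969, 17070163],
   [(17059913, 21, 25759813),
    (17068105, 21, 25432129)]⟩

/-- The two separated classes of the subgroup. -/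
def pairL10 : PairCert :=
  ⟨[17051715, 17061969], 17043523, 17043529,
   [(17043521, []),
    (17051715, [4, 2, 3, 2, 0, 3, 0, 5]),
    (17061969, [4, 2, 3, 2, 0, 3, 0, 5, 2, 1, 2, 1, 0, 2, 3, 2, 1, 3])],
   [4, 0, 1, 0, 3, 0, 2, 0, 2, 1, 2, 0]⟩

/-- A subgroup without fused elements. -/
def nodeL11 : CNode :=
  ⟨[17043521, 17109061, 19271745, 19337285],
   [(23334979, 20, 8613961),
    (21303363, 20, 8548433)]⟩

/-- The two separated classes of the subgroup. -/
def pairL11 : PairCert :=
  ⟨[17109061, 19271745], 17043523, 17043525,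
   [(17043521, [])],
   [4]⟩

/-- A subgroup without fused elements. -/
def nodeL12 : CNode :=
  ⟨[17043521, 17109061, 17045577, 17111119],
   []⟩

/-- The two separated classes of the subgroup. -/
def pairL12 : PairCert :=
  ⟨[17109061, 17045577], 17043523, 17043537,
   [(17043521, [])],
   [4, 2, 3, 2, 0, 3, 0]⟩

/-- A subgroup without fused elements. -/
def nodeL13 : CNode :=
  ⟨[17043521, 17109061, 17174609, 17240149],
   [(17633347, 21, 4878429),
    (17698883, 21, 6975553)]⟩

/-- The two separated classes of the subgroup. -/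
def pairL13 : PairCert :=
  ⟨[17109061, 17174609], 17043523, 17043525,
   [(17043521, [])],
   [4]⟩

/-- A subgroup without fused elements. -/
def nodeL14 : CNode :=
  ⟨[17043521, 17567813, 17059913, 17584221],
   []⟩

/-- The two separated classes of the subgroup. -/
def pairL14 : PairCert :=
  ⟨[17567813, 17059913], 17043523, 17043537,
   [(17043521, [])],
   [4, 2, 3, 2, 0, 3, 0]⟩

/-- A subgroup without fused elements. -/
def nodeL15 : CNode :=
  ⟨[17043521, 17567813, 17698897, 17174613],
   []⟩

/-- The two separated classes of the subgroup. -/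
def pairL15 : PairCert :=
  ⟨[17567813, 17698897], 17043523, 17043525,
   [(17043521, [])],
   [4]⟩

/-- A subgroup without fused elements. -/
def nodeL16 : CNode :=
  ⟨[17043521, 17567813, 17764433, 17240149],
   [(17633347, 21, 4812865),
    (17698883, 21, 19017805)]⟩

/-- The two separated classes of the subgroup. -/
def pairL16 : PairCert :=
  ⟨[17567813, 17764433], 17043523, 17043525,
   [(17043521, [])],
   [4]⟩

/-- A subgroup without fused elements. -/
def nodeL17 : CNode :=
  ⟨[17043521, 17569857, 19271745, 19863617],
   []⟩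

/-- The two separated classes of the subgroup. -/
def pairL17 : PairCert :=
  ⟨[17569857, 19271745], 17043523, 17109057,
   [(17043521, [])],
   [5, 0, 2, 1, 2, 0, 2, 0, 3, 0, 1, 0]⟩

/-- A subgroup without fused elements. -/
def nodeL18 : CNode :=
  ⟨[17043521, 17569857, 17649729, 17127489],
   []⟩

/-- The two separated classes of the subgroup. -/
def pairL18 : PairCert :=
  ⟨[17569857, 17649729], 17043523, 17045569,
   [(17043521, [])],
   [5]⟩

/-- A subgroup without fused elements. -/
def nodeL19 : CNode :=
  ⟨[17043521, 17569857, 17649731, 17127491],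
   [(17633361, 20, 21586009),
    (17125457, 20, 21508173)]⟩

/-- The two separated classes of the subgroup. -/
def pairL19 : PairCert :=
  ⟨[17569857, 17649731], 17043523, 17043537,
   [(17043521, [])],
   [4, 2, 3, 2, 0, 3, 0]⟩

/-- A subgroup without fused elements. -/
def nodeL20 : CNode :=
  ⟨[17043521, 17051715, 25434177, 25442371, 27529289, 27537483, 19142729, 19150923],
   []⟩

/-- The two separated classes of the subgroup. -/
def pairL20 : PairCert :=
  ⟨[17051715, 25434177, 27529289], 17043523, 17043529,
   [(17043521, []),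
    (17051715, [4, 2, 3, 2, 0, 3, 0, 5]),
    (27529289, [4, 2, 3, 2, 0, 3, 0, 5, 1, 2, 0, 2, 1, 2, 0, 2, 0, 2, 3])],
   [4, 0, 1, 0, 3, 0, 2, 0, 2, 1, 2, 0]⟩

/-- A subgroup without fused elements. -/
def nodeL21 : CNode :=
  ⟨[17043521, 17051715, 17059913, 17068107, 17053777, 17045587, 17070169, 17061979],
   []⟩

/-- The two separated classes of the subgroup. -/
def pairL21 : PairCert :=
  ⟨[17051715, 17059913, 17053777], 17043523, 17043529,
   [(17043521, []),
    (17051715, [4, 2, 3, 2, 0, 3, 0, 5]),
    (17070169, [4, 2, 3, 2, 0, 3, 0, 5, 0, 1, 2, 0, 1, 2, 0, 2, 1, 0, 3])],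
   [4, 0, 1, 0, 3, 0, 2, 0, 2, 1, 2, 0]⟩

/-- The subgroups without fused elements in the pattern `14`. -/
def nodesL : List CNode := [nodeL0, nodeL1, nodeL2, nodeL3, nodeL4, nodeL5, nodeL6, nodeL7, nodeL8, nodeL9, nodeL10, nodeL11, nodeL12, nodeL13, nodeL14, nodeL15, nodeL16, nodeL17, nodeL18, nodeL19, nodeL20, nodeL21]

end Cfsg.Agent.Fus.Transv
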