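import Cfsg.Agent.Lib.Fus.Transv.Step

/-! Generated data for the centralizer of a transvection. -/

set_option autoImplicit false
set_option maxRecDepth 100000

namespace Cfsg.Agent.Fus.Transv

/-- Words moving the fused classes to the central involution, in the pattern `78`. -/
def witListM : List (List ℕ) := [[], [4], [5], [4, 2, 3, 2, 0, 3, 0, 5], [], [], [4, 0, 1, 0, 1, 3, 0, 1, 3, 3, 2, 3, 0, 2, 0, 4, 0, 2, 0, 3, 2, 3], []]

/-- A subgroup without fused elements. -/
def nodeM0 : CNode :=
  ⟨[17043521, 17051715],
   [(25434177, 3, 17043521),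
    (27531329, 4, 17043521),
    (27537473, 4, 17059905),
    (25442369, 3, 17059905),
    (19140681, 5, 17043521),
    (27529289, 4, 17059921),
    (19142729, 5, 17059905),
    (25434185, 3, 17043537),
    (19148873, 5, 17043537),
    (17053769, 6, 17043521),
    (19150921, 5, 17059921),
    (25442377, 3, 17059921),
    (27539529, 4, 17043537)]⟩

/-- The two separated classes of the subgroup. -/
def pairM0 : PairCert :=
  ⟨[17051715], 17043529, 17043523,
   [(17043521, [4, 0, 1, 0, 3, 0, 2, 0, 2, 1, 2, 0])],
   []⟩

/-- A subgroup without fused elements. -/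
def nodeM1 : CNode :=
  ⟨[17043521, 17109061],
   [(23400513, 5, 12800089),
    (19271745, 7, 17043521),
    (23466049, 5, 25382989),
    (19337281, 7, 17567809),
    (21237827, 5, 12734529),
    (23334979, 5, 12800077),
    (21303363, 5, 12734549),
    (19271747, 7, 17043537),
    (21368899, 5, 25317441),
    (17240131, 6, 16920653),
    (19337283, 7, 17567825),
    (21434435, 5, 25317461),
    (23531587, 5, 25383001),
    (17045577, 8, 17043521),
    (19142729, 8, 21237825),
    (17045579, 8, 17043525),
    (19142731, 8, 21237829),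
    (17045593, 8, 17567809),
    (19208281, 8, 21762113),
    (17045595, 8, 17567813),
    (19208283, 8, 21893185)]⟩

/-- The two separated classes of the subgroup. -/
def pairM1 : PairCert :=
  ⟨[17109061], 17043523, 17043525,
   [(17043521, [])],
   [4]⟩

/-- A subgroup without fused elements. -/
def nodeM2 : CNode :=
  ⟨[17043521, 17569857],
   [(19271745, 9, 17043521),
    (19337281, 9, 17045569),
    (17649729, 10, 17043521),
    (19271747, 9, 17043537),
    (19337283, 9, 17045585),
    (17059907, 3, 25694273),
    (17125443, 3, 29954113),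
    (17584195, 4, 25759809),
    (17649731, 11, 17043521),
    (17109073, 7, 21250113),
    (17633361, 5, 21573705),
    (17125457, 3, 29974597),
    (17649745, 11, 16920645),
    (17109075, 7, 21383233),
    (17567827, 5, 21520461),
    (17059923, 3, 25718853),
    (17649747, 11, 17178693)]⟩

/-- The two separated classes of the subgroup. -/
def pairM2 : PairCert :=
  ⟨[17569857], 17043523, 17045569,
   [(17043521, [])],
   [5]⟩

/-- A subgroup without fused elements. -/
def nodeM3 : CNode :=
  ⟨[17043521, 17051715, 25434177, 25442371],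
   [(27529289, 12, 17043521),
    (19148873, 12, 21315653)]⟩

/-- The two separated classes of the subgroup. -/
def pairM3 : PairCert :=
  ⟨[17051715, 25434177], 17043523, 17043529,
   [(17043521, []),
    (17051715, [4, 2, 3, 2, 0, 3, 0, 5])],
   [4, 0, 1, 0, 3, 0, 2, 0, 2, 1, 2, 0]⟩

/-- A subgroup without fused elements. -/
def nodeM4 : CNode :=
  ⟨[17043521, 17051715, 27531329, 27539523],
   [(19140681, 12, 21315669),
    (19148873, 12, 17059921)]⟩

/-- The two separated classes of the subgroup. -/
def pairM4 : PairCert :=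
  ⟨[17051715, 27531329], 17043523, 17043529,
   [(17043521, []),
    (17051715, [4, 2, 3, 2, 0, 3, 0, 5]),
    (27539523, [4, 2, 3, 2, 0, 3, 0, 5, 0, 2, 3, 2, 3, 2, 3, 2, 0])],
   [4, 0, 1, 0, 3, 0, 2, 0, 2, 1, 2, 0]⟩

/-- A subgroup without fused elements. -/
def nodeM5 : CNode :=
  ⟨[17043521, 17051715, 19140681, 19148875],
   [(27531329, 12, 21315669),
    (25442369, 12, 17059905)]⟩

/-- The two separated classes of the subgroup. -/
def pairM5 : PairCert :=
  ⟨[17051715, 19140681], 17043523, 17043529,
   [(17043521, []),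
    (17051715, [4, 2, 3, 2, 0, 3, 0, 5])],
   [4, 0, 1, 0, 3, 0, 2, 0, 2, 1, 2, 0]⟩

/-- A subgroup without fused elements. -/
def nodeM6 : CNode :=
  ⟨[17043521, 17051715, 17053769, 17045579],
   []⟩

/-- The two separated classes of the subgroup. -/
def pairM6 : PairCert :=
  ⟨[17051715, 17053769], 17043523, 19140673,
   [(17043521, []),
    (17051715, [4, 2, 3, 2, 0, 3, 0, 5]),
    (17053769, [4, 2, 3, 2, 0, 3, 0, 5, 0, 2, 0, 1, 2, 0, 2, 1, 3])],
   [5, 0, 3, 0, 2, 3, 2]⟩

/-- A subgroup without fused elements. -/
def nodeM7 : CNode :=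
  ⟨[17043521, 17109061, 19271745, 19337285],
   [(23334979, 12, 8613961),
    (21303363, 12, 8548433)]⟩

/-- The two separated classes of the subgroup. -/
def pairM7 : PairCert :=
  ⟨[17109061, 19271745], 17043523, 17043525,
   [(17043521, [])],
   [4]⟩

/-- A subgroup without fused elements. -/
def nodeM8 : CNode :=
  ⟨[17043521, 17109061, 17045577, 17111119],
   []⟩

/-- The two separated classes of the subgroup. -/
def pairM8 : PairCert :=
  ⟨[17109061, 17045577], 17043523, 19140673,
   [(17043521, [])],
   [5, 0, 3, 0, 2, 3, 2]⟩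

/-- A subgroup without fused elements. -/
def nodeM9 : CNode :=
  ⟨[17043521, 17569857, 19271745, 19863617],
   []⟩

/-- The two separated classes of the subgroup. -/
def pairM9 : PairCert :=
  ⟨[17569857, 19271745], 17043523, 17109057,
   [(17043521, [])],
   [5, 0, 2, 1, 2, 0, 2, 0, 3, 0, 1, 0]⟩

/-- A subgroup without fused elements. -/
def nodeM10 : CNode :=
  ⟨[17043521, 17569857, 17649729, 17127489],
   []⟩

/-- The two separated classes of the subgroup. -/
def pairM10 : PairCert :=
  ⟨[17569857, 17649729], 17043523, 17045569,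
   [(17043521, [])],
   [5]⟩

/-- A subgroup without fused elements. -/
def nodeM11 : CNode :=
  ⟨[17043521, 17569857, 17649731, 17127491],
   [(17633361, 12, 21586009),
    (17125457, 12, 21508173)]⟩

/-- The two separated classes of the subgroup. -/
def pairM11 : PairCert :=
  ⟨[17569857, 17649731], 17043523, 17043537,
   [(17043521, [])],
   [4, 2, 3, 2, 0, 3, 0]⟩

/-- A subgroup without fused elements. -/
def nodeM12 : CNode :=
  ⟨[17043521, 17051715, 25434177, 25442371, 27529289, 27537483, 19142729, 19150923],
   []⟩

/-- The two separated classes of the subgroup. -/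
def pairM12 : PairCert :=
  ⟨[17051715, 25434177, 27529289], 17043523, 17043529,
   [(17043521, []),
    (17051715, [4, 2, 3, 2, 0, 3, 0, 5]),
    (27529289, [4, 2, 3, 2, 0, 3, 0, 5, 1, 2, 0, 2, 1, 2, 0, 2, 0, 2, 3])],
   [4, 0, 1, 0, 3, 0, 2, 0, 2, 1, 2, 0]⟩

/-- The subgroups without fused elements in the pattern `78`. -/
def nodesM : List CNode := [nodeM0, nodeM1, nodeM2, nodeM3, nodeM4, nodeM5, nodeM6, nodeM7, nodeM8, nodeM9, nodeM10, nodeM11, nodeM12]

end Cfsg.Agent.Fus.Transv
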