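import Cfsg.Agent.Lib.Fus.Transv.Act

/-!
# An abelian subgroup normalised by a word of order three
-/

set_option autoImplicit false
set_option maxRecDepth 100000

namespace Cfsg.Agent.Fus.Transv

open Cfsg.Agent.Spor.Cos (force force_eq ev ev_append)

/-- An abelian subgroup with a word `wh a wq`. -/
structure NData where
  /-- generators -/
  gA : List ℕ
  /-- all elements -/
  A : List ℕ
  /-- the left part -/
  wh : List ℕ
  /-- the involution in the middle -/
  ix : ℕ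
  /-- the right part -/
  wq : List ℕ

namespace NData

variable (d : NData) (ta tb : CTree)

/-- The word. -/
def xW : List ℕ := d.wh ++ (d.ix :: d.wq)

/-- Membership. -/
def inA (c : ℕ) : Bool := d.A.any fun x => Nat.beq x c

/-- The action of the word. -/
noncomputable def pi (x : ℕ) : ℕ := act ta tb d.xW x

/-- The action of a power. -/
noncomputable def piE (e x : ℕ) : ℕ := bif Nat.beq e 1 then d.pi ta tb x else d.pi ta tb (d.pi ta tb x)

/-- The element part of a power of a pair. -/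
noncomputable def powS (x e k : ℕ) : ℕ := bif Nat.beq k 1 then x else mulC x (d.piE ta tb e x)

/-- The exponent of a power of a pair. -/
def powE (e k : ℕ) : ℕ := bif Nat.beq k 1 then e else 2 * e % 3

/-- The conditions on the subgroup and its word. -/
noncomputable def baseOk : Bool :=
  (d.A.all fun x => inH x && Nat.beq (mulC x x) oneC && (d.A.all fun y => d.inA (mulC x y)) &&
      (d.gA.all fun y => commC x y) && d.inA (d.pi ta tb x) &&
      (!Nat.beq (d.pi ta tb x) x || Nat.beq x oneC) && Nat.beq (d.pi ta tb (d.pi ta tb (d.pi ta tb x))) x) &&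
    (d.gA.all fun x => d.inA x) && d.inA oneC && (d.gA.any fun x => Nat.beq x sC) &&
    ((elems.filter fun c => d.gA.all fun g => commC c g).all fun c => d.inA c) &&
    (d.wh.all fun s => Nat.blt s 4) && (d.wq.all fun s => Nat.blt s 4) && (Nat.beq d.ix 4 || Nat.beq d.ix 5)

theorem inA_iff {c : ℕ} : d.inA c = true ↔ c ∈ d.A := by
  simp [inA, List.any_eq_true]

/-- The meaning of the conditions. -/
structure Good : Prop where
  /-- the elements -/
  mem : ∀ x ∈ d.A, Mem x ∧ mulC x x = oneC ∧ Mem (d.pi ta tb x) ∧ d.pi ta tb x ∈ d.A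
  /-- closure -/
  mul : ∀ x ∈ d.A, ∀ y ∈ d.A, mulC x y ∈ d.A
  /-- commuting with the generators -/
  comm : ∀ x ∈ d.A, ∀ y ∈ d.gA, mulC x y = mulC y x
  /-- fixed points -/
  fpf : ∀ x ∈ d.A, d.pi ta tb x = x → x = oneC
  /-- order three -/
  cube : ∀ x ∈ d.A, d.pi ta tb (d.pi ta tb (d.pi ta tb x)) = x
  /-- the generators -/
  gens : ∀ x ∈ d.gA, x ∈ d.A
  /-- the identity -/
  one : oneC ∈ d.A
  /-- the central involution -/
  hs : sC ∈ d.gA
  /-- self-centralisation -/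
  cent : ∀ c, Mem c → (∀ g ∈ d.gA, mulC c g = mulC g c) → c ∈ d.A
  /-- the letters -/
  letters : (∀ s ∈ d.wh, s < 4) ∧ (∀ s ∈ d.wq, s < 4) ∧ (d.ix = 4 ∨ d.ix = 5)

theorem good_of_ok (h : d.baseOk ta tb = true) : d.Good ta tb := by
  simp only [baseOk, Bool.and_eq_true, List.all_eq_true, List.any_eq_true, inA_iff, Nat.beq_eq, Bool.or_eq_true,
    Bool.not_eq_true', commC, Nat.blt_eq] at h
  obtain ⟨⟨⟨⟨⟨⟨⟨hA, hg⟩, h1⟩, ⟨x0, hx0, hs⟩⟩, hcent⟩, hwh⟩, hwq⟩, hix⟩ := h
  refine ⟨fun x hx => ⟨(hA x hx).1.1.1.1.1.1, (hA x hx).1.1.1.1.1.2, ?_, (hA x hx).1.1.2⟩,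
    fun x hx => (hA x hx).1.1.1.1.2, fun x hx => (hA x hx).1.1.1.2, fun x hx e => ?_, fun x hx => (hA x hx).2,
    hg, h1, hs ▸ hx0, fun c hc hcm => ?_, hwh, hwq, hix⟩
  · exact (hA _ (hA x hx).1.1.2).1.1.1.1.1.1
  · rcases (hA x hx).1.2 with h' | h'
    · rw [e, Nat.beq_refl] at h'; exact absurd h' (by simp)
    · exact h'
  · exact hcent c (List.mem_filter.2 ⟨mem_iff_elems.1 hc, List.all_eq_true.2 fun g hg => by
      simp only [commC, Nat.beq_eq]; exact hcm g hg⟩)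

theorem Good.xW_lt {d : NData} {ta tb : CTree} (hd : d.Good ta tb) : ∀ s ∈ d.xW, s < 6 := by
  obtain ⟨h1, h2, h3⟩ := hd.letters
  intro s hs
  simp only [xW, List.mem_append, List.mem_cons] at hs
  rcases hs with h | rfl | h
  · have := h1 s h; omega
  · omega
  · have := h2 s h; omega

theorem Good.piE_mem {d : NData} {ta tb : CTree} (hd : d.Good ta tb) (e : ℕ) {x : ℕ} (hx : x ∈ d.A) :
    d.piE ta tb e x ∈ d.A := by
  unfold piE
  cases Nat.beq e 1
  · exact (hd.mem _ (hd.mem x hx).2.2.2).2.2.2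
  · exact (hd.mem x hx).2.2.2

theorem Good.powS_mem {d : NData} {ta tb : CTree} (hd : d.Good ta tb) (e k : ℕ) {x : ℕ} (hx : x ∈ d.A) :
    d.powS ta tb x e k ∈ d.A := by
  unfold powS
  cases Nat.beq k 1
  · exact hd.mul x hx _ (hd.piE_mem e hx)
  · exact hx

end NData

/-- The situation: coordinates, the two involutions and a checked subgroup. -/
structure NCtx {G : Type*} [Group G] (z : G) (I : ℕ → G) (a b : G) (ta tb : CTree) (d : NData) : Prop where
  /-- coordinates -/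
  loc : Loc z I
  /-- the involutions -/
  pair : Pair I a b ta tb
  /-- the checks -/
  good : d.Good ta tb

namespace NCtx

variable {G : Type*} [Group G] {z : G} {I : ℕ → G} {a b : G} {ta tb : CTree} {d : NData}
variable (C : NCtx z I a b ta tb d)
include C

local notation "𝕏" => ev (gW I a b) d.xW

theorem conj_X {x : ℕ} (hx : x ∈ d.A) : 𝕏 * I x * 𝕏⁻¹ = I (d.pi ta tb x) :=
  (C.pair.act_sound _ (C.good.mem x hx).1 C.good.xW_lt fun h =>
    not_mem_eight (h ▸ (C.good.mem x hx).2.2.1)).2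

theorem fix_mem {g : G} (hg : ∀ x ∈ d.gA, g * I x = I x * g) : ∃ c ∈ d.A, g = I c := by
  obtain ⟨c, hc, e⟩ := (C.loc.range g).1 (by rw [← C.loc.map_s]; exact hg _ C.good.hs)
  refine ⟨c, C.good.cent c hc fun x hx => ?_, e.symm⟩
  refine (C.loc.comm_iff hc (C.good.mem x (C.good.gens x hx)).1).1 ?_
  rw [e]; exact hg x hx

theorem X_cube : 𝕏 ^ 3 = 1 := by
  have h : ∀ x ∈ d.A, 𝕏 ^ 3 * I x * (𝕏 ^ 3)⁻¹ = I x := fun x hx => by
    have h1 := C.conj_X hx
    have h2 := C.conj_X (C.good.mem x hx).2.2.2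
    have h3 := C.conj_X (C.good.mem _ (C.good.mem x hx).2.2.2).2.2.2
    rw [← h1] at h2
    rw [← h2, C.good.cube x hx] at h3
    conv_rhs => rw [← h3]
    rw [pow_succ, pow_two]; group
  obtain ⟨c, hc, e⟩ := C.fix_mem fun x hx => mul_inv_eq_iff_eq_mul.1 (h x (C.good.gens x hx))
  have h4 := C.conj_X hc
  rw [← e, ← pow_succ', pow_succ, mul_inv_cancel_right, e] at h4
  have : c = oneC := C.good.fpf c hc (C.loc.inj _ _ (C.good.mem c hc).1 (C.good.mem c hc).2.2.1 h4).symm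
  rw [e, this, C.loc.map_one]

theorem A_sq {x : ℕ} (hx : x ∈ d.A) : I x * I x = 1 := by
  rw [← C.loc.hom _ _ (C.good.mem x hx).1 (C.good.mem x hx).1, (C.good.mem x hx).2.1, C.loc.map_one]

theorem A_inv {x : ℕ} (hx : x ∈ d.A) : (I x)⁻¹ = I x := inv_eq_of_mul_eq_one_left (C.A_sq hx)

theorem A_mul {x y : ℕ} (hx : x ∈ d.A) (hy : y ∈ d.A) : I x * I y = I (mulC x y) :=
  (C.loc.hom _ _ (C.good.mem x hx).1 (C.good.mem y hy).1).symm

theorem X_pow_mul {e : ℕ} (he : e = 1 ∨ e = 2) {x : ℕ} (hx : x ∈ d.A) :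
    𝕏 ^ e * I x = I (d.piE ta tb e x) * 𝕏 ^ e := by
  have h1 := mul_inv_eq_iff_eq_mul.1 (C.conj_X hx)
  rcases he with rfl | rfl
  · simpa [NData.piE] using h1
  · have h2 := mul_inv_eq_iff_eq_mul.1 (C.conj_X (C.good.mem x hx).2.2.2)
    rw [pow_two, mul_assoc, h1, ← mul_assoc, h2]
    simp [NData.piE, mul_assoc, show Nat.beq 2 1 = false from rfl]

theorem pow_notMem {k : ℕ} (hk : k = 1 ∨ k = 2) {c : ℕ} (hc : c ∈ d.A) : 𝕏 ^ k ≠ I c := fun h => by
  have hcs : ∀ x ∈ d.gA, I c * I x = I x * I c := fun x hx =>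
    (C.loc.comm_iff (C.good.mem c hc).1 (C.good.mem x (C.good.gens x hx)).1).2 (C.good.comm c hc x hx)
  have h1 := hcs _ C.good.hs
  rw [← h, C.X_pow_mul hk (C.good.gens _ C.good.hs), mul_left_inj] at h1
  have hsA := C.good.gens _ C.good.hs
  have h2 := C.loc.inj _ _ (C.good.mem _ (C.good.piE_mem k hsA)).1 mem_sC h1
  have h3 : d.pi ta tb sC = sC := by
    rcases hk with rfl | rfl
    · simpa [NData.piE] using h2
    · have h4 : d.pi ta tb (d.pi ta tb sC) = sC := by simpa [NData.piE, show Nat.beq 2 1 = false from rfl] using h2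
      have h5 := C.good.cube sC hsA
      rwa [h4] at h5
  exact absurd (C.good.fpf sC hsA h3) (by decide +kernel)

/-- An element conjugating the word to a pair. -/
def NS {G : Type*} [Group G] (I : ℕ → G) (a b : G) (d : NData) (g : G) (x e : ℕ) : Prop :=
  x ∈ d.A ∧ (e = 1 ∨ e = 2) ∧ g * ev (gW I a b) d.xW * g⁻¹ = I x * ev (gW I a b) d.xW ^ e

theorem NS_uniq {g : G} {x y e f : ℕ} (h : NS I a b d g x e) (h' : NS I a b d g y f) : x = y ∧ e = f := by
  obtain ⟨hx, he, h1⟩ := h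
  obtain ⟨hy, hf, h2⟩ := h'
  rw [h1] at h2
  have key : I (mulC y x) = 𝕏 ^ f * (𝕏 ^ e)⁻¹ := by
    rw [← C.A_mul hy hx, eq_mul_inv_iff_mul_eq, mul_assoc, h2, ← mul_assoc, C.A_sq hy, one_mul]
  have hyx := C.good.mul y hy x hx
  have hef : e = f := by
    have h3 := C.X_cube
    rcases he with rfl | rfl <;> rcases hf with rfl | rfl
    · rfl
    · exfalso
      refine C.pow_notMem (Or.inl rfl) hyx ?_
      rw [key]; group
    · exfalso
      refine C.pow_notMem (Or.inr rfl) hyx ?_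
      have h2' : (𝕏 ^ 2)⁻¹ = 𝕏 := inv_eq_of_mul_eq_one_right (by rw [← pow_succ]; exact h3)
      rw [key, h2', pow_one, pow_two]
    · rfl
  subst hef
  rw [mul_inv_cancel] at key
  refine ⟨?_, rfl⟩
  have hone := C.loc.inj _ _ (C.good.mem _ hyx).1 mem_one (key.trans C.loc.map_one.symm)
  refine C.loc.inj _ _ (C.good.mem x hx).1 (C.good.mem y hy).1 ?_
  exact mul_right_cancel h2

theorem NS_one : NS I a b d 1 oneC 1 := ⟨C.good.one, Or.inl rfl, by simp [C.loc.map_one]⟩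

theorem pow_pair {x e k : ℕ} (hx : x ∈ d.A) (he : e = 1 ∨ e = 2) (hk : k = 1 ∨ k = 2) :
    (I x * 𝕏 ^ e) ^ k = I (d.powS ta tb x e k) * 𝕏 ^ NData.powE e k := by
  rcases hk with rfl | rfl
  · simp [NData.powS, NData.powE]
  · simp only [NData.powS, NData.powE, show Nat.beq 2 1 = false from rfl, cond_false]
    rw [← C.A_mul hx (C.good.piE_mem e hx), pow_two]
    have hp : 𝕏 ^ (2 * e % 3) = 𝕏 ^ e * 𝕏 ^ e := by
      rw [← pow_add]
      rcases he with rfl | rfl
      · rfl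
      · show 𝕏 ^ 1 = 𝕏 ^ 4
        rw [pow_succ 𝕏 3, C.X_cube, one_mul, pow_one]
    calc I x * 𝕏 ^ e * (I x * 𝕏 ^ e) = I x * (𝕏 ^ e * I x) * 𝕏 ^ e := by group
      _ = _ := by rw [C.X_pow_mul he hx, hp]; group

theorem NS_mul {g h : G} {x y w e f : ℕ} (hg : NS I a b d g x e) (hh : NS I a b d h y f) (hw : w ∈ d.A)
    (hyw : g * I y * g⁻¹ = I w) :
    NS I a b d (g * h) (mulC w (d.powS ta tb x e f)) (NData.powE e f) := by
  obtain ⟨hx, he, h1⟩ := hg
  obtain ⟨hy, hf, h2⟩ := hh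
  refine ⟨C.good.mul w hw _ (C.good.powS_mem e f hx), ?_, ?_⟩
  · rcases he with rfl | rfl <;> rcases hf with rfl | rfl <;> decide
  calc g * h * 𝕏 * (g * h)⁻¹ = g * (h * 𝕏 * h⁻¹) * g⁻¹ := by group
    _ = (g * I y * g⁻¹) * (g * 𝕏 ^ f * g⁻¹) := by rw [h2]; group
    _ = _ := by rw [hyw, ← conj_pow, h1, C.pow_pair hx he hf, ← C.A_mul hw (C.good.powS_mem e f hx), mul_assoc]

/-- An element acting trivially with a trivial pair is trivial. -/
theorem eq_one {g : G} (hfix : ∀ x ∈ d.gA, g * I x = I x * g) {e : ℕ} (h : NS I a b d g oneC e) : g = 1 := by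
  obtain ⟨c, hc, rfl⟩ := C.fix_mem hfix
  have hp := C.good.piE_mem 1 hc
  have h' : NS I a b d (I c) (mulC c (d.piE ta tb 1 c)) 1 := by
    refine ⟨C.good.mul c hc _ hp, Or.inl rfl, ?_⟩
    have hm := C.X_pow_mul (Or.inl rfl) hc
    rw [pow_one] at hm ⊢
    rw [C.A_inv hc, mul_assoc, hm, ← mul_assoc, C.A_mul hc hp]
  obtain ⟨h1, -⟩ := C.NS_uniq h h'
  have hc' : c = d.pi ta tb c := by
    refine C.loc.inj _ _ (C.good.mem c hc).1 (C.good.mem c hc).2.2.1 ?_
    have h2 : I c * I (d.pi ta tb c) = 1 := by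
      rw [C.A_mul hc (C.good.mem c hc).2.2.2, show d.pi ta tb c = d.piE ta tb 1 c from rfl, ← h1, C.loc.map_one]
    rw [eq_inv_of_mul_eq_one_right h2, C.A_inv hc]
  rw [C.good.fpf c hc hc'.symm, C.loc.map_one]

end NCtx

end Cfsg.Agent.Fus.Transv
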