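import Cfsg.Agent.Lib.Fus.Transv.NodeDataL
import Cfsg.Agent.Lib.Fus.Transv.SwapData1_14
import Cfsg.Agent.Lib.Fus.Transv.SwapData2_14

/-! Checks separating two classes. -/

set_option autoImplicit false
set_option maxRecDepth 100000

namespace Cfsg.Agent.Fus.Transv

theorem pairL12_ok : pairOk 14 swapTree1_14 swapTree2_14 nodeL12 pairL12 = true := by decide +kernel

theorem pairL13_ok : pairOk 14 swapTree1_14 swapTree2_14 nodeL13 pairL13 = true := by decide +kernel

theorem pairL14_ok : pairOk 14 swapTree1_14 swapTree2_14 nodeL14 pairL14 = true := by decide +kernel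

theorem pairL15_ok : pairOk 14 swapTree1_14 swapTree2_14 nodeL15 pairL15 = true := by decide +kernel

theorem pairL16_ok : pairOk 14 swapTree1_14 swapTree2_14 nodeL16 pairL16 = true := by decide +kernel

theorem pairL17_ok : pairOk 14 swapTree1_14 swapTree2_14 nodeL17 pairL17 = true := by decide +kernel

end Cfsg.Agent.Fus.Transv
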