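import Cfsg.Agent.Lib.Fus.Transv.Bound
import Cfsg.Agent.Lib.Fus.Transv.Exist
import Cfsg.Agent.Lib.Fus.Transv.Gen
import Cfsg.Agent.Lib.Fus.Transv.Close

/-!
# Groups with a given pattern: the letters generate, the order is bounded
-/

set_option autoImplicit false
set_option maxRecDepth 100000

namespace Cfsg.Agent.Fus.Transv

variable {G G' : Type*} [Group G] [Group G'] {z : G} {I : ℕ → G} {z' : G'} {I' : ℕ → G'}

/-- A group with coordinates, two chosen involutions, and the letters generating everything. -/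
def HasPat (z : G) (I : ℕ → G) (ta tb : CTree) (Ps : List PData) : Prop :=
  ∃ a b, Sit z I a b ta tb Ps ∧ genGrp I a b = ⊤

theorem top_of_nodes [Finite G] {a b : G} {ta tb : CTree} {Ps : List PData} {m : ℕ} (S : Sit z I a b ta tb Ps)
    (hm : ∀ i < 8, inMask m i = true ↔ IsConj (I (repC i)) z) {wit : List (List ℕ)}
    (hw : witOk ta tb m wit = true) {Ns : List CNode} (hN : CNode.listOk m Ns = true)
    (hgood : Emb z I a b ta tb m (genGrp I a b) → ∀ n ∈ Ns,
      (∀ k ∈ Ns, n.V.toFinset.card < k.V.toFinset.card → GoodNode I (genGrp I a b) k) →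
        GoodNode I (genGrp I a b) n) :
    genGrp I a b = ⊤ := by
  have E := emb_of_gen S.loc S.pair hm (fun c hc => S.pair.I_mem_genGrp hc)
    ⟨gW_mem_genGrp S.pair 4, gW_mem_genGrp S.pair 5⟩ hw
  exact E.top (nodesGood_of_ok hN) (hgood E)

variable {ta tb : CTree} {Ps : List PData} {P : PData} {T : TData} {rels : List (List ℕ × Cert)}
variable {C : Cfsg.Agent.Spor.Cos.Log}

theorem card_le_of_pat [Finite G] (h : HasPat z I ta tb Ps) (hc : PatCert ta tb Ps P T rels C) :
    Nat.card G ≤ C.N * (P.d.A.length * T.keys.toList.length) := by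
  obtain ⟨a, b, S, htop⟩ := h
  refine le_trans ?_ (card_pairGrp_le S S hc)
  refine Nat.card_le_card_of_surjective (fun x : pairGrp I a b I a b => (x : G × G).1) fun g => ?_
  have hmap : (pairGrp I a b I a b).map (MonoidHom.fst G G) = ⊤ := by
    refine eq_top_iff.2 (htop ▸ (Subgroup.closure_le _).2 ?_)
    rintro x ⟨s, hs, rfl⟩
    exact ⟨gPair I a b I a b s, Subgroup.subset_closure ⟨s, hs, rfl⟩, rfl⟩
  obtain ⟨x, hx, e⟩ := Subgroup.mem_map.1 (show g ∈ (pairGrp I a b I a b).map (MonoidHom.fst G G) from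
    hmap ▸ Subgroup.mem_top g)
  exact ⟨⟨x, hx⟩, e⟩

/-- A simple group of the bounding order is isomorphic to every group of the pattern. -/
theorem iso_of_pat [Finite G] [Finite G'] [IsSimpleGroup G'] (h : HasPat z I ta tb Ps)
    (h' : HasPat z' I' ta tb Ps) (hc : PatCert ta tb Ps P T rels C)
    (hcard : C.N * (P.d.A.length * T.keys.toList.length) ≤ Nat.card G') : Nonempty (G' ≃* G) := by
  obtain ⟨a, b, S, htop⟩ := h
  obtain ⟨a', b', S', htop'⟩ := h'
  have hne : genGrp I a b ≠ ⊥ := fun e => S.loc.z_ne_one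
    (Subgroup.mem_bot.1 (show z ∈ (⊥ : Subgroup G) by rw [← e, htop]; exact Subgroup.mem_top z))
  exact (iso_genGrp S S' hc htop' hcard hne).map fun f =>
    f.trans ((MulEquiv.subgroupCongr htop).trans Subgroup.topEquiv)

end Cfsg.Agent.Fus.Transv
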