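import Cfsg.Agent.Lib.Fus.Transv.Spec

/-!
# Words that are trivial in every group of the situation
-/

set_option autoImplicit false
set_option maxRecDepth 100000

namespace Cfsg.Agent.Fus.Transv

open Cfsg.Agent.Spor.Cos (force force_eq ev ev_append ev_power)
open NCtx (NS)

/-- Words normalising the cyclic group of a word of order three. -/
structure PData where
  /-- the subgroup and the first word -/
  d : NData
  /-- the second word -/
  y : YData
  /-- words in the generators, with exponents -/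
  cs : List (List ℕ × ℕ)

/-- The evidence for a trivial word. -/
inductive Cert where
  /-- a word in the generators -/
  | gen
  /-- the action of a swapping involution -/
  | sw (s : ℕ) (w₁ w₂ : List ℕ)
  /-- a product of normalising words with trivial action -/
  | nrm (k : ℕ) (ps : List ℕ)
  /-- a power of a word without fixed points -/
  | fpf (gA A v : List ℕ) (o : ℕ)

namespace PData

variable (P : PData)

/-- A normalising word. -/
def piece (j : ℕ) : List ℕ :=
  let w := bif Nat.beq (j / 2) 0 then P.d.xW else bif Nat.beq (j / 2) 1 then P.y.yW'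
    else (P.cs.getD (j / 2 - 2) ([], 1)).1
  bif Nat.beq (j % 2) 1 then w.reverse else w

/-- The product of normalising words. -/
def word : List ℕ → List ℕ
  | [] => []
  | j :: ps => P.piece j ++ word ps

/-- All checks. -/
noncomputable def ok (ta tb : CTree) : Bool :=
  P.d.baseOk ta tb && P.d.yOk ta tb P.y &&
    P.cs.all fun c => (c.1.all fun s => Nat.blt s 4) && P.d.cOk ta tb (oneC, wC c.1, c.2)

end PData

/-- The check of one piece of evidence. -/
noncomputable def certOk (ta tb : CTree) (Ps : List PData) : List ℕ → Cert → Bool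
  | w, .gen => (w.all fun s => Nat.blt s 4) && Nat.beq (wC w) oneC
  | w, .sw s w₁ w₂ => (Nat.beq s 4 || Nat.beq s 5) && (w₁.all fun t => Nat.blt t 4) &&
      (w₂.all fun t => Nat.blt t 4) && (w == s :: (w₁ ++ s :: w₂)) &&
      force (mapC (bif Nat.beq s 4 then ta else tb) (wC w₁)) fun y => !Nat.beq y 8 &&
        Nat.beq (mulC y (wC w₂)) oneC
  | w, .nrm k ps => match Ps[k]? with
    | none => false
    | some P => (w == P.word ps) && (w.all fun s => Nat.blt s 6) &&
        P.d.gA.all fun x => Nat.beq (act ta tb w x) x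
  | w, .fpf gA A v o => (w == (List.replicate o v).flatten) && (v.all fun s => Nat.blt s 6) &&
      (gA.all fun x => inH x && (A.any fun y => Nat.beq y x) && Nat.beq (act ta tb w x) x) &&
      (gA.any fun x => Nat.beq x sC) &&
      ((elems.filter fun c => gA.all fun g => commC c g).all fun c => A.any fun y => Nat.beq y c) &&
      A.all fun x => inH x && force (act ta tb v x) fun y => !Nat.beq y 8 && (!Nat.beq y x || Nat.beq x oneC)

variable {G : Type*} [Group G] {z : G} {I : ℕ → G} {a b : G} {ta tb : CTree}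

/-- What is known about the data. -/
structure PGood (z : G) (I : ℕ → G) (a b : G) (ta tb : CTree) (P : PData) : Prop where
  /-- the checks -/
  ok : P.ok ta tb = true
  /-- the chosen option -/
  opt : NS I a b P.d (ev (gW I a b) P.y.yW) P.y.d0 P.y.e

namespace PGood

variable {P : PData} (L : Loc z I) (hp : Pair I a b ta tb) (h : PGood z I a b ta tb P)
include L hp h

theorem ctx : NCtx z I a b ta tb P.d := by
  have := h.ok
  simp only [PData.ok, Bool.and_eq_true] at this
  exact ⟨L, hp, P.d.good_of_ok _ _ this.1.1⟩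

theorem ns_mul_one {g k : G} {e f : ℕ} (h1 : NS I a b P.d g oneC e) (h2 : NS I a b P.d k oneC f) :
    ∃ e', NS I a b P.d (g * k) oneC e' := by
  have C := h.ctx L hp
  have hp1 : ∀ m, P.d.piE ta tb m oneC = oneC := fun m => by
    have e1 : P.d.pi ta tb oneC = oneC := by
      have := C.conj_X C.good.one
      rw [L.map_one, mul_one, mul_inv_cancel] at this
      exact (L.inj _ _ (C.good.mem _ C.good.one).2.2.1 mem_one (this.symm.trans L.map_one.symm))
    unfold NData.piE
    cases Nat.beq m 1 <;> simp [e1]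
  have := C.NS_mul h1 h2 C.good.one (by rw [L.map_one, mul_one, mul_inv_cancel])
  have hs : mulC oneC (P.d.powS ta tb oneC e f) = oneC := by
    unfold NData.powS
    cases Nat.beq f 1 <;> simp [hp1, mem_one.mul_one]
  rw [hs] at this
  exact ⟨_, this⟩

theorem ns_inv_one {g : G} {e : ℕ} (h1 : NS I a b P.d g oneC e) : NS I a b P.d g⁻¹ oneC e := by
  have C := h.ctx L hp
  obtain ⟨hA, he, h2⟩ := h1
  rw [L.map_one, one_mul] at h2
  refine ⟨hA, he, ?_⟩
  rw [L.map_one, one_mul, inv_inv]
  have h3 : (g * ev (gW I a b) P.d.xW * g⁻¹) ^ e = ev (gW I a b) P.d.xW := by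
    rw [h2, ← pow_mul]
    rcases he with rfl | rfl
    · rw [pow_one]
    · rw [show 2 * 2 = 3 + 1 from rfl, pow_succ, C.X_cube, one_mul]
  rw [conj_pow] at h3
  calc g⁻¹ * ev (gW I a b) P.d.xW * g = g⁻¹ * (g * ev (gW I a b) P.d.xW ^ e * g⁻¹) * g := by rw [h3]
    _ = _ := by group

theorem ns_piece (j : ℕ) : ∃ e, NS I a b P.d (ev (gW I a b) (P.piece j)) oneC e := by
  have C := h.ctx L hp
  have hok := h.ok
  simp only [PData.ok, Bool.and_eq_true, List.all_eq_true, Nat.blt_eq] at hok
  have hbase : ∀ w, (w = P.d.xW ∨ w = P.y.yW' ∨ w = (P.cs.getD (j / 2 - 2) ([], 1)).1) →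
      ∃ e, NS I a b P.d (ev (gW I a b) w) oneC e := by
    rintro w (rfl | rfl | rfl)
    · exact ⟨1, C.good.one, Or.inl rfl, by rw [L.map_one, one_mul, pow_one, mul_inv_cancel_right]⟩
    · exact ⟨_, C.NS_y' (P.d.ygood_of_ok _ _ _ hok.1.2) h.opt⟩
    · by_cases hj : j / 2 - 2 < P.cs.length
      · rw [List.getD_eq_getElem _ _ hj]
        obtain ⟨hw, hc⟩ := hok.2 _ (List.getElem_mem hj)
        obtain ⟨-, h2⟩ := C.NS_cCode hc
        refine ⟨(P.cs[j / 2 - 2]).2, ?_⟩
        rw [hp.ev_wC _ hw]
        have e1 : P.d.pi ta tb oneC = oneC := by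
          have := C.conj_X C.good.one
          rw [L.map_one, mul_one, mul_inv_cancel] at this
          exact (L.inj _ _ (C.good.mem _ C.good.one).2.2.1 mem_one (this.symm.trans L.map_one.symm))
        have e2 : P.d.cDel ta tb (oneC, wC (P.cs[j / 2 - 2]).1, (P.cs[j / 2 - 2]).2) = oneC := by
          unfold NData.cDel NData.piE
          cases Nat.beq (P.cs[j / 2 - 2]).2 1 <;> simp [e1, mem_one.mul_one]
        rw [e2, NData.cCode, (Mem.wC _).one_mul] at h2
        exact h2
      · rw [List.getD_eq_default _ _ (by omega)]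
        exact ⟨1, C.NS_one⟩
  unfold PData.piece
  cases Nat.beq (j % 2) 1
  · simp only [cond_false]
    refine hbase _ ?_
    cases Nat.beq (j / 2) 0 <;> cases Nat.beq (j / 2) 1 <;> simp
  · simp only [cond_true]
    obtain ⟨e, he⟩ := hbase (bif Nat.beq (j / 2) 0 then P.d.xW else bif Nat.beq (j / 2) 1 then P.y.yW'
      else (P.cs.getD (j / 2 - 2) ([], 1)).1) (by
        cases Nat.beq (j / 2) 0 <;> cases Nat.beq (j / 2) 1 <;> simp)
    exact ⟨e, by rw [hp.ev_rev]; exact h.ns_inv_one L hp he⟩

theorem ns_word : ∀ ps : List ℕ, ∃ e, NS I a b P.d (ev (gW I a b) (P.word ps)) oneC e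
  | [] => ⟨1, (h.ctx L hp).NS_one⟩
  | j :: ps => by
    obtain ⟨e, he⟩ := h.ns_piece L hp j
    obtain ⟨f, hf⟩ := ns_word ps
    rw [PData.word, ev_append]
    exact h.ns_mul_one L hp he hf

end PGood

/-- Certified words are trivial. -/
theorem cert_sound (L : Loc z I) (hp : Pair I a b ta tb) {Ps : List PData}
    (hP : ∀ P ∈ Ps, PGood z I a b ta tb P) {w : List ℕ} {c : Cert} (h : certOk ta tb Ps w c = true) :
    ev (gW I a b) w = 1 := by
  cases c with
  | gen =>
    simp only [certOk, Bool.and_eq_true, List.all_eq_true, Nat.blt_eq, Nat.beq_eq] at h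
    rw [hp.ev_wC _ h.1, h.2, L.map_one]
  | sw s w₁ w₂ =>
    simp only [certOk, force_eq, Bool.and_eq_true, List.all_eq_true, Nat.blt_eq, Nat.beq_eq, Bool.or_eq_true,
      beq_iff_eq, Bool.not_eq_true'] at h
    obtain ⟨⟨⟨⟨hs, h1⟩, h2⟩, rfl⟩, h8, hy⟩ := h
    set y := mapC (bif Nat.beq s 4 then ta else tb) (wC w₁)
    have h8' : y ≠ 8 := fun e => by rw [e] at h8; simp at h8
    have key : gW I a b s * I (wC w₁) * (gW I a b s)⁻¹ = I y ∧ Mem y := by
      rcases hs with rfl | rfl
      · obtain ⟨-, m, e⟩ := hp.swA.map _ h8'; exact ⟨e, m⟩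
      · obtain ⟨-, m, e⟩ := hp.swB.map _ h8'; exact ⟨e, m⟩
    show gW I a b s * ev (gW I a b) (w₁ ++ s :: w₂) = 1
    rw [ev_append, hp.ev_wC _ h1, ← L.map_one, ← hy, L.hom _ _ key.2 (Mem.wC _), ← key.1]
    show gW I a b s * (I (wC w₁) * (gW I a b s * ev (gW I a b) w₂)) = _
    rw [hp.ev_wC _ h2, inv_eq_of_mul_eq_one_left (hp.gW_sq s)]
    group
  | nrm k ps =>
    simp only [certOk] at h
    cases hk : Ps[k]? with
    | none => rw [hk] at h; simp at h
    | some P =>
      rw [hk] at h
      simp only [Bool.and_eq_true, beq_iff_eq, List.all_eq_true, Nat.blt_eq, Nat.beq_eq] at h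
      obtain ⟨⟨rfl, hlt⟩, hfix⟩ := h
      have hg := hP P (List.mem_of_getElem? hk)
      have C := hg.ctx L hp
      obtain ⟨e, he⟩ := hg.ns_word L hp ps
      refine C.eq_one (fun x hx => ?_) he
      have hm := (C.good.mem x (C.good.gens x hx)).1
      have := (hp.act_sound _ hm hlt fun e => not_mem_eight (by rw [← e, hfix x hx]; exact hm)).2
      rw [hfix x hx] at this
      exact mul_inv_eq_iff_eq_mul.1 this
  | fpf gA A v o =>
    simp only [certOk, force_eq, Bool.and_eq_true, List.all_eq_true, List.any_eq_true, Nat.blt_eq, Nat.beq_eq,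
      Bool.or_eq_true, beq_iff_eq, Bool.not_eq_true', exists_eq_right] at h
    obtain ⟨⟨⟨⟨⟨rfl, hv⟩, hg⟩, hs⟩, hcent⟩, hA⟩ := h
    have hwlt : ∀ s ∈ (List.replicate o v).flatten, s < 6 := fun s hs => by
      simp only [List.mem_flatten, List.mem_replicate] at hs
      obtain ⟨l, ⟨-, rfl⟩, hs⟩ := hs
      exact hv s hs
    set W := ev (gW I a b) (List.replicate o v).flatten
    have hfix : ∀ x ∈ gA, W * I x = I x * W := fun x hx => by
      obtain ⟨⟨hm, -⟩, hx'⟩ := hg x hx
      replace hm : Mem x := hm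
      have := (hp.act_sound _ hm hwlt fun e => not_mem_eight (by rw [← e, hx']; exact hm)).2
      rw [hx'] at this
      exact mul_inv_eq_iff_eq_mul.1 this
    obtain ⟨c, hc, e⟩ := (L.range W).1 (by rw [← L.map_s]; exact hfix _ hs)
    have hcA : c ∈ A := hcent c (List.mem_filter.2 ⟨mem_iff_elems.1 hc, List.all_eq_true.2 fun x hx => by
      simp only [commC, Nat.beq_eq]
      exact (L.comm_iff hc (hg x hx).1.1).1 (by rw [e]; exact hfix x hx)⟩)
    obtain ⟨-, h8, hfp⟩ := hA c hcA
    have hV := (hp.act_sound v hc hv fun e => by rw [e] at h8; simp at h8)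
    have hW : W = ev (gW I a b) v ^ o := ev_power _ _ _
    have hcm : ev (gW I a b) v * I c * (ev (gW I a b) v)⁻¹ = I c := by
      rw [e, hW, ← pow_succ', pow_succ, mul_inv_cancel_right]
    have hfix' := L.inj _ _ hV.1 hc (hV.2.symm.trans hcm)
    rcases hfp with h' | h'
    · rw [hfix', Nat.beq_refl] at h'; exact absurd h' (by simp)
    · rw [← e, h', L.map_one]

end Cfsg.Agent.Fus.Transv
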