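import Cfsg.Agent.Lib.Invol.StronglyEmbeddedCount
import Cfsg.Agent.Lib.Grp.Wielandt.Kegel
import Mathlib.GroupTheory.FixedPointFree

/-!
# A strongly embedded subgroup with two-groups as involution centralizers has commuting involutions
-/

set_option autoImplicit false

namespace Cfsg.Agent.Fus.Transv

open Cfsg.Agent.Invol (isConj_involutions exists_conj_inf mem_inf_map_conj)

/-- With all involution centralizers two-groups, a strongly embedded subgroup has abelian Omega. -/
theorem se_contra {X : Type*} [Group X] [Finite X] {S : Subgroup X} (hS : Cfsg.IsStronglyEmbedded S)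
    (h2 : ∀ t ∈ S, orderOf t = 2 → IsPGroup 2 (Subgroup.centralizer ({t} : Set X)))
    {s y p q : X} (hs : s ∈ S) (hy : y ∈ S) (hp : p ∈ S) (hq : q ∈ S) (os : orderOf s = 2) (oy : orderOf y = 2)
    (op : orderOf p = 2) (oq : orderOf q = 2) (hsy : s * y = y * s) (hne : s ≠ y) (hpq : p * q ≠ q * p) : False := by
  haveI : Fact (Nat.Prime 2) := ⟨Nat.prime_two⟩
  -- every centralizer of an involution is a two-group
  have hall : ∀ t : X, orderOf t = 2 → IsPGroup 2 (Subgroup.centralizer ({t} : Set X)) := by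
    intro t ht
    obtain ⟨g, hg⟩ := _root_.isConj_iff.1 (isConj_involutions hS ht os)
    intro x
    have hx : g * (x : X) * g⁻¹ ∈ Subgroup.centralizer ({s} : Set X) := by
      rw [Subgroup.mem_centralizer_singleton_iff, ← hg]
      calc g * (x : X) * g⁻¹ * (g * t * g⁻¹) = g * ((x : X) * t) * g⁻¹ := by group
        _ = _ := by rw [Subgroup.mem_centralizer_singleton_iff.1 x.2]; group
    obtain ⟨k, hk⟩ := h2 s hs os ⟨_, hx⟩
    refine ⟨k, Subtype.ext ?_⟩
    have : (g * (x : X) * g⁻¹) ^ 2 ^ k = 1 := congrArg Subtype.val hk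
    rw [conj_pow, conj_eq_one_iff] at this
    simpa using this
  have hodd2 : ∀ (g : X), Odd (orderOf g) → ∀ t : X, orderOf t = 2 → g * t = t * g → g = 1 := by
    intro g hg t ht hgt
    obtain ⟨k, hk⟩ := IsPGroup.iff_orderOf.1 (hall t ht) ⟨g, Subgroup.mem_centralizer_singleton_iff.2 hgt⟩
    rw [← Subgroup.orderOf_coe] at hk
    rcases k with _ | k
    · exact orderOf_eq_one_iff.1 hk
    · rw [hk] at hg
      exact absurd hg (Nat.not_odd_iff_even.2 (Nat.even_pow.2 ⟨even_two, k.succ_ne_zero⟩))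
  -- an involution outside
  obtain ⟨g₀, hg₀⟩ : ∃ g, g ∉ S := by
    by_contra h; push Not at h; exact hS.1 ((Subgroup.eq_top_iff' S).2 h)
  set u := g₀⁻¹ * s * g₀
  have hu : orderOf u = 2 := by
    rw [← os, ← Cfsg.Agent.Invol.orderOf_conj_eq g₀⁻¹ s, inv_inv]
  have huS : u ∉ S := fun h => by
    have ho := hS.2.2 g₀ hg₀
    exact (Nat.not_odd_iff_even.2 (Cfsg.Agent.Invol.even_card_of_mem os (mem_inf_map_conj.2 ⟨hs, h⟩))) ho
  set D := S ⊓ S.map (MulAut.conj u).toMonoidHom
  have hDodd : Odd (Nat.card D) := hS.2.2 u huS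
  have huu : u⁻¹ = u := inv_eq_of_mul_eq_one_left (by rw [← pow_two, ← hu, pow_orderOf_eq_one])
  have hDu : ∀ d ∈ D, u * d * u⁻¹ ∈ D := by
    intro d hd
    obtain ⟨h1, h2'⟩ := mem_inf_map_conj.1 hd
    refine mem_inf_map_conj.2 ⟨?_, ?_⟩
    · rw [huu] at h2' ⊢; exact h2'
    · simpa [mul_assoc] using h1
  let φ : D →* D :=
    { toFun := fun d => ⟨u * d * u⁻¹, hDu d d.2⟩
      map_one' := Subtype.ext (by simp)
      map_mul' := fun a b => Subtype.ext (by simp [mul_assoc]) }
  have hDo : ∀ d : D, Odd (orderOf (d : X)) := fun d =>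
    Odd.of_dvd_nat hDodd (by rw [Subgroup.orderOf_coe]; exact orderOf_dvd_natCard d)
  have hfpf : MonoidHom.FixedPointFree φ := fun d hd => Subtype.ext <|
    hodd2 d (hDo d) u hu (by
      have e : u * (d : X) * u⁻¹ = d := congrArg Subtype.val hd
      conv_lhs => rw [← e]
      group)
  have hinvol : Function.Involutive φ := fun d => Subtype.ext (by
    show u * (u * (d : X) * u⁻¹) * u⁻¹ = d
    rw [huu]
    have h1 : u * u = 1 := by rw [← pow_two, ← hu, pow_orderOf_eq_one]
    calc u * (u * (d : X) * u) * u = (u * u) * (d : X) * (u * u) := by group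
      _ = d := by rw [h1, one_mul, mul_one])
  have hDab : ∀ a b : D, a * b = b * a := fun a b => (hfpf.commute_all_of_involutive hinvol a b).eq
  -- the factorisation
  set C := Subgroup.centralizer ({s} : Set X) ⊓ S
  have hfac : ∀ g : S, ∃ a ∈ D.subgroupOf S, ∃ b ∈ C.subgroupOf S, g = a * b := by
    intro g
    have ot : orderOf ((g : X) * s * (g : X)⁻¹) = 2 := by rw [Cfsg.Agent.Invol.orderOf_conj_eq, os]
    have hg : (g : X) ∈ S := g.2
    have htS : (g : X) * s * (g : X)⁻¹ ∈ S := S.mul_mem (S.mul_mem hg hs) (S.inv_mem hg)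
    obtain ⟨d, hd, hde⟩ := exists_conj_inf hS hu huS os hs ot htS
    have hdS : d ∈ S := (Subgroup.mem_inf.1 hd).1
    refine ⟨⟨d, hdS⟩, hd, ⟨d⁻¹ * g, S.mul_mem (S.inv_mem hdS) hg⟩, Subgroup.mem_subgroupOf.2 ⟨?_, S.mul_mem (S.inv_mem hdS) hg⟩,
      Subtype.ext (by simp)⟩
    refine Subgroup.mem_centralizer_singleton_iff.2 ?_
    show d⁻¹ * (g : X) * s = s * (d⁻¹ * g)
    calc d⁻¹ * (g : X) * s = d⁻¹ * ((g : X) * s * (g : X)⁻¹) * g := by group
      _ = _ := by rw [← hde]; group
  have hAn : Group.IsNilpotent (D.subgroupOf S) := by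
    have : ∀ a b : D.subgroupOf S, a * b = b * a := fun a b => by
      have := congrArg Subtype.val (hDab ⟨_, Subgroup.mem_subgroupOf.1 a.2⟩ ⟨_, Subgroup.mem_subgroupOf.1 b.2⟩)
      exact Subtype.ext (Subtype.ext (by simpa using this))
    exact @CommGroup.isNilpotent _ { (inferInstance : Group (D.subgroupOf S)) with mul_comm := this }
  have hBn : Group.IsNilpotent (C.subgroupOf S) := by
    refine IsPGroup.isNilpotent (p := 2) ?_
    intro x
    obtain ⟨k, hk⟩ := h2 s hs os ⟨((x : S) : X), (Subgroup.mem_inf.1 x.2).1⟩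
    exact ⟨k, Subtype.ext (Subtype.ext (by simpa using congrArg Subtype.val hk))⟩
  have hsol : Group.IsSolvable S := Cfsg.Agent.Grp.Wielandt.kegel hAn hBn hfac
  -- the last term of the derived series
  obtain ⟨n, hn⟩ := hsol.solvable
  obtain ⟨k, hk, hk1⟩ : ∃ k, derivedSeries S k ≠ ⊥ ∧ derivedSeries S (k + 1) = ⊥ := by
    by_contra h
    push Not at h
    have : ∀ k, derivedSeries S k ≠ ⊥ := fun k => by
      induction k with
      | zero =>
        rw [derivedSeries_zero]
        intro e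
        have : (⟨s, hs⟩ : S) ∈ (⊤ : Subgroup S) := trivial
        rw [e, Subgroup.mem_bot] at this
        have hs1 : s = 1 := congrArg Subtype.val this
        rw [hs1, orderOf_one] at os
        omega
      | succ k ih => exact h k ih
    exact this n hn
  set B := derivedSeries S k
  haveI : B.Normal := derivedSeries_normal S k
  have hab : ∀ a ∈ B, ∀ b ∈ B, a * b = b * a := by
    intro a ha b hb
    rw [derivedSeries_succ] at hk1
    have := Subgroup.commutator_mem_commutator ha hb
    rw [hk1, Subgroup.mem_bot] at this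
    exact commutatorElement_eq_one_iff_mul_comm.1 this
  -- odd elements of it are trivial
  have hinv : ∀ (t : X) (ht : t ∈ S), orderOf t = 2 → ∀ b ∈ B, Odd (orderOf b) → t * (b : X) * t⁻¹ = (b : X)⁻¹ := by
    intro t ht ot b hb hbo
    set b' : S := ⟨t, ht⟩ * b * ⟨t, ht⟩⁻¹
    have hb' : b' ∈ B := Subgroup.Normal.conj_mem inferInstance _ hb _
    have hc : Commute b b' := hab b hb b' hb'
    have hbo' : Odd (orderOf b') := by rwa [Cfsg.Agent.Invol.orderOf_conj_eq]
    have hprod : Odd (orderOf (b * b')) :=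
      Odd.of_dvd_nat (hbo.mul hbo') (hc.orderOf_mul_dvd_mul_orderOf)
    have htt : t * t = 1 := by rw [← pow_two, ← ot, pow_orderOf_eq_one]
    have hti : t⁻¹ = t := inv_eq_of_mul_eq_one_left htt
    have hone : ((b * b' : S) : X) = 1 := by
      refine hodd2 _ (by rw [Subgroup.orderOf_coe]; exact hprod) t ot ?_
      show (b : X) * (t * b * t⁻¹) * t = t * ((b : X) * (t * b * t⁻¹))
      calc (b : X) * (t * b * t⁻¹) * t = (b : X) * (t * b * t⁻¹) * t⁻¹ := by rw [hti]
        _ = _ := by
          have e : (b : X) * (t * b * t⁻¹) = t * b * t⁻¹ * b := congrArg Subtype.val hc.eq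
          rw [e, hti]
          calc t * (b : X) * t * b * t = (t * (b : X) * t * b) * t := rfl
            _ = t * ((b : X) * (t * b * t)) := by group
            _ = t * (t * b * t * b) := by rw [hti] at e; rw [e]
    exact eq_inv_of_mul_eq_one_right hone
  have h2B : ∀ b ∈ B, ∃ j, orderOf b = 2 ^ j := by
    intro b hb
    obtain ⟨j, m, hm, hbm⟩ : ∃ j m, Odd m ∧ orderOf b = 2 ^ j * m :=
      Nat.exists_eq_two_pow_mul_odd (orderOf_pos b).ne'
    refine ⟨j, ?_⟩
    set c := b ^ 2 ^ j
    have hc : c ∈ B := pow_mem hb _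
    have oc : orderOf c = m := by
      rw [orderOf_pow, hbm, Nat.gcd_eq_right (dvd_mul_right _ _), Nat.mul_div_cancel_left _ (by positivity)]
    have hco : Odd (orderOf c) := oc ▸ hm
    have osy : orderOf (s * y) = 2 := by
      refine orderOf_eq_prime ?_ fun e => hne ?_
      · rw [pow_two]
        calc s * y * (s * y) = s * (y * s) * y := by group
          _ = (s * s) * (y * y) := by rw [← hsy]; group
          _ = 1 := by rw [← pow_two, ← pow_two, ← os, pow_orderOf_eq_one, os, ← oy, pow_orderOf_eq_one, one_mul]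
      · rw [mul_eq_one_iff_eq_inv] at e
        rw [e]
        exact inv_eq_of_mul_eq_one_left (by rw [← pow_two, ← oy, pow_orderOf_eq_one])
    have e1 := hinv s hs os c hc hco
    have e2 := hinv y hy oy c hc hco
    have e3 := hinv (s * y) (mul_mem hs hy) osy c hc hco
    have e4 : s * y * (c : X) * (s * y)⁻¹ = (c : X) := by
      calc _ = s * (y * (c : X) * y⁻¹) * s⁻¹ := by group
        _ = s * (c : X)⁻¹ * s⁻¹ := by rw [e2]
        _ = (s * (c : X) * s⁻¹)⁻¹ := by group
        _ = (c : X) := by rw [e1, inv_inv]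
    have hsq : (c : X) * c = 1 := by
      nth_rewrite 1 [← e4]
      rw [e3, inv_mul_cancel]
    have : orderOf c ∣ 2 := orderOf_dvd_of_pow_eq_one (Subtype.ext (by rw [pow_two]; exact hsq))
    rw [oc] at this
    rcases (Nat.dvd_prime Nat.prime_two).1 this with h | h
    · rw [hbm, h, mul_one]
    · rw [h] at hm; exact absurd hm (by decide)
  -- all involutions lie in it
  obtain ⟨b, hb, hb1⟩ : ∃ b ∈ B, b ≠ 1 := by
    by_contra h; push Not at h; exact hk ((Subgroup.eq_bot_iff_forall B).2 h)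
  obtain ⟨j, hj⟩ := h2B b hb
  obtain ⟨j, rfl⟩ : ∃ i, j = i + 1 := ⟨j - 1, by
    have : j ≠ 0 := fun h => hb1 (orderOf_eq_one_iff.1 (by rw [hj, h, pow_zero]))
    omega⟩
  set i := b ^ 2 ^ j
  have oi : orderOf i = 2 := by
    rw [orderOf_pow, hj, Nat.gcd_eq_right (pow_dvd_pow 2 (by omega)), Nat.pow_div (by omega) (by omega)]
    simp
  have hmem : ∀ t (ht : t ∈ S), orderOf t = 2 → (⟨t, ht⟩ : S) ∈ B := by
    intro t ht ot
    obtain ⟨d, hd, hde⟩ := exists_conj_inf hS hu huS (by rwa [Subgroup.orderOf_coe]) i.2 ot ht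
    have e : (⟨d, (Subgroup.mem_inf.1 hd).1⟩ : S) * i * ⟨d, (Subgroup.mem_inf.1 hd).1⟩⁻¹ = ⟨t, ht⟩ := Subtype.ext hde
    rw [← e]
    exact Subgroup.Normal.conj_mem inferInstance _ (pow_mem hb _) _
  exact hpq (congrArg Subtype.val (hab _ (hmem p hp op) _ (hmem q hq oq)))

end Cfsg.Agent.Fus.Transv
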