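import Cfsg.Agent.Lib.Fus.Transv.Close
import Cfsg.Agent.Lib.Fus.Transv.SEContra

/-!
# The last subgroups: the quotient of the centralizer would have a strongly embedded subgroup
-/

set_option autoImplicit false
set_option maxRecDepth 100000

namespace Cfsg.Agent.Fus.Transv

open Cfsg.Agent.Spor.Cos (force force_eq)

/-- Every involution modulo the subgroup has a fused preimage. -/
noncomputable def coverOk (m : ℕ) (k : CNode) : Bool :=
  elems.all fun c => k.inV c || !(k.V.all fun v => commC c v) || !k.inV (mulC c c) ||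
    k.V.any fun v => inMask m (clsF (mulC c v))

/-- The data of a last subgroup. -/
structure ResidCert where
  /-- generators -/
  gV : List ℕ
  /-- for each element the word moving its product with the central involution -/
  tws : List (ℕ × List ℕ)
  /-- an involution modulo the subgroup -/
  y : ℕ
  /-- an involution modulo the subgroup -/
  p : ℕ
  /-- an involution modulo the subgroup, not commuting with the last one -/
  q : ℕ

/-- An involution modulo the subgroup, commuting with it. -/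
noncomputable def invModOk (n : CNode) (c : ℕ) : Bool :=
  inH c && !n.inV c && n.inV (mulC c c) && n.V.all fun v => commC c v

/-- The checks of a last subgroup. -/
noncomputable def residOk (m : ℕ) (ta tb : CTree) (n : CNode) (c : ResidCert) : Bool :=
  invModOk n c.y && invModOk n c.p && invModOk n c.q && !n.inV (mulC sC c.y) &&
    !(n.V.any fun v => Nat.beq (mulC c.p c.q) (mulC v (mulC c.q c.p))) &&
    (c.gV.all fun v => n.inV v) &&
    (elems.all fun g => !(n.V.all fun v => commC g v) || force (mulC g g) fun h => Nat.beq (mulC h h) oneC) &&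
    n.V.all fun v => Nat.beq v oneC || force (mulC sC v) fun p => !inMask m (clsF p) ||
      noConjOk ta tb c.gV [] ((⟨c.gV, sC, sC, c.tws, []⟩ : PairCert).tw v) sC p

namespace Emb

variable {G : Type*} [Group G] [Finite G] {z : G} {I : ℕ → G} {a b : G} {ta tb : CTree} {m : ℕ} {M : Subgroup G}
variable (E : Emb z I a b ta tb m M) {Ns : List CNode}
include E

/-- An element of `M` squaring into the subgroup has a fused translate. -/
theorem fused_translate (hN : NodesGood m Ns) {n : CNode} (hn : n ∈ Ns) (h3 : 2 < n.V.toFinset.card)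
    (hcov : ∀ k ∈ Ns, k.V.length ≤ 2 ∨ coverOk m k = true) {c : G} (hcM : c ∈ M)
    (hcV : ∀ v ∈ n.V, c * I v = I v * c) (hne : ∀ v ∈ n.V, c ≠ I v) (hsq : ∃ v ∈ n.V, c * c = I v) :
    ∃ v ∈ n.V, IsConj (c * I v) z := by
  classical
  obtain ⟨h1, -, hb⟩ := hN.base n hn
  have L := E.loc
  have hmem : ∀ v ∈ n.V, Mem v := fun v hv => (hb v hv).1
  -- the subgroup
  let V : Subgroup G :=
    { carrier := {x | ∃ v ∈ n.V, I v = x}
      one_mem' := ⟨oneC, h1, L.map_one⟩
      mul_mem' := by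
        rintro _ _ ⟨v, hv, rfl⟩ ⟨w, hw, rfl⟩
        exact ⟨_, ((hb v hv).2.2.2 w hw).1, L.hom _ _ (hmem v hv) (hmem w hw)⟩
      inv_mem' := by
        rintro _ ⟨v, hv, rfl⟩
        exact ⟨v, hv, (inv_eq_of_mul_eq_one_left (by rw [← L.hom _ _ (hmem v hv) (hmem v hv), (hb v hv).2.1, L.map_one])).symm⟩ }
  set U := Subgroup.closure {x | x ∈ c :: n.V.map I}
  have hVU : ∀ v ∈ n.V, I v ∈ U := fun v hv =>
    Subgroup.subset_closure (List.mem_cons_of_mem _ (List.mem_map_of_mem hv))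
  have hUM : U ≤ M := (Subgroup.closure_le M).2 fun x hx => by
    rcases List.mem_cons.1 hx with rfl | hx
    · exact hcM
    · obtain ⟨v, hv, rfl⟩ := List.mem_map.1 hx
      exact E.hC v (hmem v hv)
  have hab : ∀ x ∈ c :: n.V.map I, ∀ y ∈ c :: n.V.map I, x * y = y * x := by
    intro x hx y hy
    rcases List.mem_cons.1 hx with ex | hx' <;> rcases List.mem_cons.1 hy with ey | hy'
    · rw [ex, ey]
    · obtain ⟨v, hv, rfl⟩ := List.mem_map.1 hy'; rw [ex]; exact hcV v hv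
    · obtain ⟨v, hv, rfl⟩ := List.mem_map.1 hx'; rw [ey]; exact (hcV v hv).symm
    · obtain ⟨v, hv, rfl⟩ := List.mem_map.1 hx'
      obtain ⟨w, hw, rfl⟩ := List.mem_map.1 hy'
      rw [← L.hom _ _ (hmem v hv) (hmem w hw), ← L.hom _ _ (hmem w hw) (hmem v hv), ((hb v hv).2.2.2 w hw).2]
  have hUU : ∀ x ∈ U, ∀ y ∈ U, x * y = y * x := by
    have h₁ : U ≤ Subgroup.centralizer {x | x ∈ c :: n.V.map I} :=
      (Subgroup.closure_le _).2 fun x hx => Subgroup.mem_centralizer_iff.2 fun y hy => hab y hy x hx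
    intro x hx y hy
    have h₂ : U ≤ Subgroup.centralizer (U : Set G) :=
      (Subgroup.closure_le _).2 fun w hw => Subgroup.mem_centralizer_iff.2 fun u hu =>
        (Subgroup.mem_centralizer_iff.1 (h₁ hu) w hw).symm
    exact (Subgroup.mem_centralizer_iff.1 (h₂ hx) y hy).symm
  have h2 : IsPGroup 2 U := by
    obtain ⟨u, hu, hcu⟩ := hsq
    have hv4 : ∀ v ∈ n.V, I v * I v = 1 := fun v hv => by
      rw [← L.hom _ _ (hmem v hv) (hmem v hv), (hb v hv).2.1, L.map_one]
    have h4 : ∀ x ∈ U, x ^ 4 = 1 := by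
      intro x hx
      induction hx using Subgroup.closure_induction with
      | mem w hw =>
        rcases List.mem_cons.1 hw with rfl | hw
        · rw [show 4 = 2 + 2 from rfl, pow_add, pow_two, hcu, hv4 u hu]
        · obtain ⟨v, hv, rfl⟩ := List.mem_map.1 hw
          rw [show 4 = 2 + 2 from rfl, pow_add, pow_two, hv4 v hv, one_mul]
      | one => exact one_pow 4
      | mul u w hu hw iu iw => rw [(show Commute u w from hUU u hu w hw).mul_pow, iu, iw, one_mul]
      | inv u _ iu => rw [inv_pow, iu, inv_one]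
    exact fun x => ⟨2, Subtype.ext (by simpa using h4 x x.2)⟩
  obtain ⟨g, hg, hgz⟩ := E.two_into U hUM h2
  set cj : G →* G := (MulAut.conj g).toMonoidHom
  have hmap : ∀ x, cj x = g * x * g⁻¹ := fun x => rfl
  have hWeq : V.map cj = Subgroup.closure {x | x ∈ (n.V.map I).map cj} := by
    refine le_antisymm ?_ ((Subgroup.closure_le _).2 ?_)
    · rintro _ ⟨_, ⟨v, hv, rfl⟩, rfl⟩
      exact Subgroup.subset_closure (List.mem_map_of_mem (List.mem_map_of_mem hv))
    · intro x hx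
      obtain ⟨y, hy, rfl⟩ := List.mem_map.1 hx
      obtain ⟨v, hv, rfl⟩ := List.mem_map.1 hy
      exact ⟨_, ⟨v, hv, rfl⟩, rfl⟩
  have hpure : PureSub z (V.map cj) := by
    rintro _ ⟨_, ⟨v, hv, rfl⟩, rfl⟩
    refine ⟨by rw [← map_mul, ← L.hom _ _ (hmem v hv) (hmem v hv), (hb v hv).2.1, L.map_one, map_one], ?_, ?_⟩
    · rintro _ ⟨_, ⟨w, hw, rfl⟩, rfl⟩
      rw [← map_mul, hUU _ (hVU v hv) _ (hVU w hw), map_mul]
    · intro hne' hcz
      rw [hmap] at hne' hcz
      exact (unf_iff L E.hm (hmem v hv)).1 (hb v hv).2.2.1 (fun h => hne' (by rw [h]; group))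
        ((_root_.isConj_iff.2 ⟨g, rfl⟩ : IsConj (I v) _).trans hcz)
  have hbot : V.map cj ≠ ⊥ := by
    intro h
    have hall : ∀ v ∈ n.V, v = oneC := fun v hv => by
      have : cj (I v) ∈ V.map cj := Subgroup.mem_map_of_mem cj (show I v ∈ V from ⟨v, hv, rfl⟩)
      rw [h, Subgroup.mem_bot, hmap, conj_eq_one_iff] at this
      exact (L.eq_one_iff (hmem v hv)).1 this
    have : n.V.toFinset ⊆ {oneC} := fun v hv => Finset.mem_singleton.2 (hall v (List.mem_toFinset.1 hv))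
    have := Finset.card_le_card this
    simp at this
    omega
  obtain ⟨k, hk, h, hh, hiff⟩ := covered L E.hm hN _ hWeq (by
    rintro _ ⟨_, ⟨v, hv, rfl⟩, rfl⟩
    exact hgz _ (hVU v hv)) hpure hbot
  obtain ⟨-, -, hkb⟩ := hN.base k hk
  set t := I h * g
  have hto : ∀ v ∈ n.V, ∃ w ∈ k.V, I w = t * I v * t⁻¹ := fun v hv => by
    obtain ⟨w, hw, e⟩ := (hiff _).1 (Subgroup.mem_map_of_mem cj (show I v ∈ V from ⟨v, hv, rfl⟩))
    exact ⟨w, hw, by rw [e, hmap]; simp only [t]; group⟩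
  have hfrom : ∀ w ∈ k.V, ∃ v ∈ n.V, I w = t * I v * t⁻¹ := fun w hw => by
    obtain ⟨_, ⟨v, hv, rfl⟩, e⟩ := (hiff ((I h)⁻¹ * I w * I h)).2 ⟨w, hw, by group⟩
    rw [hmap] at e
    refine ⟨v, hv, ?_⟩
    calc I w = I h * ((I h)⁻¹ * I w * I h) * (I h)⁻¹ := by group
      _ = _ := by rw [← e]; simp only [t]; group
  have hcard : n.V.toFinset.card ≤ k.V.length := by
    refine le_trans ?_ ((Finset.card_image_le (f := fun w => t⁻¹ * I w * t) (s := k.V.toFinset)).trans
      (List.toFinset_card_le _))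
    refine Finset.card_le_card_of_injOn I (fun v hv => ?_) fun v hv w hw e =>
      L.inj v w (hmem v (List.mem_toFinset.1 hv)) (hmem w (List.mem_toFinset.1 hw)) e
    obtain ⟨w, hw, e⟩ := hto v (List.mem_toFinset.1 hv)
    exact Finset.mem_coe.2 (Finset.mem_image.2 ⟨w, List.mem_toFinset.2 hw, by rw [e]; group⟩)
  have hok := (hcov k hk).resolve_left (by omega)
  -- the moved element
  have hcU : c ∈ U := Subgroup.subset_closure (List.mem_cons_self ..)
  obtain ⟨e, he, hec⟩ := (L.range (t * c * t⁻¹)).1 (by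
    calc t * c * t⁻¹ * z = I h * (g * c * g⁻¹ * ((I h)⁻¹ * z * I h)) * (I h)⁻¹ := by simp only [t]; group
      _ = I h * (g * c * g⁻¹ * z) * (I h)⁻¹ := by rw [mul_assoc (I h)⁻¹, ← L.comm_z hh]; group
      _ = I h * (z * (g * c * g⁻¹)) * (I h)⁻¹ := by rw [hgz c hcU]
      _ = z * (t * c * t⁻¹) := by rw [← mul_assoc (I h) z, L.comm_z hh]; simp only [t]; group)
  have hnotin : e ∉ k.V := fun hin => by
    obtain ⟨v, hv, ev⟩ := hfrom e hin
    rw [hec, mul_left_inj, mul_right_inj] at ev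
    exact hne v hv ev
  have hcomm : ∀ w ∈ k.V, mulC e w = mulC w e := fun w hw => by
    obtain ⟨v, hv, ev⟩ := hfrom w hw
    refine (L.comm_iff he (hkb w hw).1).1 ?_
    rw [hec, ev]
    calc _ = t * (c * I v) * t⁻¹ := by group
      _ = _ := by rw [hcV v hv]; group
  have hsqin : mulC e e ∈ k.V := by
    obtain ⟨u, hu, hcu⟩ := hsq
    obtain ⟨w, hw, ew⟩ := hto u hu
    have : mulC e e = w := L.inj _ _ (he.mul he) (hkb w hw).1 (by
      rw [L.hom _ _ he he, hec, ew, ← hcu]; group)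
    rw [this]; exact hw
  have hh' := List.all_eq_true.1 hok e (mem_iff_elems.1 he)
  simp only [Bool.or_eq_true, Bool.not_eq_true', CNode.inV_iff, List.any_eq_true, commC] at hh'
  rcases hh' with ((h' | h') | h') | ⟨w, hw, hf⟩
  · exact absurd h' hnotin
  · obtain ⟨w, hw, h'⟩ := List.all_eq_false.1 h'
    exact absurd (hcomm w hw) (by simpa using h')
  · exact absurd (CNode.inV_iff.2 hsqin) (by simp [h'])
  · obtain ⟨v, hv, ev⟩ := hfrom w hw
    refine ⟨v, hv, ?_⟩
    have hz : IsConj (I (mulC e w)) z := (L.fused_mask E.hm (he.mul (hkb w hw).1)).1 hf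
    refine (_root_.isConj_iff.2 ⟨t, ?_⟩ : IsConj (c * I v) (I (mulC e w))).trans hz
    rw [L.hom _ _ he (hkb w hw).1, hec, ev]; group

/-- A last subgroup is good. -/
theorem good_of_resid (hN : NodesGood m Ns) {n : CNode} (hn : n ∈ Ns) (h3 : 2 < n.V.toFinset.card)
    (hcov : ∀ k ∈ Ns, k.V.length ≤ 2 ∨ coverOk m k = true) {c : ResidCert} (hok : residOk m ta tb n c = true) :
    GoodNode I M n := by
  intro g₀ hg₀
  by_contra hout
  obtain ⟨h1, -, hb⟩ := hN.base n hn
  have L := E.loc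
  have hmem : ∀ v ∈ n.V, Mem v := fun v hv => (hb v hv).1
  simp only [residOk, invModOk, force_eq, Bool.and_eq_true, List.all_eq_true, Bool.not_eq_true', Bool.or_eq_true,
    List.any_eq_false, CNode.inV_iff, commC, Nat.beq_eq] at hok
  obtain ⟨⟨⟨⟨⟨⟨⟨hy, hp⟩, hq⟩, hzy⟩, hpq⟩, hgV⟩, hexp⟩, hself⟩ := hok
  -- the centralizer of the subgroup and the subgroup inside it
  set X : Subgroup G := Subgroup.centralizer {x | ∃ v ∈ n.V, I v = x}
  have hX : ∀ x : G, x ∈ X ↔ ∀ v ∈ n.V, x * I v = I v * x := fun x =>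
    ⟨fun h v hv => (Subgroup.mem_centralizer_iff.1 h _ ⟨v, hv, rfl⟩).symm, fun h =>
      Subgroup.mem_centralizer_iff.2 fun _ ⟨v, hv, e⟩ => by rw [← e]; exact (h v hv).symm⟩
  have hVX : ∀ v ∈ n.V, I v ∈ X := fun v hv => (hX _).2 fun w hw => by
    rw [← L.hom _ _ (hmem v hv) (hmem w hw), ← L.hom _ _ (hmem w hw) (hmem v hv), ((hb v hv).2.2.2 w hw).2]
  let N : Subgroup X :=
    { carrier := {x | ∃ v ∈ n.V, I v = (x : G)}
      one_mem' := ⟨oneC, h1, L.map_one⟩
      mul_mem' := by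
        rintro x y ⟨v, hv, e⟩ ⟨w, hw, e'⟩
        exact ⟨_, ((hb v hv).2.2.2 w hw).1, by rw [L.hom _ _ (hmem v hv) (hmem w hw), e, e']; rfl⟩
      inv_mem' := by
        rintro x ⟨v, hv, e⟩
        refine ⟨v, hv, ?_⟩
        rw [Subgroup.coe_inv, ← e]
        exact (inv_eq_of_mul_eq_one_left (by
          rw [← L.hom _ _ (hmem v hv) (hmem v hv), (hb v hv).2.1, L.map_one])).symm }
  have hNc : ∀ x : X, ∀ k ∈ N, x * k = k * x := fun x k ⟨v, hv, e⟩ => Subtype.ext (by
    show (x : G) * (k : G) = (k : G) * (x : G)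
    rw [← e]; exact (hX x).1 x.2 v hv)
  haveI : N.Normal := ⟨fun k hk x => by rw [hNc x k hk, mul_inv_cancel_right]; exact hk⟩
  set π := QuotientGroup.mk' N
  have hπ : ∀ {x y : X}, π x = π y ↔ ∃ v ∈ n.V, (y : G) = (x : G) * I v := by
    intro x y
    rw [QuotientGroup.mk'_eq_mk']
    constructor
    · rintro ⟨k, ⟨v, hv, e⟩, rfl⟩; exact ⟨v, hv, by rw [e]; rfl⟩
    · rintro ⟨v, hv, e⟩; exact ⟨⟨I v, hVX v hv⟩, ⟨v, hv, rfl⟩, Subtype.ext e.symm⟩
  have hπ1 : ∀ {x : X}, π x = 1 ↔ ∃ v ∈ n.V, (x : G) = I v := by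
    intro x
    rw [QuotientGroup.mk'_apply, QuotientGroup.eq_one_iff]
    exact ⟨fun ⟨v, hv, e⟩ => ⟨v, hv, e.symm⟩, fun ⟨v, hv, e⟩ => ⟨v, hv, e.symm⟩⟩
  set S := (M.subgroupOf X).map π
  have hS : ∀ {x : X}, π x ∈ S ↔ (x : G) ∈ M := by
    intro x
    refine ⟨?_, fun h => ⟨x, h, rfl⟩⟩
    rintro ⟨y, hy, e⟩
    obtain ⟨v, hv, e'⟩ := hπ.1 e
    rw [e']; exact mul_mem hy (E.hC v (hmem v hv))
  have hne : S ≠ ⊤ := fun h => hout (hS.1 (show π ⟨g₀, (hX _).2 hg₀⟩ ∈ S from h ▸ trivial))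
  -- involutions from codes
  have hcode : ∀ e, Mem e → e ∉ n.V → mulC e e ∈ n.V → (∀ v ∈ n.V, mulC e v = mulC v e) →
      ∃ x : X, (x : G) = I e ∧ π x ∈ S ∧ orderOf (π x) = 2 := by
    intro e he hout' hsq hcm
    refine ⟨⟨I e, (hX _).2 fun v hv => (L.comm_iff he (hmem v hv)).2 (hcm v hv)⟩, rfl, hS.2 (E.hC e he), ?_⟩
    refine orderOf_eq_prime (hp := ⟨Nat.prime_two⟩) ?_ fun h => ?_
    · rw [pow_two, ← map_mul, hπ1]
      exact ⟨_, hsq, (L.hom _ _ he he).symm⟩
    · obtain ⟨v, hv, e'⟩ := hπ1.1 h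
      exact hout' (L.inj _ _ he (hmem v hv) e' ▸ hv)
  have hzV : ∀ v ∈ n.V, v ≠ sC := fun v hv e => by
    have := (unf_iff L E.hm (hmem v hv)).1 (hb v hv).2.2.1
    rw [e, L.map_s] at this
    exact this L.z_ne_one (IsConj.refl z)
  obtain ⟨xz, hxz, hzS, hzo⟩ := hcode sC mem_sC (fun h => hzV _ h rfl)
    (by rw [show mulC sC sC = oneC by decide +kernel]; exact h1) fun v hv => by
      refine L.inj _ _ (mem_sC.mul (hmem v hv)) ((hmem v hv).mul mem_sC) ?_
      rw [L.hom _ _ mem_sC (hmem v hv), L.hom _ _ (hmem v hv) mem_sC, L.map_s, L.comm_z (hmem v hv)]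
  rw [L.map_s] at hxz
  -- a fused preimage of an involution in the subgroup
  have hlift : ∀ t ∈ S, orderOf t = 2 → ∃ f : X, π f = t ∧ (f : G) ∈ M ∧ IsConj (f : G) z := by
    rintro _ ⟨x, hx, rfl⟩ ho
    have hxV : ∀ v ∈ n.V, (x : G) ≠ I v := fun v hv e => by
      rw [hπ1.2 ⟨v, hv, e⟩, orderOf_one] at ho
      omega
    have hsq : ∃ v ∈ n.V, (x : G) * x = I v :=
      hπ1.1 (show π (x * x) = 1 by rw [map_mul, ← pow_two, ← ho, pow_orderOf_eq_one])
    obtain ⟨v, hv, hf⟩ := E.fused_translate hN hn h3 hcov hx ((hX _).1 x.2) hxV hsq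
    exact ⟨x * ⟨I v, hVX v hv⟩, (hπ.2 ⟨v, hv, rfl⟩).symm, mul_mem hx (E.hC v (hmem v hv)), by simpa using hf⟩
  have hse : Cfsg.IsStronglyEmbedded S := by
    have hev : Even (Nat.card S) := by
      have : orderOf (⟨π xz, hzS⟩ : S) = 2 := by rw [← Subgroup.orderOf_coe]; exact hzo
      exact even_iff_two_dvd.2 (this ▸ orderOf_dvd_natCard _)
    refine (Cfsg.Agent.Invol.isStronglyEmbedded_iff hne hev).2 fun t ht ho g hg => ?_
    obtain ⟨f, rfl, hfM, hf⟩ := hlift t ht ho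
    obtain ⟨g, rfl⟩ := QuotientGroup.mk'_surjective N g
    rw [← map_inv, ← map_mul, ← map_mul] at hg
    have h : (g : G)⁻¹ * f * (g : G)⁻¹⁻¹ ∈ M := by rw [inv_inv]; exact hS.1 hg
    exact hS.2 (inv_mem_iff.1 (E.fus hfM hf h))
  -- the centralizer of the central involution
  have hz2 : ∀ x : X, π x * π xz = π xz * π x → π x ^ 2 ^ 2 = 1 := by
    intro x hx
    rw [← map_mul, ← map_mul, hπ] at hx
    obtain ⟨v, hv, e⟩ := hx
    have e' : (x : G)⁻¹ * z * x = z * I v := by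
      simp only [Subgroup.coe_mul, hxz] at e
      rw [mul_assoc, e, mul_assoc, inv_mul_cancel_left]
    have hv1 : v = oneC := by
      by_contra hne'
      have h' := (hself v hv).resolve_left hne'
      have hp' : Mem (mulC sC v) := mem_sC.mul (hmem v hv)
      have hI : I (mulC sC v) = (x : G)⁻¹ * z * x := by rw [L.hom _ _ mem_sC (hmem v hv), L.map_s, e']
      have hfz : IsConj (I (mulC sC v)) z := by
        rw [hI]; exact _root_.isConj_iff.2 ⟨x, by group⟩
      have h'' := h'.resolve_left (by rw [(L.fused_mask E.hm hp').2 hfz]; simp)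
      refine E.no_conj (fun w hw => hmem w (hgV w hw)) h'' (g := (x : G)⁻¹) (by rw [inv_inv, L.map_s, hI]) fun w hw => ?_
      exact (((show Commute (x : G) (I w) from (hX x).1 x.2 w (hgV w hw))).inv_left).eq
    rw [hv1, L.map_one, mul_one] at e'
    obtain ⟨k, hk, hkx⟩ := (L.range _).1 (show (x : G) * z = z * x by
      conv_lhs => rw [← e']
      group)
    have hk4 := (hexp k (mem_iff_elems.1 hk)).resolve_left (by
      simp only [Bool.not_eq_true', List.all_eq_false]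
      push Not
      intro v hv
      simpa using (L.comm_iff hk (hmem v hv)).1 (by rw [hkx]; exact (hX x).1 x.2 v hv))
    rw [← map_pow, hπ1]
    refine ⟨oneC, h1, ?_⟩
    rw [Subgroup.coe_pow, ← hkx, show 2 ^ 2 = 2 + 2 from rfl, pow_add, pow_two, ← L.hom _ _ hk hk,
      ← L.hom _ _ (hk.mul hk) (hk.mul hk), hk4]
  have h2 : ∀ t ∈ S, orderOf t = 2 → IsPGroup 2 (Subgroup.centralizer ({t} : Set (X ⧸ N))) := by
    intro t ht ho q
    obtain ⟨g, hg⟩ := _root_.isConj_iff.1 (Cfsg.Agent.Invol.isConj_involutions hse ho hzo)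
    obtain ⟨x, hx⟩ := QuotientGroup.mk'_surjective N (g * (q : X ⧸ N) * g⁻¹)
    refine ⟨2, Subtype.ext ?_⟩
    have h4 := hz2 x (by
      rw [hx, ← hg]
      calc g * (q : X ⧸ N) * g⁻¹ * (g * t * g⁻¹) = g * ((q : X ⧸ N) * t) * g⁻¹ := by group
        _ = _ := by rw [Subgroup.mem_centralizer_singleton_iff.1 q.2]; group)
    rw [hx, conj_pow, conj_eq_one_iff] at h4
    simpa using h4
  obtain ⟨xy, hxy, hyS, hyo⟩ := hcode c.y hy.1.1.1 (fun h => absurd (CNode.inV_iff.2 h) (by simp [hy.1.1.2])) hy.1.2 hy.2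
  obtain ⟨xp, hxp, hpS, hpo⟩ := hcode c.p hp.1.1.1 (fun h => absurd (CNode.inV_iff.2 h) (by simp [hp.1.1.2])) hp.1.2 hp.2
  obtain ⟨xq, hxq, hqS, hqo⟩ := hcode c.q hq.1.1.1 (fun h => absurd (CNode.inV_iff.2 h) (by simp [hq.1.1.2])) hq.1.2 hq.2
  replace hy : Mem c.y := hy.1.1.1
  replace hp : Mem c.p := hp.1.1.1
  replace hq : Mem c.q := hq.1.1.1
  refine se_contra hse h2 hzS hyS hpS hqS hzo hyo hpo hqo ?_ ?_ ?_
  · rw [← map_mul, ← map_mul]
    congr 1
    exact Subtype.ext (by simp only [Subgroup.coe_mul, hxz, hxy]; exact (L.comm_z hy).symm)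
  · intro h
    obtain ⟨v, hv, e⟩ := hπ.1 h
    rw [hxy, hxz] at e
    have hin : mulC sC c.y ∈ n.V := by
      have : mulC sC c.y = v := L.inj _ _ (mem_sC.mul hy) (hmem v hv) (by
        rw [L.hom _ _ mem_sC hy, L.map_s, e, ← mul_assoc, L.mul_self_z, one_mul])
      rw [this]; exact hv
    exact absurd (CNode.inV_iff.2 hin) (by simpa using hzy)
  · intro h
    rw [← map_mul, ← map_mul, eq_comm, hπ] at h
    obtain ⟨v, hv, e⟩ := h
    simp only [Subgroup.coe_mul, hxp, hxq] at e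
    have e2 : mulC c.p c.q = mulC v (mulC c.q c.p) := L.inj _ _ (hp.mul hq) ((hmem v hv).mul (hq.mul hp)) (by
      rw [L.hom _ _ hp hq, L.hom _ _ (hmem v hv) (hq.mul hp), L.hom _ _ hq hp, e]
      exact (hX (I c.q * I c.p)).1 (by rw [← hxp, ← hxq]; exact mul_mem xq.2 xp.2) v hv)
    simpa [e2] using hpq v hv

end Emb

end Cfsg.Agent.Fus.Transv
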