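import Cfsg.Agent.Lib.Fus.Transv.Resid

/-! Generated data for the centralizer of a transvection. -/

set_option autoImplicit false
set_option maxRecDepth 100000

namespace Cfsg.Agent.Fus.Transv

/-- The data of a last subgroup. -/
def resid2 : ResidCert :=
  ⟨[17051715, 17053769],
   [(17043521, []),
    (17051715, [4, 2, 3, 2, 0, 3, 0, 5]),
    (17053769, [4, 2, 3, 2, 0, 3, 0, 5, 0, 2, 0, 1, 2, 0, 2, 1, 3])],
   17043529, 17043537, 19140673⟩

/-- The data of a last subgroup. -/
def resid3 : ResidCert :=
  ⟨[17109061, 17045577],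
   [(17043521, [])],
   17043537, 17043537, 19140673⟩

end Cfsg.Agent.Fus.Transv
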