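import Cfsg.Agent.Lib.Fus.Transv.STCheck
import Cfsg.Agent.Lib.Grp.Cores
import Cfsg.Prelude.Def_TwoFusion
import Cfsg.Prelude.Def_PLocal

/-!
# The pattern in which only one class is fused: the translations
-/

set_option autoImplicit false
set_option maxRecDepth 100000

namespace Cfsg.Agent.Fus.Transv

open scoped Pointwise

theorem eC_mem {k : ℕ} (hk : k < 16) : Mem (eC k) := by
  have := List.all_eq_true.1 eC_ok k (List.mem_range.2 hk)
  simp only [Bool.and_eq_true] at this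
  exact this.1.1.1

theorem eC_mul {j k : ℕ} (hj : j < 16) (hk : k < 16) : mulC (eC j) (eC k) = eC (j ^^^ k) := by
  have := List.all_eq_true.1 eC_ok j (List.mem_range.2 hj)
  simp only [Bool.and_eq_true, Nat.beq_eq] at this
  exact Nat.eq_of_beq_eq_true (List.all_eq_true.1 this.2 k (List.mem_range.2 hk))

theorem eC_inj {j k : ℕ} (hj : j < 16) (hk : k < 16) (h : eC j = eC k) : j = k := by
  have h1 := List.all_eq_true.1 eC_ok j (List.mem_range.2 hj)
  have h2 := List.all_eq_true.1 eC_ok k (List.mem_range.2 hk)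
  simp only [Bool.and_eq_true, Nat.beq_eq] at h1 h2
  rw [← h1.1.2, h, h2.1.2]

theorem inE_iff {c : ℕ} : inE c = true ↔ ∃ k < 16, eC k = c := by
  constructor
  · intro h
    exact ⟨row c 0 / 2, by have := row_lt c 0; omega, (Nat.eq_of_beq_eq_true h).symm⟩
  · rintro ⟨k, hk, rfl⟩
    have := List.all_eq_true.1 eC_ok k (List.mem_range.2 hk)
    simp only [Bool.and_eq_true] at this
    exact this.1.1.2

theorem xor_lt16 {j k : ℕ} (hj : j < 16) (hk : k < 16) : j ^^^ k < 16 := Nat.xor_lt_two_pow (n := 4) hj hk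

/-- Only the first class is fused. -/
def OneClass {G : Type*} [Group G] (z : G) (I : ℕ → G) : Prop :=
  ∀ i < 8, inMask 2 i = true ↔ IsConj (I (repC i)) z

/-- The subgroup of translations. -/
def EG {G : Type*} [Group G] {z : G} {I : ℕ → G} (L : Loc z I) : Subgroup G where
  carrier := {x | ∃ k < 16, I (eC k) = x}
  one_mem' := ⟨0, by norm_num, by rw [eC_zero, L.map_one]⟩
  mul_mem' := by
    rintro _ _ ⟨j, hj, rfl⟩ ⟨k, hk, rfl⟩
    exact ⟨j ^^^ k, xor_lt16 hj hk, by rw [← eC_mul hj hk, L.hom _ _ (eC_mem hj) (eC_mem hk)]⟩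
  inv_mem' := by
    rintro _ ⟨j, hj, rfl⟩
    refine ⟨j, hj, eq_inv_of_mul_eq_one_left ?_⟩
    rw [← L.hom _ _ (eC_mem hj) (eC_mem hj), eC_mul hj hj, Nat.xor_self, eC_zero, L.map_one]

namespace Loc

variable {G : Type*} [Group G] {z : G} {I : ℕ → G} (L : Loc z I)
include L

theorem mem_EG {x : G} : x ∈ EG L ↔ ∃ k < 16, I (eC k) = x := Iff.rfl

theorem code_EG {c : ℕ} (hc : Mem c) : I c ∈ EG L ↔ inE c = true := by
  rw [inE_iff]
  exact ⟨fun ⟨k, hk, e⟩ => ⟨k, hk, L.inj _ _ (eC_mem hk) hc e⟩, fun ⟨k, hk, e⟩ => ⟨k, hk, by rw [e]⟩⟩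

theorem EG_sq {x : G} (hx : x ∈ EG L) : x * x = 1 := by
  obtain ⟨k, hk, rfl⟩ := hx
  rw [← L.hom _ _ (eC_mem hk) (eC_mem hk), eC_mul hk hk, Nat.xor_self, eC_zero, L.map_one]

theorem EG_comm {x y : G} (hx : x ∈ EG L) (hy : y ∈ EG L) : x * y = y * x := by
  obtain ⟨j, hj, rfl⟩ := hx
  obtain ⟨k, hk, rfl⟩ := hy
  rw [← L.hom _ _ (eC_mem hj) (eC_mem hk), ← L.hom _ _ (eC_mem hk) (eC_mem hj), eC_mul hj hk, eC_mul hk hj,
    Nat.xor_comm]

theorem z_EG : z ∈ EG L := ⟨1, by norm_num, by rw [eC_one, L.map_s]⟩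

theorem EG_le : EG L ≤ Subgroup.centralizer ({z} : Set G) := fun _ hx =>
  Subgroup.mem_centralizer_singleton_iff.2 (L.EG_comm hx L.z_EG)

theorem card_EG : Nat.card (EG L) = 16 := by
  let f : Fin 16 → EG L := fun k => ⟨I (eC k), k, k.2, rfl⟩
  have hf : Function.Bijective f := by
    refine ⟨fun j k h => Fin.ext (eC_inj j.2 k.2 (L.inj _ _ (eC_mem j.2) (eC_mem k.2) (congrArg Subtype.val h))),
      fun x => ?_⟩
    obtain ⟨k, hk, e⟩ := x.2
    exact ⟨⟨k, hk⟩, Subtype.ext e⟩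
  rw [← Nat.card_congr (Equiv.ofBijective f hf), Nat.card_fin]

/-- An element centralising the translations is one. -/
theorem cent_EG {x : G} (hx : ∀ y ∈ EG L, x * y = y * x) : x ∈ EG L := by
  obtain ⟨c, hc, rfl⟩ := (L.range _).1 (hx z L.z_EG)
  refine (L.code_EG hc).2 (List.all_eq_true.1 cent_E c (List.mem_filter.2 ⟨mem_iff_elems.1 hc,
    List.all_eq_true.2 fun j hj => ?_⟩))
  simp only [commC, Nat.beq_eq]
  exact (L.comm_iff hc (eC_mem (List.mem_range.1 hj))).1 (hx _ ⟨j, List.mem_range.1 hj, rfl⟩)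

variable (hF : OneClass z I)
include hF

theorem fused_iff {c : ℕ} (hc : Mem c) : IsConj (I c) z ↔ inE c = true ∧ c ≠ oneC := by
  rw [L.fused_cls hc]
  constructor
  · rintro ⟨hlt, h⟩
    have h01 : clsOf c = 0 ∨ clsOf c = 1 := by
      have h' := (hF _ hlt).2 h
      revert h'
      generalize clsOf c = i at hlt ⊢
      interval_cases i <;> simp [inMask, Nat.testBit]
    obtain ⟨-, h1, h2⟩ := clsOf_none hlt
    obtain ⟨e, he, rfl⟩ := mem_invTab hc h1 h2
    have hE := List.all_eq_true.1 inE_cls e he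
    have hv := List.all_eq_true.1 invTab_ok e he
    simp only [Bool.and_eq_true, Nat.beq_eq] at hv
    rw [beq_iff_eq] at hE
    rw [hE, ← hv.2]
    exact ⟨by rcases h01 with h | h <;> simp [h], h2⟩
  · rintro ⟨hE, hne⟩
    obtain ⟨k, hk, rfl⟩ := inE_iff.1 hE
    have := List.all_eq_true.1 eC_cls k (List.mem_range.2 hk)
    simp only [Bool.or_eq_true, Nat.beq_eq, Nat.blt_eq] at this
    rcases this with h | h
    · exact absurd (h ▸ eC_zero) hne
    · refine ⟨by omega, (hF _ (by omega)).1 ?_⟩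
      rcases (show clsOf (eC k) = 0 ∨ clsOf (eC k) = 1 by omega) with h' | h' <;> rw [h'] <;> rfl

theorem conj_mem_EG {x : G} (hz : x * z = z * x) (hx : IsConj x z) : x ∈ EG L := by
  obtain ⟨c, hc, rfl⟩ := (L.range _).1 hz
  exact (L.code_EG hc).2 ((L.fused_iff hF hc).1 hx).1

theorem EG_conj {x : G} (hx : x ∈ EG L) (h1 : x ≠ 1) : IsConj x z := by
  obtain ⟨k, hk, rfl⟩ := hx
  refine (L.fused_iff hF (eC_mem hk)).2 ⟨inE_iff.2 ⟨k, hk, rfl⟩, fun e => h1 ?_⟩
  rw [e, L.map_one]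

theorem conj_H {h x : G} (hh : h * z = z * h) (hx : x ∈ EG L) : h * x * h⁻¹ ∈ EG L := by
  rcases eq_or_ne x 1 with rfl | hx1
  · simp [Subgroup.one_mem]
  refine L.conj_mem_EG hF ?_ ((isConj_iff.2 ⟨h, rfl⟩ : IsConj x (h * x * h⁻¹)).symm.trans (L.EG_conj hF hx hx1))
  have hxz := L.EG_comm hx L.z_EG
  exact ((show Commute h z from hh).mul_left hxz |>.mul_left (show Commute h z from hh).inv_left).eq

theorem exists_mover : ∀ x ∈ EG L, x ≠ 1 → ∃ g : G, g * x * g⁻¹ = z ∧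
    ∀ y, y ∈ EG L ↔ g * y * g⁻¹ ∈ EG L := by
  classical
  intro x hx hx1
  obtain ⟨g, hg⟩ := isConj_iff.1 (L.EG_conj hF hx hx1)
  refine ⟨g, hg, ?_⟩
  have hfw : ∀ y ∈ EG L, g * y * g⁻¹ ∈ EG L := by
    intro y hy
    rcases eq_or_ne y 1 with rfl | hy1
    · simp [Subgroup.one_mem]
    refine L.conj_mem_EG hF ?_ ((isConj_iff.2 ⟨g, rfl⟩ : IsConj y (g * y * g⁻¹)).symm.trans (L.EG_conj hF hy hy1))
    rw [← hg]
    calc g * y * g⁻¹ * (g * x * g⁻¹) = g * (y * x) * g⁻¹ := by group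
      _ = g * (x * y) * g⁻¹ := by rw [L.EG_comm hy hx]
      _ = g * x * g⁻¹ * (g * y * g⁻¹) := by group
  haveI : Finite (EG L) := Nat.finite_of_card_ne_zero (by rw [L.card_EG]; norm_num)
  let f : EG L → EG L := fun y => ⟨g * y * g⁻¹, hfw y y.2⟩
  have hsur : Function.Surjective f := Finite.injective_iff_surjective.1 fun a b h =>
    Subtype.ext (mul_left_cancel (mul_right_cancel (congrArg Subtype.val h :)))
  refine fun y => ⟨hfw y, fun h => ?_⟩
  obtain ⟨w, hw⟩ := hsur ⟨_, h⟩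
  rw [← mul_left_cancel (mul_right_cancel (congrArg Subtype.val hw :))]
  exact w.2

/-- Commuting conjugates of `z` generate nothing new. -/
theorem conj_closed {x y : G} (hx : x ∈ EG L) (hx1 : x ≠ 1) (hy : IsConj y z) (h : y * x = x * y) :
    y ∈ EG L := by
  obtain ⟨g, hg, hiff⟩ := L.exists_mover hF x hx hx1
  refine (hiff y).2 (L.conj_mem_EG hF ?_ ((isConj_iff.2 ⟨g, rfl⟩ : IsConj y (g * y * g⁻¹)).symm.trans hy))
  rw [← hg]
  calc g * y * g⁻¹ * (g * x * g⁻¹) = g * (y * x) * g⁻¹ := by group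
    _ = g * (x * y) * g⁻¹ := by rw [h]
    _ = g * x * g⁻¹ * (g * y * g⁻¹) := by group

theorem strongly_closed {S : Subgroup G} (hES : EG L ≤ S) (hS : S ≤ Subgroup.centralizer ({z} : Set G)) :
    Cfsg.IsStronglyClosed (EG L) S := by
  refine ⟨hES, fun x hx g hg => ?_⟩
  rcases eq_or_ne x 1 with rfl | hx1
  · simp [Subgroup.one_mem]
  exact L.conj_mem_EG hF (Subgroup.mem_centralizer_singleton_iff.1 (hS hg))
    ((isConj_iff.2 ⟨g, rfl⟩ : IsConj x (g * x * g⁻¹)).symm.trans (L.EG_conj hF hx hx1))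

/-- Odd normal subgroups are trivial. -/
theorem odd_normal_eq_bot [Finite G] {N : Subgroup G} (hN : N.Normal) (hodd : Odd (Nat.card N)) : N = ⊥ := by
  have hNE : ∀ x ∈ N, x ∈ EG L → x = 1 := fun x hx hxE => by
    have h2 := L.EG_sq hxE
    have hd : orderOf x ∣ 2 := orderOf_dvd_of_pow_eq_one (by rw [pow_two]; exact h2)
    have hd2 : orderOf x ∣ Nat.card N := by rw [← Subgroup.orderOf_mk x hx]; exact orderOf_dvd_natCard _
    rcases (Nat.dvd_prime Nat.prime_two).1 hd with h | h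
    · exact orderOf_eq_one_iff.1 h
    · exact absurd (even_iff_two_dvd.2 (h ▸ hd2)) (Nat.not_even_iff_odd.2 hodd)
  have hcz : ∀ x ∈ N, x * z = z * x → x = 1 := by
    intro x hx hxz
    refine hNE x hx (L.cent_EG fun y hy => ?_)
    have h1 : x * y * x⁻¹ * y⁻¹ ∈ N := by
      have := N.mul_mem hx (hN.conj_mem _ (N.inv_mem hx) y)
      simpa only [mul_assoc] using this
    have h2 : x * y * x⁻¹ * y⁻¹ ∈ EG L := mul_mem (L.conj_H hF hxz hy) (inv_mem hy)
    exact mul_inv_eq_iff_eq_mul.1 (mul_inv_eq_one.1 (hNE _ h1 h2))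
  have hfix : ∀ u ∈ EG L, u ≠ 1 → ∀ x ∈ N, x * u = u * x → x = 1 := by
    intro u hu hu1 x hx hxu
    obtain ⟨g, hg, -⟩ := L.exists_mover hF u hu hu1
    have h := hcz _ (hN.conj_mem x hx g) (by
      rw [← hg]
      calc g * x * g⁻¹ * (g * u * g⁻¹) = g * (x * u) * g⁻¹ := by group
        _ = g * (u * x) * g⁻¹ := by rw [hxu]
        _ = g * u * g⁻¹ * (g * x * g⁻¹) := by group)
    exact conj_eq_one_iff.1 h
  have hinv : ∀ u ∈ EG L, u ≠ 1 → ∀ x ∈ N, u * x * u⁻¹ = x⁻¹ := by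
    intro u hu hu1 x hx
    let f : N → N := fun n => ⟨(n : G)⁻¹ * (u * n * u⁻¹), mul_mem (inv_mem n.2) (hN.conj_mem _ n.2 u)⟩
    have hf : Function.Injective f := by
      intro p q e
      have e' : (p : G)⁻¹ * (u * p * u⁻¹) = (q : G)⁻¹ * (u * q * u⁻¹) := congrArg Subtype.val e
      refine Subtype.ext (mul_inv_eq_one.1 (hfix u hu hu1 _ (mul_mem q.2 (inv_mem p.2)) ?_)).symm
      calc (q : G) * (p : G)⁻¹ * u = (q : G) * ((p : G)⁻¹ * (u * p * u⁻¹)) * u * (p : G)⁻¹ := by group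
        _ = (q : G) * ((q : G)⁻¹ * (u * q * u⁻¹)) * u * (p : G)⁻¹ := by rw [e']
        _ = u * ((q : G) * (p : G)⁻¹) := by group
    obtain ⟨⟨n, hn⟩, hnm⟩ := (Finite.injective_iff_surjective.1 hf) ⟨x, hx⟩
    have hnm' : n⁻¹ * (u * n * u⁻¹) = x := congrArg Subtype.val hnm
    have huu := L.EG_sq hu
    rw [← hnm', inv_eq_of_mul_eq_one_right huu]
    calc u * (n⁻¹ * (u * n * u)) * u = u * n⁻¹ * u * n * (u * u) := by group
      _ = (n⁻¹ * (u * n * u))⁻¹ := by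
        rw [huu, mul_one, mul_inv_rev, mul_inv_rev, mul_inv_rev, inv_inv, inv_eq_of_mul_eq_one_right huu]
        group
  rw [Subgroup.eq_bot_iff_forall]
  intro x hx
  have hr : I (eC 2) ∈ EG L := ⟨2, by norm_num, rfl⟩
  have hne : ∀ k, k < 16 → k ≠ 0 → I (eC k) ≠ 1 := fun k hk hk0 e => by
    rw [← L.map_one, ← eC_zero] at e
    exact hk0 (eC_inj hk (by norm_num) (L.inj _ _ (eC_mem hk) (eC_mem (by norm_num)) e))
  have hzr : z * I (eC 2) = I (eC 3) := by
    rw [← L.map_s, ← eC_one, ← L.hom _ _ (eC_mem (by norm_num)) (eC_mem (by norm_num)),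
      eC_mul (by norm_num) (by norm_num)]
    rfl
  refine hfix (I (eC 3)) ⟨3, by norm_num, rfl⟩ (hne 3 (by norm_num) (by norm_num)) x hx ?_
  have h1 := hinv _ hr (hne 2 (by norm_num) (by norm_num)) x hx
  have h2 := hinv z L.z_EG L.z_ne_one _ (inv_mem hx)
  rw [inv_inv, ← h1] at h2
  rw [← hzr]
  calc x * (z * I (eC 2)) = z * (I (eC 2) * x * (I (eC 2))⁻¹) * z⁻¹ * (z * I (eC 2)) := by rw [h2]
    _ = z * I (eC 2) * x := by group

end Loc

end Cfsg.Agent.Fus.Transv
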