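import Cfsg.Agent.Lib.Fus.Transv.Psi

/-!
# Facts about the elementary group of order sixteen
-/

set_option autoImplicit false
set_option maxRecDepth 100000

namespace Cfsg.Agent.Fus.Transv

/-- The translations. -/
def eC (k : ℕ) : ℕ := pk5 (1 + 2 * k) 2 4 8 16

/-- Being a translation. -/
def inE (c : ℕ) : Bool := Nat.beq c (eC (row c 0 / 2))

/-- The kernel of the action on the two natural modules. -/
def inQ (c : ℕ) : Bool := Nat.beq (row c 2 / 4) 1 && Nat.beq (row c 3 / 4) 2 && Nat.beq (row c 4 / 4) 4

/-- Test elements of that kernel. -/
def qTest : List ℕ := [mkC 0 0 1 273, mkC 0 0 2 273, mkC 0 0 4 273]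

theorem eC_ok : ((List.range 16).all fun j => inH (eC j) && inE (eC j) && Nat.beq (row (eC j) 0 / 2) j &&
    (List.range 16).all fun k => Nat.beq (mulC (eC j) (eC k)) (eC (Nat.xor j k))) = true := by decide +kernel

theorem eC_zero : eC 0 = oneC := by decide +kernel

theorem eC_one : eC 1 = sC := by decide +kernel

theorem inE_cls : (invTab.all fun e => inE e.1 == (Nat.beq e.2.1 0 || Nat.beq e.2.1 1)) = true := by decide +kernel

theorem eC_cls : ((List.range 16).all fun j => Nat.beq j 0 || Nat.blt (clsOf (eC j)) 2) = true := by decide +kernel

theorem cent_E : ((elems.filter fun c => (List.range 16).all fun j => commC c (eC j)).all inE) = true := by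
  decide +kernel

theorem norm_E : (gensH.all fun g => (List.range 16).all fun j => inE (cjC g (eC j))) = true := by decide +kernel

theorem split_E : (elems.all fun c => Nat.beq (row (mulC c (eC (row c 0 / 2))) 0) 1) = true := by decide +kernel

theorem qTest_ok : (qTest.all fun q => inH q && inQ q) = true := by decide +kernel

/-- The commutator with a test element. -/
def comQ (h q : ℕ) : ℕ := mulC (cjC h q) q

theorem lift_Q : (elems.all fun h => inQ h || qTest.any fun q =>
    Cfsg.Agent.Spor.Cos.force (comQ h q) fun y => inQ y && !inE y) = true := by decide +kernel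

theorem coset_Q : ((elems.filter fun h => inQ h && !inE h).all fun h => (List.range 16).any fun k =>
    Cfsg.Agent.Spor.Cos.force (mulC h (eC k)) fun x => isInv x && !inE x) = true := by decide +kernel

theorem orbit_E : ((List.range 16).all fun k => Nat.ble k 1 || (invTab.any fun e =>
    Nat.beq e.1 (eC k) && Nat.beq e.2.1 1)) = true := by decide +kernel

end Cfsg.Agent.Fus.Transv
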