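import Cfsg.Agent.Lib.Fus.Transv.Sylow
import Cfsg.Agent.S2775
import Cfsg.Agent.Lib.Invol.BrauerSuzuki

/-!
# The translations are normal
-/

set_option autoImplicit false
set_option linter.style.haveILetI false
set_option linter.unusedSectionVars false
set_option maxRecDepth 100000

namespace Cfsg.Agent.Fus.Transv

theorem qTest_sq : (qTest.all fun q => Nat.beq (mulC q q) oneC) = true := by decide +kernel

namespace Loc

variable {G : Type*} [Group G] {z : G} {I : ℕ → G} (L : Loc z I) (hF : OneClass z I)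
include L hF

theorem H_trans {x : G} (hx : x ∈ EG L) (h1 : x ≠ 1) (hz : x ≠ z) :
    ∃ h : G, h * z = z * h ∧ h * I (repC 1) * h⁻¹ = x := by
  obtain ⟨k, hk, rfl⟩ := hx
  have := List.all_eq_true.1 orbit_E k (List.mem_range.2 hk)
  simp only [Bool.or_eq_true, Nat.ble_eq, List.any_eq_true, Bool.and_eq_true, Nat.beq_eq] at this
  rcases this with h | ⟨e, he, he1, he2⟩
  · rcases Nat.eq_zero_or_pos k with rfl | hk0
    · exact absurd (by rw [eC_zero, L.map_one]) h1
    · obtain rfl : k = 1 := by omega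
      exact absurd (by rw [eC_one, L.map_s]) hz
  · have hok := List.all_eq_true.1 invTab_ok e he
    simp only [Bool.and_eq_true, Nat.beq_eq] at hok
    obtain ⟨⟨⟨hm, -⟩, hc⟩, -⟩ := hok
    rw [he2, he1] at hc
    exact ⟨I e.2.2, L.comm_z hm, by rw [← L.map_cj hm (Mem.rep 1), hc]⟩

/-- The translations form a normal subgroup. -/
theorem EG_normal [Finite G] : (EG L).Normal := by
  classical
  haveI : Fact (Nat.Prime 2) := ⟨Nat.prime_two⟩
  obtain ⟨S, hQS, hSC⟩ := L.exists_sylow
  set K := Subgroup.normalClosure (EG L : Set G) with hK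
  haveI hKn : K.Normal := Subgroup.normalClosure_normal
  have hEK : EG L ≤ K := Subgroup.le_normalClosure
  have hO : Cfsg.pPrimeCore 2 K = ⊥ := by
    haveI : (Cfsg.pPrimeCore 2 K).Characteristic := Grp.instCharPPrimeCore
    have h := L.odd_normal_eq_bot hF (N := (Cfsg.pPrimeCore 2 K).map K.subtype) inferInstance (by
      rw [Subgroup.card_map_of_injective K.subtype_injective]
      exact BS.odd_iff_coprime_two.2 Grp.pPrimeCore_coprime)
    exact (Subgroup.map_eq_bot_iff_of_injective _ K.subtype_injective).1 h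
  have hA : IsMulCommutative (EG L) := ⟨⟨fun a b => Subtype.ext (L.EG_comm a.2 b.2)⟩⟩
  obtain ⟨-, -, ⟨T, hAT, hTA⟩, -⟩ := Cfsg.Agent.S2775.result S (EG L) hA
    (L.strongly_closed hF ((L.EG_le_QG).trans hQS) hSC) K rfl K (MonoidHom.id K) (fun x => ⟨x, rfl⟩)
    (by rw [hO]; exact (MonoidHom.ker_eq_bot_iff _).2 fun _ _ h => h)
  rw [Subgroup.map_id] at hAT hTA
  have hinv : ∀ x : G, x ∈ K → x * x = 1 → x ≠ 1 → IsConj x z := by
    intro x hx hx2 hx1
    set y : K := ⟨x, hx⟩
    have hy : IsPGroup 2 (Subgroup.zpowers y) := by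
      refine IsPGroup.of_card (n := 1) ?_
      rw [Nat.card_zpowers, pow_one]
      exact orderOf_eq_prime (Subtype.ext (by rw [pow_two]; exact hx2)) fun h => hx1 (congrArg Subtype.val h)
    obtain ⟨P, hP⟩ := hy.exists_le_sylow
    obtain ⟨k, hk⟩ := MulAction.exists_smul_eq K T P
    have hyP : y ∈ k • T := hk ▸ hP (Subgroup.mem_zpowers y)
    rw [← SetLike.mem_coe, Sylow.coe_smul] at hyP
    obtain ⟨a, ha, e⟩ := Set.mem_smul_set.1 hyP
    have haΩ : a ∈ Cfsg.omegaOne 2 (T : Subgroup K) := by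
      refine Subgroup.subset_closure ⟨ha, ?_⟩
      have h2 : y ^ 2 = 1 := Subtype.ext (by rw [pow_two]; exact hx2)
      rw [← e, MulAut.smul_def, ← map_pow, map_eq_one_iff _ (MulEquiv.injective _)] at h2
      exact h2
    have haE : (a : G) ∈ EG L := Subgroup.mem_subgroupOf.1 (hTA ▸ Subgroup.mem_sup_right haΩ)
    have e' : (k : G) * a * (k : G)⁻¹ = x := congrArg Subtype.val e
    refine (_root_.isConj_iff.2 ⟨(k : G), e'⟩ : IsConj (a : G) x).symm.trans (L.EG_conj hF haE fun h => hx1 ?_)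
    rw [← e', h]; group
  have hKC : ∀ x ∈ K, x * z = z * x → x ∈ EG L := by
    have hQE : ∀ c, Mem c → I c ∈ K → inQ c = true → inE c = true := by
      intro c hc hcK hcQ
      by_contra hnE
      have := List.all_eq_true.1 coset_Q c (List.mem_filter.2 ⟨mem_iff_elems.1 hc, by simp [hcQ, hnE]⟩)
      simp only [List.any_eq_true, List.mem_range, Cfsg.Agent.Spor.Cos.force_eq, Bool.and_eq_true,
        Bool.not_eq_true', isInv, Nat.beq_eq] at this
      obtain ⟨k, hk, ⟨h2, h1⟩, hE⟩ := this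
      have hm := hc.mul (eC_mem hk)
      have hmK : I (mulC c (eC k)) ∈ K := by
        rw [L.hom _ _ hc (eC_mem hk)]; exact K.mul_mem hcK (hEK ⟨k, hk, rfl⟩)
      have hne : I (mulC c (eC k)) ≠ 1 := fun e => by
        rw [(L.eq_one_iff hm).1 e] at h1; simp at h1
      have := ((L.fused_iff hF hm).1 (hinv _ hmK (by rw [← L.hom _ _ hm hm, h2, L.map_one]) hne)).1
      rw [this] at hE; exact absurd hE (by simp)
    intro x hx hxz
    obtain ⟨c, hc, rfl⟩ := (L.range _).1 hxz
    refine (L.code_EG hc).2 (hQE c hc hx ?_)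
    by_contra hnQ
    have h := List.all_eq_true.1 lift_Q c (mem_iff_elems.1 hc)
    simp only [Bool.or_eq_true, List.any_eq_true, Cfsg.Agent.Spor.Cos.force_eq, Bool.and_eq_true,
      Bool.not_eq_true'] at h
    obtain ⟨q, hq, hyQ, hyE⟩ := h.resolve_left hnQ
    have hq2 := Nat.eq_of_beq_eq_true (List.all_eq_true.1 qTest_sq q hq)
    have hqm : Mem q := by
      have := List.all_eq_true.1 qTest_ok q hq
      simp only [Bool.and_eq_true] at this
      exact this.1
    have hym : Mem (comQ c q) := (hc.cj hqm).mul hqm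
    have hyK : I (comQ c q) ∈ K := by
      have hqi : (I q)⁻¹ = I q := inv_eq_of_mul_eq_one_left (by rw [← L.hom _ _ hqm hqm, hq2, L.map_one])
      rw [comQ, L.hom _ _ (hc.cj hqm) hqm, L.map_cj hc hqm]
      have := K.mul_mem hx (hKn.conj_mem _ (K.inv_mem hx) (I q))
      rw [hqi] at this
      simpa only [mul_assoc] using this
    rw [hQE _ hym hyK hyQ] at hyE
    exact absurd hyE (by simp)
  -- the normalizer in `K`
  have hN : ∀ x ∈ K, x ∈ Subgroup.normalizer (EG L : Set G) → x ∈ EG L := by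
    intro x hx hxN
    by_contra hxE
    have hconj : ∀ y ∈ Subgroup.normalizer (EG L : Set G), ∀ e ∈ EG L, y * e * y⁻¹ ∈ EG L := fun y hy e he =>
      (Subgroup.mem_normalizer_iff.1 hy e).1 he
    have hzne : ∀ y ∈ K, y ∈ Subgroup.normalizer (EG L : Set G) → y ∉ EG L → y * z * y⁻¹ ≠ z := by
      intro y hy _ hyE h
      exact hyE (hKC y hy (mul_inv_eq_iff_eq_mul.1 h))
    have hne1 : ∀ y : G, y * z * y⁻¹ ≠ 1 := fun y h => L.z_ne_one (conj_eq_one_iff.1 h)
    let N := K ⊓ Subgroup.normalizer (EG L : Set G)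
    have hEN : EG L ≤ N := le_inf hEK Subgroup.le_normalizer
    -- every point is reached
    have hreach : ∀ p ∈ EG L, p ≠ 1 → ∃ y ∈ N, y * z * y⁻¹ = p := by
      intro p hp hp1
      rcases eq_or_ne p z with rfl | hpz
      · exact ⟨1, one_mem _, by group⟩
      obtain ⟨h1, hh1, e1⟩ := L.H_trans hF hp hp1 hpz
      obtain ⟨h2, hh2, e2⟩ := L.H_trans hF (hconj x hxN z L.z_EG) (hne1 x) (hzne x hx hxN hxE)
      have hh : h1 * h2⁻¹ * z = z * (h1 * h2⁻¹) :=
        ((show Commute h1 z from hh1).mul_left (show Commute h2 z from hh2).inv_left).eq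
      refine ⟨h1 * h2⁻¹ * x * (h1 * h2⁻¹)⁻¹, ⟨hKn.conj_mem x hx _, ?_⟩, ?_⟩
      · have hHn : ∀ h : G, h * z = z * h → h ∈ Subgroup.normalizer (EG L : Set G) := fun h hh =>
          Subgroup.mem_normalizer_iff.2 fun e => ⟨fun he => L.conj_H hF hh he, fun he => by
            have := L.conj_H hF (h := h⁻¹) (show Commute h z from hh).inv_left.eq he
            rwa [show h⁻¹ * (h * e * h⁻¹) * h⁻¹⁻¹ = e by group] at this⟩
        exact (Subgroup.normalizer (EG L : Set G)).mul_mem
          ((Subgroup.normalizer (EG L : Set G)).mul_mem (hHn _ hh) hxN)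
          ((Subgroup.normalizer (EG L : Set G)).inv_mem (hHn _ hh))
      · have hz' : (h1 * h2⁻¹)⁻¹ * z * (h1 * h2⁻¹) = z := by
          rw [mul_assoc, ← hh]; group
        calc h1 * h2⁻¹ * x * (h1 * h2⁻¹)⁻¹ * z * (h1 * h2⁻¹ * x * (h1 * h2⁻¹)⁻¹)⁻¹
            = h1 * h2⁻¹ * (x * ((h1 * h2⁻¹)⁻¹ * z * (h1 * h2⁻¹)) * x⁻¹) * (h1 * h2⁻¹)⁻¹ := by group
          _ = h1 * (h2⁻¹ * (x * z * x⁻¹) * h2) * h1⁻¹ := by rw [hz']; group
          _ = h1 * I (repC 1) * h1⁻¹ := by rw [← e2]; group
          _ = p := e1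
    have hcard : Nat.card N = 16 * 15 := by
      haveI : Finite (EG L) := Nat.finite_of_card_ne_zero (by rw [L.card_EG]; norm_num)
      let f : N → {p : EG L // (p : G) ≠ 1} := fun y => ⟨⟨(y : G) * z * (y : G)⁻¹, hconj _ y.2.2 _ L.z_EG⟩, hne1 _⟩
      have hfib : ∀ p : {p : EG L // (p : G) ≠ 1}, Nat.card {y : N // f y = p} = 16 := by
        intro p
        obtain ⟨y0, hy0, hy0p⟩ := hreach _ p.1.2 p.2
        rw [← L.card_EG]
        refine Nat.card_congr ⟨fun y => ⟨y0⁻¹ * (y.1 : G), ?_⟩, fun e => ⟨⟨y0 * (e : G), mul_mem hy0 (hEN e.2)⟩, ?_⟩,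
          fun y => ?_, fun e => ?_⟩
        · have hy : (y.1 : G) * z * (y.1 : G)⁻¹ = y0 * z * y0⁻¹ := by
            rw [hy0p]; exact congrArg (fun q : {p : EG L // (p : G) ≠ 1} => ((q : EG L) : G)) y.2
          refine hKC _ (K.mul_mem (K.inv_mem hy0.1) y.1.2.1) ?_
          calc y0⁻¹ * (y.1 : G) * z = y0⁻¹ * ((y.1 : G) * z * (y.1 : G)⁻¹) * y.1 := by group
            _ = z * (y0⁻¹ * y.1) := by rw [hy]; group
        · refine Subtype.ext (Subtype.ext ?_)
          show y0 * (e : G) * z * (y0 * (e : G))⁻¹ = ((p : EG L) : G)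
          rw [← hy0p, mul_assoc y0, L.EG_comm e.2 L.z_EG]; group
        · exact Subtype.ext (Subtype.ext (by simp))
        · exact Subtype.ext (by simp)
      haveI := Fintype.ofFinite {p : EG L // (p : G) ≠ 1}
      rw [← Nat.card_congr (Equiv.sigmaFiberEquiv f), Nat.card_sigma, Finset.sum_congr rfl fun p _ => hfib p,
        Finset.sum_const, smul_eq_mul, Finset.card_univ, ← Nat.card_eq_fintype_card, mul_comm]
      congr 1
      haveI := Fintype.ofFinite (EG L)
      rw [Nat.card_eq_fintype_card,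
        Fintype.card_subtype_compl (p := fun p : EG L => (p : G) = 1), ← Nat.card_eq_fintype_card, L.card_EG,
        Fintype.card_congr (Equiv.subtypeEquivRight (p := fun p : EG L => (p : G) = 1) (q := fun p => p = 1)
          fun p => OneMemClass.coe_eq_one), Fintype.card_unique]
    haveI : Fact (Nat.Prime 3) := ⟨Nat.prime_three⟩
    haveI : Fact (Nat.Prime 5) := ⟨Nat.prime_five⟩
    obtain ⟨⟨a, ha⟩, ha3⟩ := exists_prime_orderOf_dvd_card' (G := N) 3 (by rw [hcard]; norm_num)
    obtain ⟨⟨b, hb⟩, hb5⟩ := exists_prime_orderOf_dvd_card' (G := N) 5 (by rw [hcard]; norm_num)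
    rw [Subgroup.orderOf_mk] at ha3 hb5
    have hnotE : ∀ y : G, (orderOf y = 3 ∨ orderOf y = 5) → y ∉ EG L := fun y hy hyE => by
      have : orderOf y ∣ 2 := orderOf_dvd_of_pow_eq_one (by rw [pow_two]; exact L.EG_sq hyE)
      rcases hy with h | h <;> rw [h] at this <;> norm_num at this
    obtain ⟨h1, hh1, e1⟩ := L.H_trans hF (hconj a ha.2 z L.z_EG) (hne1 a)
      (hzne a ha.1 ha.2 (hnotE a (Or.inl ha3)))
    obtain ⟨h2, hh2, e2⟩ := L.H_trans hF (hconj b hb.2 z L.z_EG) (hne1 b)
      (hzne b hb.1 hb.2 (hnotE b (Or.inr hb5)))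
    set h := h2 * h1⁻¹ with hh
    have hhz : h * z = z * h := ((show Commute h2 z from hh2).mul_left (show Commute h1 z from hh1).inv_left).eq
    set a' := h * a * h⁻¹ with ha'
    have ha'3 : a' ^ 3 = 1 := by rw [ha', conj_pow, ← ha3, pow_orderOf_eq_one]; group
    have he : a'⁻¹ * b ∈ EG L := by
      refine hKC _ (K.mul_mem (K.inv_mem (hKn.conj_mem a ha.1 h)) hb.1) ?_
      have hz' : h⁻¹ * z * h = z := by rw [mul_assoc, ← hhz]; group
      have hab : a' * z * a'⁻¹ = b * z * b⁻¹ :=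
        calc a' * z * a'⁻¹ = h * (a * (h⁻¹ * z * h) * a⁻¹) * h⁻¹ := by rw [ha']; group
          _ = h2 * (h1⁻¹ * (a * z * a⁻¹) * h1) * h2⁻¹ := by rw [hz', hh]; group
          _ = h2 * I (repC 1) * h2⁻¹ := by rw [← e1]; group
          _ = b * z * b⁻¹ := e2
      calc a'⁻¹ * b * z = a'⁻¹ * (b * z * b⁻¹) * b := by group
        _ = z * (a'⁻¹ * b) := by rw [← hab]; group
    set e := a'⁻¹ * b with hedef
    have hb' : b = a' * e := by rw [hedef]; group
    have hnorm : ∀ y ∈ EG L, a' * y * a'⁻¹ ∈ EG L := fun y hy => by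
      have h1 := L.conj_H hF (h := h⁻¹) (show Commute h z from hhz).inv_left.eq hy
      have := L.conj_H hF hhz (hconj a ha.2 _ h1)
      convert this using 1
      rw [ha']; group
    have hb3 : b ^ 3 ∈ EG L := by
      have : b ^ 3 = (a' * e * a'⁻¹) * (a' * (a' * e * a'⁻¹) * a'⁻¹) * (a' ^ 3 * e) := by
        rw [hb', pow_three, pow_three]; group
      rw [this, ha'3, one_mul]
      exact mul_mem (mul_mem (hnorm _ he) (hnorm _ (hnorm _ he))) he
    refine hnotE (b ^ 3) (Or.inr ?_) hb3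
    rw [orderOf_pow, hb5]; norm_num
  -- the Sylow subgroup of `K`
  let A := (EG L).subgroupOf K
  have hTA' : (T : Subgroup K) = A := by
    refine le_antisymm ?_ hAT
    by_contra hlt
    have hlt' : A < (T : Subgroup K) := lt_of_le_of_ne hAT fun e => hlt e.ge
    haveI := T.isPGroup'.isNilpotent
    have hnc : NormalizerCondition (T : Subgroup K) := normalizerCondition_of_isNilpotent
    have h1 : A.subgroupOf (T : Subgroup K) < ⊤ :=
      lt_top_iff_ne_top.2 fun e => hlt'.not_ge (Subgroup.subgroupOf_eq_top.1 e)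
    obtain ⟨y, hyN, hyA⟩ := SetLike.exists_of_lt (hnc _ h1)
    refine hyA (Subgroup.mem_subgroupOf.2 (Subgroup.mem_subgroupOf.2 ?_))
    refine hN _ (y : K).2 (Subgroup.mem_normalizer_iff.2 fun e => ?_)
    have key := Subgroup.mem_normalizer_iff.1 hyN
    constructor
    · intro he
      exact (key ⟨⟨e, hEK he⟩, hAT he⟩).1 he
    · intro he
      have heK : e ∈ K := by
        have := hKn.conj_mem _ (hEK he) ((y : K) : G)⁻¹
        rwa [show ((y : K) : G)⁻¹ * (((y : K) : G) * e * ((y : K) : G)⁻¹) * ((y : K) : G)⁻¹⁻¹ = e by group] at this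
      have heT : (⟨e, heK⟩ : K) ∈ (T : Subgroup K) := by
        have hm : (⟨_, hEK he⟩ : K) ∈ (T : Subgroup K) := hAT he
        have := mul_mem (mul_mem (inv_mem y.2) hm) y.2
        convert this using 1
        exact Subtype.ext (by
          show e = ((y : K) : G)⁻¹ * (((y : K) : G) * e * ((y : K) : G)⁻¹) * ((y : K) : G)
          group)
      exact (key ⟨⟨e, heK⟩, heT⟩).2 he
  have hNT : Subgroup.normalizer ((T : Subgroup K) : Set K) ≤ Subgroup.centralizer ((T : Subgroup K) : Set K) := by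
    intro y hy
    have hyE : (y : G) ∈ EG L := by
      refine hN _ y.2 (Subgroup.mem_normalizer_iff.2 fun e => ?_)
      have key := Subgroup.mem_normalizer_iff.1 hy
      rw [hTA'] at key
      constructor
      · intro he
        exact (key ⟨e, hEK he⟩).1 he
      · intro he
        have heK : e ∈ K := by
          have := hKn.conj_mem _ (hEK he) (y : G)⁻¹
          rwa [show (y : G)⁻¹ * ((y : G) * e * (y : G)⁻¹) * (y : G)⁻¹⁻¹ = e by group] at this
        exact (key ⟨e, heK⟩).2 he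
    refine Subgroup.mem_centralizer_iff.2 fun t ht => Subtype.ext ?_
    rw [hTA'] at ht
    exact L.EG_comm (Subgroup.mem_subgroupOf.1 ht) hyE
  haveI : (T : Subgroup K).FiniteIndex := inferInstance
  have hcomp := MonoidHom.ker_transferSylow_isComplement' T hNT
  have hker : (MonoidHom.transferSylow T hNT).ker = ⊥ := by
    refine le_bot_iff.1 (hO ▸ Grp.le_pPrimeCore (MonoidHom.normal_ker _) ?_)
    rw [← hcomp.index_eq_card]
    exact (Nat.prime_two.coprime_iff_not_dvd.2 T.not_dvd_index).symm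
  have htop : (T : Subgroup K) = ⊤ := by
    rw [hker] at hcomp
    exact Subgroup.isComplement'_bot_left.1 hcomp
  have hKE : K = EG L := le_antisymm (fun x hx => by
    have : (⟨x, hx⟩ : K) ∈ (T : Subgroup K) := htop ▸ Subgroup.mem_top _
    exact Subgroup.mem_subgroupOf.1 (hTA' ▸ this :)) hEK
  rw [← hKE]
  exact hKn

end Loc

end Cfsg.Agent.Fus.Transv
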