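import Cfsg.Agent.Lib.Fus.Transv.Norm

/-!
# Elements normalising the word of order three
-/

set_option autoImplicit false
set_option maxRecDepth 100000

namespace Cfsg.Agent.Fus.Transv

open Cfsg.Agent.Spor.Cos (force force_eq ev ev_append)

/-- A second word with the data fixing its pair. -/
structure YData where
  /-- the left part -/
  wh : List ℕ
  /-- the involution in the middle -/
  iy : ℕ
  /-- the right part -/
  wq : List ℕ
  /-- the exponent -/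
  e : ℕ
  /-- pairs of elements exchanged by the word -/
  cons : List ((ℕ × ℕ × ℕ) × (ℕ × ℕ × ℕ))
  /-- the square -/
  sq : ℕ × ℕ × ℕ
  /-- the chosen pair -/
  d0 : ℕ
  /-- the other pair -/
  d1 : ℕ
  /-- the correcting word -/
  wg : List ℕ

namespace YData

/-- The word. -/
def yW (y : YData) : List ℕ := y.wh ++ (y.iy :: y.wq)

/-- The corrected word. -/
def yW' (y : YData) : List ℕ := y.wg ++ y.yW

end YData

namespace NData

variable (d : NData) (ta tb : CTree)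

/-- The element of a triple. -/
def cCode (t : ℕ × ℕ × ℕ) : ℕ := mulC t.1 t.2.1

/-- The pair of a triple. -/
noncomputable def cDel (t : ℕ × ℕ × ℕ) : ℕ := mulC t.1 (d.piE ta tb t.2.2 t.1)

/-- The checks of a triple. -/
noncomputable def cOk (t : ℕ × ℕ × ℕ) : Bool :=
  d.inA t.1 && inH t.2.1 && bif Nat.beq t.2.2 1 then Nat.beq (act ta tb d.xW t.2.1) t.2.1
    else Nat.beq t.2.2 2 && force (mulC (wC d.wq) (mulC (invC t.2.1) (wC d.wh))) fun r =>
      force (mapC (bif Nat.beq d.ix 4 then ta else tb) r) fun l =>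
        !Nat.beq l 8 && Nat.beq (mulC (wC d.wh) (mulC l (wC d.wq))) (invC t.2.1)

/-- The test of a candidate pair by one constraint. -/
noncomputable def candOk (y : YData) (c : (ℕ × ℕ × ℕ) × (ℕ × ℕ × ℕ)) (x : ℕ) : Bool :=
  Nat.beq (mulC (act ta tb y.yW (d.cDel ta tb c.1)) (d.powS ta tb x y.e c.1.2.2))
    (mulC (cjC (cCode c.2) x) (d.powS ta tb (d.cDel ta tb c.2) c.2.2.2 y.e))

/-- The test of a candidate pair by the square. -/
noncomputable def sqOk (y : YData) (x : ℕ) : Bool :=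
  Nat.beq (mulC (act ta tb y.yW x) (d.powS ta tb x y.e y.e)) (d.cDel ta tb y.sq)

/-- The checks of the second word. -/
noncomputable def yOk (y : YData) : Bool :=
  (y.wh.all fun s => Nat.blt s 4) && (y.wq.all fun s => Nat.blt s 4) && (Nat.beq y.iy 4 || Nat.beq y.iy 5) &&
    !Nat.beq y.iy d.ix && (Nat.beq y.e 1 || Nat.beq y.e 2) &&
    (d.A.all fun x => d.inA (act ta tb y.yW x) && Nat.beq (act ta tb y.yW (act ta tb y.yW x)) x &&
      Nat.beq (act ta tb y.yW (d.pi ta tb x)) (d.piE ta tb y.e (act ta tb y.yW x))) &&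
    (y.cons.all fun c => d.cOk ta tb c.1 && d.cOk ta tb c.2 &&
      Nat.beq (act ta tb y.yW (cCode c.1)) (cCode c.2) && (d.A.all fun x => d.inA (cjC (cCode c.2) x))) &&
    d.cOk ta tb y.sq && force (mapC (bif Nat.beq y.iy 4 then ta else tb) (mulC (wC y.wq) (wC y.wh))) (fun l =>
      !Nat.beq l 8 && Nat.beq (mulC (wC y.wh) (mulC l (wC y.wq))) (cCode y.sq)) &&
    ((d.A.filter fun x => d.sqOk ta tb y x && y.cons.all fun c => d.candOk ta tb y c x).all fun x => Nat.beq x y.d0 || Nat.beq x y.d1) &&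
    d.inA y.d0 && d.inA y.d1 && (y.wg.all fun s => Nat.blt s 4) && d.inA (wC y.wg) &&
    Nat.beq (mulC (wC y.wg) (mulC y.d0 (d.piE ta tb y.e (wC y.wg)))) oneC &&
    force (cjC (invC (wC y.wq)) (mulC sC (repC (y.iy - 3)))) fun g => d.inA g &&
      Nat.beq (mulC (act ta tb y.yW (mulC g (d.piE ta tb 1 g))) y.d1) y.d0

/-- The meaning of the checks. -/
structure YGood (y : YData) : Prop where
  /-- the letters -/
  letters : (∀ s ∈ y.wh, s < 4) ∧ (∀ s ∈ y.wq, s < 4) ∧ (y.iy = 4 ∨ y.iy = 5) ∧ y.iy ≠ d.ix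
  /-- the exponent -/
  he : y.e = 1 ∨ y.e = 2
  /-- the action -/
  hA : ∀ x ∈ d.A, act ta tb y.yW x ∈ d.A ∧ act ta tb y.yW (act ta tb y.yW x) = x ∧
    act ta tb y.yW (d.pi ta tb x) = d.piE ta tb y.e (act ta tb y.yW x)
  /-- the constraints -/
  hcons : ∀ c ∈ y.cons, d.cOk ta tb c.1 = true ∧ d.cOk ta tb c.2 = true ∧
    act ta tb y.yW (cCode c.1) = cCode c.2 ∧ ∀ x ∈ d.A, cjC (cCode c.2) x ∈ d.A
  /-- the candidates -/
  hcand : ∀ x ∈ d.A, d.sqOk ta tb y x = true → (∀ c ∈ y.cons, d.candOk ta tb y c x = true) → x = y.d0 ∨ x = y.d1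
  /-- the square -/
  hsq : d.cOk ta tb y.sq = true ∧ mapC (bif Nat.beq y.iy 4 then ta else tb) (mulC (wC y.wq) (wC y.wh)) ≠ 8 ∧
    mulC (wC y.wh) (mulC (mapC (bif Nat.beq y.iy 4 then ta else tb) (mulC (wC y.wq) (wC y.wh))) (wC y.wq)) =
      cCode y.sq
  /-- both in the subgroup -/
  hd : y.d0 ∈ d.A ∧ y.d1 ∈ d.A
  /-- the correction -/
  hg : (∀ s ∈ y.wg, s < 4) ∧ wC y.wg ∈ d.A ∧ mulC (wC y.wg) (mulC y.d0 (d.piE ta tb y.e (wC y.wg))) = oneC
  /-- the other involution -/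
  hgauge : cjC (invC (wC y.wq)) (mulC sC (repC (y.iy - 3))) ∈ d.A ∧
    mulC (act ta tb y.yW (mulC (cjC (invC (wC y.wq)) (mulC sC (repC (y.iy - 3))))
      (d.piE ta tb 1 (cjC (invC (wC y.wq)) (mulC sC (repC (y.iy - 3))))))) y.d1 = y.d0

theorem ygood_of_ok (y : YData) (h : d.yOk ta tb y = true) : d.YGood ta tb y := by
  simp only [yOk, force_eq, Bool.and_eq_true, List.all_eq_true, inA_iff, Nat.beq_eq, Bool.or_eq_true,
    Bool.not_eq_true', Nat.blt_eq] at h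
  obtain ⟨⟨⟨⟨⟨⟨⟨⟨⟨⟨⟨⟨⟨⟨⟨hwh, hwq⟩, hiy⟩, hne⟩, he⟩, hA⟩, hcons⟩, hsq1⟩, hsq2⟩, hcand⟩, hd0⟩, hd1⟩, hwg⟩, hgA⟩, hg⟩,
    hga, hgd⟩ := h
  exact ⟨⟨hwh, hwq, hiy, fun e => by rw [Nat.beq_eq.mpr e] at hne; exact absurd hne (by simp)⟩, he,
    fun x hx => ⟨(hA x hx).1.1, (hA x hx).1.2, (hA x hx).2⟩,
    fun c hc => ⟨(hcons c hc).1.1.1, (hcons c hc).1.1.2, (hcons c hc).1.2, (hcons c hc).2⟩,
    fun x hx hs hall => hcand x (List.mem_filter.2 ⟨hx, Bool.and_eq_true_iff.2 ⟨hs, List.all_eq_true.2 hall⟩⟩),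
    ⟨hsq1, fun e => by rw [e] at hsq2; simp at hsq2, hsq2.2⟩, ⟨hd0, hd1⟩, ⟨hwg, hgA, hg⟩, hga, hgd⟩

theorem YGood.yW_lt {d : NData} {ta tb : CTree} {y : YData} (hy : d.YGood ta tb y) : ∀ s ∈ y.yW, s < 6 := by
  obtain ⟨h1, h2, h3, -⟩ := hy.letters
  intro s hs
  simp only [YData.yW, List.mem_append, List.mem_cons] at hs
  rcases hs with h | rfl | h
  · have := h1 s h; omega
  · omega
  · have := h2 s h; omega

end NData

namespace NCtx

variable {G : Type*} [Group G] {z : G} {I : ℕ → G} {a b : G} {ta tb : CTree} {d : NData}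
variable (C : NCtx z I a b ta tb d)
include C

local notation "𝕏" => ev (gW I a b) d.xW

theorem gW_swap {s : ℕ} (h : s = 4 ∨ s = 5) {r : ℕ} (h8 : mapC (bif Nat.beq s 4 then ta else tb) r ≠ 8) :
    gW I a b s * I r * (gW I a b s)⁻¹ = I (mapC (bif Nat.beq s 4 then ta else tb) r) := by
  rcases h with rfl | rfl
  · exact (C.pair.swA.map r h8).2.2
  · exact (C.pair.swB.map r h8).2.2

theorem X_parts : 𝕏 = I (wC d.wh) * gW I a b d.ix * I (wC d.wq) := by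
  obtain ⟨h1, h2, -⟩ := C.good.letters
  rw [NData.xW, ev_append, ← C.pair.ev_wC _ h1, ← C.pair.ev_wC _ h2, mul_assoc]
  rfl

/-- The pair of an element of `A`. -/
theorem NS_A {x : ℕ} (hx : x ∈ d.A) : NS I a b d (I x) (mulC x (d.piE ta tb 1 x)) 1 := by
  have hp := C.good.piE_mem 1 hx
  refine ⟨C.good.mul x hx _ hp, Or.inl rfl, ?_⟩
  have hm := C.X_pow_mul (Or.inl rfl) hx
  rw [pow_one] at hm ⊢
  rw [C.A_inv hx, mul_assoc, hm, ← mul_assoc, C.A_mul hx hp]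

/-- The pair of a triple. -/
theorem NS_cCode {t : ℕ × ℕ × ℕ} (h : d.cOk ta tb t = true) :
    Mem (NData.cCode t) ∧ NS I a b d (I (NData.cCode t)) (d.cDel ta tb t) t.2.2 := by
  simp only [NData.cOk, Bool.and_eq_true, NData.inA_iff] at h
  obtain ⟨⟨hx, hc⟩, h⟩ := h
  replace hc : Mem t.2.1 := hc
  have hxm := (C.good.mem _ hx).1
  refine ⟨hxm.mul hc, ?_⟩
  have key : (t.2.2 = 1 ∨ t.2.2 = 2) ∧ I t.2.1 * 𝕏 * (I t.2.1)⁻¹ = 𝕏 ^ t.2.2 := by
    cases he : Nat.beq t.2.2 1 <;> rw [he] at h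
    · simp only [cond_false, force_eq, Bool.and_eq_true, Nat.beq_eq, Bool.not_eq_true'] at h
      obtain ⟨he2, h8, hl⟩ := h
      refine ⟨Or.inr he2, ?_⟩
      rw [he2]
      set r := mulC (wC d.wq) (mulC (invC t.2.1) (wC d.wh))
      set l := mapC (bif Nat.beq d.ix 4 then ta else tb) r
      have h8' : l ≠ 8 := fun e => by rw [e] at h8; simp at h8
      have ha : gW I a b d.ix * I r * (gW I a b d.ix)⁻¹ = I l := C.gW_swap C.good.letters.2.2 h8'
      have hlm : Mem l := by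
        rcases C.good.letters.2.2 with e | e <;> simp only [l, e] at h8' ⊢
        · exact (C.pair.swA.map r h8').2.1
        · exact (C.pair.swB.map r h8').2.1
      rw [inv_eq_of_mul_eq_one_left (C.pair.gW_sq d.ix)] at ha
      have e1 : 𝕏 * (I t.2.1)⁻¹ * 𝕏 = (I t.2.1)⁻¹ := by
        rw [← C.loc.map_inv hc]
        calc 𝕏 * I (invC t.2.1) * 𝕏
            = I (wC d.wh) * (gW I a b d.ix * I r * gW I a b d.ix) * I (wC d.wq) := by
              rw [C.X_parts, C.loc.hom _ _ (Mem.wC _) (hc.inv.mul (Mem.wC _)), C.loc.hom _ _ hc.inv (Mem.wC _)]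
              group
          _ = _ := by rw [ha, mul_assoc, ← C.loc.hom _ _ hlm (Mem.wC _), ← C.loc.hom _ _ (Mem.wC _) (hlm.mul (Mem.wC _)), hl]
      calc I t.2.1 * 𝕏 * (I t.2.1)⁻¹ = I t.2.1 * (𝕏 * (I t.2.1)⁻¹ * 𝕏) * 𝕏⁻¹ := by group
        _ = 𝕏⁻¹ := by rw [e1, mul_inv_cancel, one_mul]
        _ = 𝕏 ^ 2 := inv_eq_of_mul_eq_one_right (by rw [← pow_succ']; exact C.X_cube)
    · simp only [cond_true, Nat.beq_eq] at h
      have he1 := Nat.eq_of_beq_eq_true he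
      refine ⟨Or.inl he1, ?_⟩
      have := (C.pair.act_sound _ hc C.good.xW_lt fun e => not_mem_eight (by rw [← e, h]; exact hc)).2
      rw [h] at this
      rw [he1, pow_one]
      calc I t.2.1 * 𝕏 * (I t.2.1)⁻¹ = 𝕏 * I t.2.1 * 𝕏⁻¹ * 𝕏 * (I t.2.1)⁻¹ := by rw [this]
        _ = 𝕏 := by group
  obtain ⟨he, hce⟩ := key
  refine ⟨C.good.mul _ hx _ (C.good.piE_mem _ hx), he, ?_⟩
  rw [NData.cCode, C.loc.hom _ _ hxm hc, NData.cDel, ← C.A_mul hx (C.good.piE_mem _ hx)]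
  calc I t.1 * I t.2.1 * 𝕏 * (I t.1 * I t.2.1)⁻¹ = I t.1 * (I t.2.1 * 𝕏 * (I t.2.1)⁻¹) * (I t.1)⁻¹ := by group
    _ = I t.1 * (𝕏 ^ t.2.2 * I t.1) := by rw [hce, C.A_inv hx, mul_assoc]
    _ = _ := by rw [C.X_pow_mul he hx, mul_assoc]

/-- The pair of the second word is one of the two recorded. -/
theorem NS_y {y : YData} (hy : d.YGood ta tb y) :
    NS I a b d (ev (gW I a b) y.yW) y.d0 y.e ∨ NS I a b d (ev (gW I a b) y.yW) y.d1 y.e := by
  set Y := ev (gW I a b) y.yW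
  have hyA : ∀ x ∈ d.A, Y * I x * Y⁻¹ = I (act ta tb y.yW x) := fun x hx =>
    (C.pair.act_sound _ (C.good.mem x hx).1 hy.yW_lt fun e =>
      not_mem_eight (e ▸ (C.good.mem _ (hy.hA x hx).1).1)).2
  have hmain : ∀ w ∈ d.A, Y * 𝕏 * Y⁻¹ * (𝕏 ^ y.e)⁻¹ * I (d.piE ta tb y.e w) *
      (Y * 𝕏 * Y⁻¹ * (𝕏 ^ y.e)⁻¹)⁻¹ = I (d.piE ta tb y.e w) := fun w hw => by
    obtain ⟨hw', hback, -⟩ := hy.hA w hw
    have h1 : (𝕏 ^ y.e)⁻¹ * I (d.piE ta tb y.e w) * 𝕏 ^ y.e = I w := by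
      rw [mul_assoc, ← C.X_pow_mul hy.he hw, inv_mul_cancel_left]
    have h2 : Y * I (act ta tb y.yW w) * Y⁻¹ = I w := by rw [hyA _ hw', hback]
    calc _ = Y * 𝕏 * Y⁻¹ * ((𝕏 ^ y.e)⁻¹ * I (d.piE ta tb y.e w) * 𝕏 ^ y.e) * Y * 𝕏⁻¹ * Y⁻¹ := by group
      _ = Y * (𝕏 * I (act ta tb y.yW w) * 𝕏⁻¹) * Y⁻¹ := by rw [h1, ← h2]; group
      _ = _ := by rw [C.conj_X hw', hyA _ (C.good.mem _ hw').2.2.2, (hy.hA _ hw').2.2, hback]
  obtain ⟨c, hc, e⟩ := C.fix_mem (g := Y * 𝕏 * Y⁻¹ * (𝕏 ^ y.e)⁻¹) fun x hx => by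
    have hxA := C.good.gens x hx
    have hcube := C.good.cube x hxA
    have hp1 := (C.good.mem x hxA).2.2.2
    have hp2 := (C.good.mem _ hp1).2.2.2
    refine mul_inv_eq_iff_eq_mul.1 ?_
    rcases hy.he with he | he
    · have := hmain _ hp2
      simp only [he, NData.piE, Nat.beq_refl, cond_true, hcube] at this ⊢
      exact this
    · have := hmain _ hp1
      simp only [he, NData.piE, show Nat.beq 2 1 = false from rfl, cond_false, hcube] at this ⊢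
      exact this
  have hY : NS I a b d Y c y.e := ⟨hc, hy.he, by rw [← e]; group⟩
  have hall : ∀ t ∈ y.cons, d.candOk ta tb y t c = true := by
    intro t ht
    obtain ⟨ok1, ok2, hact, hcj⟩ := hy.hcons t ht
    obtain ⟨hm1, h1⟩ := C.NS_cCode ok1
    obtain ⟨hm2, h2⟩ := C.NS_cCode ok2
    have hcm : Y * I (NData.cCode t.1) * Y⁻¹ = I (NData.cCode t.2) := by
      have := (C.pair.act_sound _ hm1 hy.yW_lt fun h => not_mem_eight (by rw [← h, hact]; exact hm2)).2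
      rwa [hact] at this
    have hL := C.NS_mul hY h1 (hy.hA _ h1.1).1 (hyA _ h1.1)
    have hR := C.NS_mul h2 hY (hcj c hc) (C.loc.map_cj hm2 (C.good.mem c hc).1).symm
    rw [mul_inv_eq_iff_eq_mul.1 hcm] at hL
    simp only [NData.candOk, Nat.beq_eq]
    exact (C.NS_uniq hL hR).1
  have hsqc : d.sqOk ta tb y c = true := by
    obtain ⟨okt, h8, hl⟩ := hy.hsq
    obtain ⟨hmt, ht⟩ := C.NS_cCode okt
    obtain ⟨hwh, hwq, hiy, -⟩ := hy.letters
    have hr := C.gW_swap hiy h8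
    have hYY : Y * Y = I (NData.cCode y.sq) := by
      have hm2 : Mem (mapC (bif Nat.beq y.iy 4 then ta else tb) (mulC (wC y.wq) (wC y.wh))) := by
        rcases hiy with e | e <;> simp only [e] at h8 ⊢
        · exact (C.pair.swA.map _ h8).2.1
        · exact (C.pair.swB.map _ h8).2.1
      rw [← hl, C.loc.hom _ _ (Mem.wC _) (hm2.mul (Mem.wC _)), C.loc.hom _ _ hm2 (Mem.wC _), ← hr,
        C.loc.hom _ _ (Mem.wC _) (Mem.wC _)]
      show ev _ y.yW * ev _ y.yW = _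
      rw [YData.yW, ev_append]
      show ev _ y.wh * (gW I a b y.iy * ev _ y.wq) * (ev _ y.wh * (gW I a b y.iy * ev _ y.wq)) = _
      rw [C.pair.ev_wC _ hwh, C.pair.ev_wC _ hwq, inv_eq_of_mul_eq_one_left (C.pair.gW_sq y.iy)]
      group
    have hL := C.NS_mul hY hY (hy.hA c hc).1 (hyA c hc)
    rw [hYY] at hL
    simp only [NData.sqOk, Nat.beq_eq]
    exact (C.NS_uniq hL ht).1
  rcases hy.hcand c hc hsqc hall with rfl | rfl
  exacts [Or.inl hY, Or.inr hY]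

/-- The corrected word normalises the cyclic group of the first. -/
theorem NS_y' {y : YData} (hy : d.YGood ta tb y) (h : NS I a b d (ev (gW I a b) y.yW) y.d0 y.e) :
    NS I a b d (ev (gW I a b) y.yW') oneC y.e := by
  obtain ⟨hg, hgA, hg1⟩ := hy.hg
  have hA := C.NS_A hgA
  have hcomm : mulC (wC y.wg) y.d0 = mulC y.d0 (wC y.wg) := by
    have h1 := (C.good.mem _ hgA)
    have h2 := (C.good.mem _ h.1)
    have h3 := (C.good.mem _ (C.good.mul _ hgA _ h.1)).2.1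
    refine C.loc.inj _ _ (h1.1.mul h2.1) (h2.1.mul h1.1) ?_
    have h4 : I (wC y.wg) * I y.d0 * (I (wC y.wg) * I y.d0) = 1 := by
      rw [← C.loc.hom _ _ h1.1 h2.1, ← C.loc.hom _ _ (h1.1.mul h2.1) (h1.1.mul h2.1), h3, C.loc.map_one]
    rw [C.loc.hom _ _ h1.1 h2.1, C.loc.hom _ _ h2.1 h1.1, eq_inv_of_mul_eq_one_left h4, mul_inv_rev,
      C.A_inv hgA, C.A_inv h.1]
  have := C.NS_mul hA h (C.good.mem _ h.1 |> fun _ => h.1) (show I (wC y.wg) * I y.d0 * (I (wC y.wg))⁻¹ = I y.d0 by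
    rw [C.A_mul hgA h.1, hcomm, ← C.A_mul h.1 hgA, mul_inv_cancel_right])
  rw [← C.pair.ev_wC _ hg, ← ev_append] at this
  have hpow : d.powS ta tb (mulC (wC y.wg) (d.piE ta tb 1 (wC y.wg))) 1 y.e =
      mulC (wC y.wg) (d.piE ta tb y.e (wC y.wg)) ∧ NData.powE 1 y.e = y.e := by
    rcases hy.he with he | he <;> rw [he]
    · exact ⟨rfl, rfl⟩
    · refine ⟨?_, rfl⟩
      have hw := wC y.wg
      have m1 := C.good.mem _ hgA
      have m2 := C.good.mem _ m1.2.2.2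
      have m3 := C.good.mem _ (C.good.mul _ hgA _ m1.2.2.2)
      show mulC (mulC (wC y.wg) (d.pi ta tb (wC y.wg))) (d.pi ta tb (mulC (wC y.wg) (d.pi ta tb (wC y.wg)))) =
        mulC (wC y.wg) (d.pi ta tb (d.pi ta tb (wC y.wg)))
      refine C.loc.inj _ _ (m3.1.mul m3.2.2.1) (m1.1.mul m2.2.2.1) ?_
      rw [C.loc.hom _ _ m3.1 m3.2.2.1, C.loc.hom _ _ m1.1 m1.2.2.1, C.loc.hom _ _ m1.1 m2.2.2.1,
        ← C.conj_X (C.good.mul _ hgA _ m1.2.2.2), C.loc.hom _ _ m1.1 m1.2.2.1, ← C.conj_X m1.2.2.2]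
      calc I (wC y.wg) * I (d.pi ta tb (wC y.wg)) * (𝕏 * (I (wC y.wg) * I (d.pi ta tb (wC y.wg))) * 𝕏⁻¹)
          = I (wC y.wg) * I (d.pi ta tb (wC y.wg)) * (𝕏 * I (wC y.wg) * 𝕏⁻¹) *
              (𝕏 * I (d.pi ta tb (wC y.wg)) * 𝕏⁻¹) := by group
        _ = _ := by rw [C.conj_X hgA, mul_assoc (I (wC y.wg)) _ (I (d.pi ta tb _)), C.A_sq m1.2.2.2, mul_one]
  rw [hpow.1, hpow.2] at this
  have he1 : mulC y.d0 (mulC (wC y.wg) (d.piE ta tb y.e (wC y.wg))) = oneC := by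
    rw [← mulC_assoc, ← hcomm, mulC_assoc, hg1]
  rwa [he1] at this

/-- The other involution turns the second option into the first. -/
theorem NS_gauge {y : YData} (hy : d.YGood ta tb y) (h : NS I a b d (ev (gW I a b) y.yW) y.d1 y.e) :
    NS I a b d (I (wC y.wh) * (gW I a b y.iy * I (mulC sC (repC (y.iy - 3)))) * I (wC y.wq)) y.d0 y.e := by
  obtain ⟨hga, hgd⟩ := hy.hgauge
  set g := cjC (invC (wC y.wq)) (mulC sC (repC (y.iy - 3))) with hgdef
  obtain ⟨hq1, hq2, hq3, -⟩ := hy.letters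
  have hu : Mem (mulC sC (repC (y.iy - 3))) := mem_sC.mul (Mem.rep _)
  have hYe : ev (gW I a b) y.yW = I (wC y.wh) * gW I a b y.iy * I (wC y.wq) := by
    rw [YData.yW, ev_append, ← C.pair.ev_wC _ hq1, ← C.pair.ev_wC _ hq2, mul_assoc]
    rfl
  have hA := C.NS_A hga
  have hw := hy.hA _ hA.1
  have := C.NS_mul h hA hw.1
    (C.pair.act_sound _ (C.good.mem _ hA.1).1 hy.yW_lt fun e => not_mem_eight (e ▸ (C.good.mem _ hw.1).1)).2
  have hval : ev (gW I a b) y.yW * I g =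
      I (wC y.wh) * (gW I a b y.iy * I (mulC sC (repC (y.iy - 3)))) * I (wC y.wq) := by
    rw [hgdef, C.loc.map_cj (Mem.wC _).inv hu, C.loc.map_inv (Mem.wC _), hYe]
    group
  rw [hval] at this
  simpa only [NData.powS, NData.powE, Nat.beq_refl, cond_true, hgd] using this

end NCtx

end Cfsg.Agent.Fus.Transv
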