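import Cfsg.Agent.Lib.Fus.Transv.Psi

/-!
# The swapping involutions on their whole centralizers
-/

set_option autoImplicit false
set_option maxRecDepth 100000

namespace Cfsg.Agent.Fus.Transv

open Cfsg.Agent.Spor.Cos (force force_eq)

theorem not_mem_eight : ¬ Mem 8 := fun h => absurd (show inH 8 = true from h) (by decide +kernel)

/-- The image in an entry. -/
def mImg (v : ℕ) : ℕ := v % 33554432

/-- The generator in an entry. -/
def mGen (v : ℕ) : ℕ := (v >>> 25) % 8

/-- The depth in an entry. -/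
def mDep (v : ℕ) : ℕ := (v >>> 28) % 64

/-- The parent in an entry. -/
def mPar (v : ℕ) : ℕ := v >>> 34

/-- The image of a number. -/
noncomputable def mapC (t : CTree) (x : ℕ) : ℕ :=
  force (t.find x) fun v => bif Nat.beq v 8 then 8 else mImg v

/-- The checks of one entry. -/
noncomputable def entOk (gens imgs : List ℕ) (u : ℕ) (t : CTree) (e : ℕ × ℕ) : Bool :=
  inH e.1 && inH (mImg e.2) && commC e.1 u &&
    bif Nat.beq (mDep e.2) 0 then Nat.beq e.1 oneC && Nat.beq (mImg e.2) oneC
    else Nat.blt (mGen e.2) gens.length && force (mPar e.2) fun p => force (t.find p) fun pv =>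
      !Nat.beq pv 8 && Nat.blt (mDep pv) (mDep e.2) && Nat.beq (mulC (gens.getD (mGen e.2) oneC) p) e.1 &&
        Nat.beq (mulC (imgs.getD (mGen e.2) oneC) (mImg pv)) (mImg e.2)

/-- The checks of the whole map. -/
noncomputable def swapOk (i : ℕ) (gens imgs : List ℕ) (t : CTree) : Bool :=
  t.toList.all (entOk gens imgs (repC i) t) && Nat.beq (mapC t sC) (repC i) && Nat.beq (mapC t (repC i)) sC &&
    Nat.beq gens.length imgs.length && (gens.all fun g => inH g) && (imgs.all fun g => inH g) &&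
    (List.range gens.length).all (fun j => Nat.beq (mapC t (imgs.getD j oneC)) (gens.getD j oneC)) &&
    (elems.filter fun c => gens.all fun g => commC c g).all fun c =>
      Nat.beq c oneC || Nat.beq c sC || Nat.beq c (repC i) || Nat.beq c (mulC sC (repC i))

/-- An involution acting on the centralizer of a representative as recorded. -/
structure Swap {K : Type*} [Group K] (I : ℕ → K) (a : K) (t : CTree) : Prop where
  /-- an involution -/
  sq : a * a = 1
  /-- its action -/
  map : ∀ x, mapC t x ≠ 8 → Mem x ∧ Mem (mapC t x) ∧ a * I x * a⁻¹ = I (mapC t x)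

/-- The map follows from its action on the generators. -/
theorem map_of_gens {K : Type*} [Group K] {I : ℕ → K} (hom : ∀ a b, Mem a → Mem b → I (mulC a b) = I a * I b)
    {i : ℕ} {gens imgs : List ℕ} {t : CTree} (hok : swapOk i gens imgs t = true) {g : K}
    (hg : ∀ j < gens.length, g * I (gens.getD j oneC) * g⁻¹ = I (imgs.getD j oneC)) :
    ∀ x, mapC t x ≠ 8 → Mem x ∧ Mem (mapC t x) ∧ mulC x (repC i) = mulC (repC i) x ∧
      g * I x * g⁻¹ = I (mapC t x) := by
  simp only [swapOk, Bool.and_eq_true, List.all_eq_true, Nat.beq_eq] at hok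
  obtain ⟨⟨⟨⟨⟨⟨⟨hall, -⟩, -⟩, hlen⟩, hgm⟩, him⟩, -⟩, -⟩ := hok
  have h1 : I oneC = 1 := by
    have h := hom oneC oneC mem_one mem_one
    rw [mem_one.mul_one] at h
    exact left_eq_mul.1 h
  have main : ∀ d x, mDep (t.find x) = d → t.find x ≠ 8 → Mem x ∧ Mem (mImg (t.find x)) ∧
      mulC x (repC i) = mulC (repC i) x ∧ g * I x * g⁻¹ = I (mImg (t.find x)) := by
    intro d
    induction d using Nat.strong_induction_on with
    | _ d ih =>
      intro x hd hx
      have he := hall _ ((CTree.find_mem t x).resolve_left hx)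
      simp only [entOk, Bool.and_eq_true, commC, Nat.beq_eq] at he
      obtain ⟨⟨⟨hxm, hym⟩, hcm⟩, he⟩ := he
      refine ⟨hxm, hym, hcm, ?_⟩
      cases h0 : Nat.beq (mDep (t.find x)) 0 <;> rw [h0] at he
      · simp only [cond_false, force_eq, Bool.and_eq_true, Bool.not_eq_true', Nat.blt_eq, Nat.beq_eq] at he
        obtain ⟨hj, ⟨⟨hpv, hdep⟩, hxe⟩, hye⟩ := he
        obtain ⟨hpm, hpi, -, hpg⟩ := ih _ (hd ▸ hdep) (mPar (t.find x)) rfl fun h => by rw [h] at hpv; simp at hpv
        have hgj : Mem (gens.getD (mGen (t.find x)) oneC) := by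
          rw [List.getD_eq_getElem _ _ hj]; exact hgm _ (List.getElem_mem hj)
        have hij : Mem (imgs.getD (mGen (t.find x)) oneC) := by
          rw [List.getD_eq_getElem _ _ (hlen ▸ hj)]; exact him _ (List.getElem_mem _)
        rw [← hye, hom _ _ hij hpi, ← hg _ hj, ← hpg]
        conv_lhs => rw [← hxe, hom _ _ hgj hpm]
        group
      · simp only [cond_true, Bool.and_eq_true, Nat.beq_eq] at he
        obtain ⟨hx1, hx2⟩ := he
        rw [hx2, show I x = 1 by rw [hx1, h1], h1, mul_one, mul_inv_cancel]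
  intro x hx
  have h8 : t.find x ≠ 8 := fun h => hx (by rw [mapC, force_eq, h]; rfl)
  have e : mapC t x = mImg (t.find x) := by
    rw [mapC, force_eq, show Nat.beq (t.find x) 8 = false from Bool.eq_false_iff.2 fun h => h8 (Nat.eq_of_beq_eq_true h)]
    rfl
  rw [e]
  exact main _ x rfl h8

namespace Loc

variable {G : Type*} [Group G] {z : G} {I : ℕ → G} (L : Loc z I)
include L

/-- The swapping involution. -/
theorem exists_swap_inv {i : ℕ} (hi0 : repC i ≠ sC) {gens imgs : List ℕ} {t : CTree}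
    (hok : swapOk i gens imgs t = true) {σ : G} (hu : σ * z * σ⁻¹ = I (repC i)) (hz : σ * I (repC i) * σ⁻¹ = z)
    {k : ℕ} (hk : Mem k) (hku : mulC k (repC i) = mulC (repC i) k)
    (hall : ∀ j < gens.length, σ * I (gens.getD j oneC) * σ⁻¹ = I (cjC k (imgs.getD j oneC))) :
    ∃ a, Swap I a t := by
  have hok' := hok
  simp only [swapOk, Bool.and_eq_true, List.all_eq_true, List.mem_range, Nat.beq_eq] at hok'
  obtain ⟨⟨⟨⟨⟨⟨⟨-, hts⟩, htu⟩, hlen⟩, hgm⟩, him⟩, hinv⟩, hcent⟩ := hok'
  have hum : Mem (repC i) := Mem.rep i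
  have hgj : ∀ j < gens.length, Mem (gens.getD j oneC) := fun j hj => by
    rw [List.getD_eq_getElem _ _ hj]; exact hgm _ (List.getElem_mem hj)
  have hij : ∀ j < gens.length, Mem (imgs.getD j oneC) := fun j hj => by
    rw [List.getD_eq_getElem _ _ (hlen ▸ hj)]; exact him _ (List.getElem_mem _)
  set g := (I k)⁻¹ * σ with hgdef
  have hg : ∀ j < gens.length, g * I (gens.getD j oneC) * g⁻¹ = I (imgs.getD j oneC) := fun j hj => by
    have h := hall j hj
    rw [L.map_cj hk (hij j hj)] at h
    calc g * I (gens.getD j oneC) * g⁻¹ = (I k)⁻¹ * (σ * I (gens.getD j oneC) * σ⁻¹) * I k := by rw [hgdef]; group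
      _ = _ := by rw [h]; group
  have hmap := map_of_gens L.hom hok hg
  have hgz : g * z * g⁻¹ = I (repC i) := by
    have := (hmap sC (by rw [hts]; exact fun h => not_mem_eight (h ▸ hum))).2.2.2
    rwa [hts, L.map_s] at this
  have hgu : g * I (repC i) * g⁻¹ = z := by
    have := (hmap (repC i) (by rw [htu]; decide +kernel)).2.2.2
    rwa [htu, L.map_s] at this
  have hne : I (repC i) ≠ z := fun h => hi0 (L.inj _ _ hum mem_sC (h.trans L.map_s.symm))
  have h2z : g * g * z = z * (g * g) :=
    calc g * g * z = g * (g * z * g⁻¹) * g⁻¹ * (g * g) := by group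
      _ = _ := by rw [hgz, hgu]
  obtain ⟨c, hc, hcg⟩ := (L.range _).1 h2z
  have hsw : Swap I g t ∨ Swap I (g * z) t := by
    have hcc : c ∈ elems.filter fun c => gens.all fun g => commC c g := by
      refine List.mem_filter.2 ⟨mem_iff_elems.1 hc, List.all_eq_true.2 fun x hx => ?_⟩
      obtain ⟨j, hj, rfl⟩ := List.getElem_of_mem hx
      simp only [commC, Nat.beq_eq]
      have e1 := hg j hj
      have h8 : mapC t (imgs.getD j oneC) ≠ 8 := by
        rw [hinv j hj]; exact fun h => not_mem_eight (h ▸ hgj j hj)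
      have e2 := (hmap _ h8).2.2.2
      rw [hinv j hj] at e2
      rw [← List.getD_eq_getElem _ oneC hj] at *
      refine (L.comm_iff hc (hgj j hj)).1 ?_
      rw [hcg]
      calc g * g * I (gens.getD j oneC) = g * (g * I (gens.getD j oneC) * g⁻¹) * g⁻¹ * (g * g) := by group
        _ = _ := by rw [e1, e2]
    have hmap' : ∀ x, mapC t x ≠ 8 → Mem x ∧ Mem (mapC t x) ∧ g * z * I x * (g * z)⁻¹ = I (mapC t x) := by
      intro x hx
      obtain ⟨h1, h2, -, h3⟩ := hmap x hx
      refine ⟨h1, h2, ?_⟩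
      calc g * z * I x * (g * z)⁻¹ = g * (z * I x * z⁻¹) * g⁻¹ := by group
        _ = _ := by rw [← L.comm_z h1, mul_inv_cancel_right, h3]
    have := hcent c hcc
    simp only [Bool.or_eq_true, Nat.beq_eq] at this
    rcases this with ((rfl | rfl) | rfl) | rfl
    · exact Or.inl ⟨hcg.symm.trans L.map_one, fun x hx => ⟨(hmap x hx).1, (hmap x hx).2.1, (hmap x hx).2.2.2⟩⟩
    · exfalso
      rw [L.map_s] at hcg
      refine hne ?_
      rw [← hgz]
      conv_lhs => rw [hcg]
      conv_rhs => rw [hcg]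
      group
    · exfalso
      refine hne ?_
      rw [← hgu]
      conv_lhs => rw [hcg]
      conv_rhs => rw [hcg]
      group
    · refine Or.inr ⟨?_, hmap'⟩
      rw [L.hom _ _ mem_sC hum, L.map_s] at hcg
      calc g * z * (g * z) = (g * z * g⁻¹) * (g * g) * z := by group
        _ = I (repC i) * (z * I (repC i)) * z := by rw [hgz, hcg]
        _ = I (repC i) * (I (repC i) * z) * z := by rw [L.comm_z hum]
        _ = (I (repC i) * I (repC i)) * (z * z) := by group
        _ = 1 := by rw [L.mul_self_z, mul_one, L.mul_self_of_conj (isConj_iff.2 ⟨g, hgu⟩)]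
  exact hsw.elim (fun h => ⟨_, h⟩) fun h => ⟨_, h⟩

/-- The other choice of the swapping involution. -/
theorem swap_gauge {i : ℕ} {gens imgs : List ℕ} {t : CTree} (hok : swapOk i gens imgs t = true) {a : G}
    (ha : Swap I a t) : Swap I (a * I (mulC sC (repC i))) t := by
  have hok' := hok
  simp only [swapOk, Bool.and_eq_true, List.all_eq_true, Nat.beq_eq] at hok'
  obtain ⟨⟨⟨⟨⟨⟨⟨hall, hts⟩, htu⟩, -⟩, -⟩, -⟩, -⟩, -⟩ := hok'
  have hum : Mem (repC i) := Mem.rep i
  have h8 : ∀ {c : ℕ}, Mem c → c ≠ 8 := fun h e => not_mem_eight (e ▸ h)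
  have hu := (ha.map sC (hts ▸ h8 hum)).2.2
  have hz := (ha.map (repC i) (htu ▸ h8 mem_sC)).2.2
  rw [hts, L.map_s] at hu
  rw [htu, L.map_s] at hz
  have hai : a⁻¹ = a := inv_eq_of_mul_eq_one_left ha.sq
  refine ⟨?_, fun x hx => ?_⟩
  · rw [L.hom _ _ mem_sC hum, L.map_s]
    calc a * (z * I (repC i)) * (a * (z * I (repC i)))
        = (a * z * a⁻¹) * (a * I (repC i) * a⁻¹) * (a * a) * (z * I (repC i)) := by group
      _ = I (repC i) * z * (z * I (repC i)) := by rw [hu, hz, ha.sq, mul_one]
      _ = I (repC i) * (z * z) * I (repC i) := by group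
      _ = 1 := by rw [L.mul_self_z, mul_one, L.mul_self_of_conj (isConj_iff.2 ⟨a, hz⟩)]
  · obtain ⟨h1, h2, h3⟩ := ha.map x hx
    refine ⟨h1, h2, ?_⟩
    have hcm : mulC x (repC i) = mulC (repC i) x := by
      have h' : t.find x ≠ 8 := fun h => hx (by rw [mapC, force_eq, h]; rfl)
      have := hall _ ((CTree.find_mem t x).resolve_left h')
      simp only [entOk, Bool.and_eq_true, commC, Nat.beq_eq] at this
      exact this.1.2
    have hco : mulC x (mulC sC (repC i)) = mulC (mulC sC (repC i)) x := by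
      rw [← mulC_assoc, h1.comm, mulC_assoc, hcm, mulC_assoc]
    have hI := (L.comm_iff h1 (mem_sC.mul hum)).2 hco
    calc a * I (mulC sC (repC i)) * I x * (a * I (mulC sC (repC i)))⁻¹
        = a * (I (mulC sC (repC i)) * I x) * (I (mulC sC (repC i)))⁻¹ * a⁻¹ := by group
      _ = a * I x * a⁻¹ := by rw [← hI]; group
      _ = _ := h3

end Loc

end Cfsg.Agent.Fus.Transv
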