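import Cfsg.Agent.Lib.Fus.Transv.STBase

/-!
# A Sylow subgroup inside the centralizer of the involution
-/

set_option autoImplicit false
set_option maxRecDepth 100000

namespace Cfsg.Agent.Fus.Transv

/-- The elements of the kernel. -/
def qList : List ℕ :=
  (List.range 8).flatMap fun w => (List.range 8).flatMap fun v => (List.range 2).map fun x => mkC x v w 273

theorem qList_ok : ((qList.all fun a => inH a && inQ a && Nat.beq (mulC (mulC a a) (mulC a a)) oneC &&
    qList.all fun b => Cfsg.Agent.Spor.Cos.force (mulC a b) fun y => inH y && inQ y) && qList.contains oneC &&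
    (qTest.all qList.contains) &&
    (List.range 16).all fun k => inH (eC k) && inQ (eC k)) = true := by decide +kernel

theorem cent_Q : ((elems.filter fun c => (qTest ++ [eC 2, eC 4, eC 8]).all fun q => commC c q).all fun c =>
    Nat.beq c oneC || Nat.beq c sC) = true := by decide +kernel

theorem inQ_elems : ((elems.filter inQ).all qList.contains) = true := by decide +kernel

/-- The kernel as a subgroup. -/
def QG {G : Type*} [Group G] {z : G} {I : ℕ → G} (L : Loc z I) : Subgroup G :=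
  Subgroup.closure {x | ∃ c ∈ qList, I c = x}

namespace Loc

variable {G : Type*} [Group G] {z : G} {I : ℕ → G} (L : Loc z I)
include L

theorem q_mem {c : ℕ} (h : c ∈ qList) : Mem c := by
  have := qList_ok
  simp only [Bool.and_eq_true, List.all_eq_true] at this
  exact (this.1.1.1 c h).1.1.1

theorem q_closed {c : ℕ} (h1 : inH c = true) (h2 : inQ c = true) : c ∈ qList := by
  exact List.contains_iff_mem.1 (List.all_eq_true.1 inQ_elems c (List.mem_filter.2 ⟨mem_of_inH h1, h2⟩))

theorem mem_QG {x : G} : x ∈ QG L ↔ ∃ c ∈ qList, I c = x := by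
  refine ⟨fun hx => ?_, fun h => Subgroup.subset_closure h⟩
  have hq := qList_ok
  simp only [Bool.and_eq_true, List.all_eq_true, List.contains_iff_mem, Nat.beq_eq, Cfsg.Agent.Spor.Cos.force_eq] at hq
  obtain ⟨⟨⟨hall, hone⟩, -⟩, -⟩ := hq
  induction hx using Subgroup.closure_induction with
  | mem y hy => exact hy
  | one => exact ⟨oneC, hone, L.map_one⟩
  | mul a b _ _ ha hb =>
    obtain ⟨c, hc, rfl⟩ := ha
    obtain ⟨d, hd, rfl⟩ := hb
    exact ⟨mulC c d, L.q_closed ((hall c hc).2 d hd).1 ((hall c hc).2 d hd).2, L.hom _ _ (L.q_mem hc) (L.q_mem hd)⟩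
  | inv a _ ha =>
    obtain ⟨c, hc, rfl⟩ := ha
    have hqq := fun d hd => L.q_closed ((hall c hc).2 d hd).1 ((hall c hc).2 d hd).2
    refine ⟨mulC c (mulC c c), hqq _ (hqq c hc), ?_⟩
    have hcm := L.q_mem hc
    refine eq_inv_of_mul_eq_one_left ?_
    rw [← L.hom _ _ (hcm.mul (hcm.mul hcm)) hcm, mulC_assoc, mulC_assoc, ← mulC_assoc c c (mulC c c),
      (hall c hc).1.2, L.map_one]

theorem QG_le : QG L ≤ Subgroup.centralizer ({z} : Set G) := fun _ hx => by
  obtain ⟨c, hc, rfl⟩ := L.mem_QG.1 hx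
  exact Subgroup.mem_centralizer_singleton_iff.2 (L.comm_z (L.q_mem hc))

theorem EG_le_QG : EG L ≤ QG L := fun _ hx => by
  obtain ⟨k, hk, rfl⟩ := hx
  have := qList_ok
  simp only [Bool.and_eq_true, List.all_eq_true, List.contains_iff_mem] at this
  exact L.mem_QG.2 ⟨_, L.q_closed (this.2 k (List.mem_range.2 hk)).1 (this.2 k (List.mem_range.2 hk)).2, rfl⟩

theorem QG_two : IsPGroup 2 (QG L) := by
  intro x
  obtain ⟨c, hc, e⟩ := L.mem_QG.1 x.2
  have h4 := qList_ok
  simp only [Bool.and_eq_true, List.all_eq_true, Nat.beq_eq] at h4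
  have hcm := L.q_mem hc
  refine ⟨2, Subtype.ext ?_⟩
  show (x : G) ^ 2 ^ 2 = 1
  rw [← e, show (2 : ℕ) ^ 2 = 2 + 2 from rfl, pow_add, pow_two, ← L.hom _ _ hcm hcm,
    ← L.hom _ _ (hcm.mul hcm) (hcm.mul hcm), (h4.1.1.1 c hc).1.2, L.map_one]

/-- A Sylow subgroup of the group lies in the centralizer of `z`. -/
theorem exists_sylow [Finite G] :
    ∃ P : Sylow 2 G, QG L ≤ (P : Subgroup G) ∧ (P : Subgroup G) ≤ Subgroup.centralizer ({z} : Set G) := by
  haveI : Fact (Nat.Prime 2) := ⟨Nat.prime_two⟩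
  obtain ⟨P, hP⟩ := L.QG_two.exists_le_sylow
  refine ⟨P, hP, ?_⟩
  have hzQ : z ∈ QG L := L.EG_le_QG L.z_EG
  haveI : Nontrivial (P : Subgroup G) := ⟨⟨⟨z, hP hzQ⟩, 1, fun h => L.z_ne_one (congrArg Subtype.val h)⟩⟩
  haveI := P.isPGroup'.center_nontrivial
  obtain ⟨⟨w, hw⟩, hw1⟩ := exists_ne (1 : Subgroup.center (P : Subgroup G))
  have hcomm : ∀ y, y ∈ (P : Subgroup G) → (w : G) * y = y * w := fun y hy =>
    (congrArg Subtype.val (Subgroup.mem_center_iff.1 hw ⟨y, hy⟩)).symm
  obtain ⟨c, hc, e⟩ := (L.range _).1 (hcomm z (hP hzQ))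
  have h := List.all_eq_true.1 cent_Q c (List.mem_filter.2 ⟨mem_iff_elems.1 hc, List.all_eq_true.2 fun q hq => by
    have hq' : q ∈ qList :=
      List.contains_iff_mem.1 (List.all_eq_true.1 (by decide +kernel : (qTest ++ [eC 2, eC 4, eC 8]).all qList.contains = true) q hq)
    simp only [commC, Nat.beq_eq]
    refine (L.comm_iff hc (L.q_mem hq')).1 ?_
    rw [e]; exact hcomm _ (hP (L.mem_QG.2 ⟨q, hq', rfl⟩))⟩)
  simp only [Bool.or_eq_true, Nat.beq_eq] at h
  rcases h with rfl | rfl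
  · exact absurd (Subtype.ext (Subtype.ext (e.symm.trans L.map_one))) hw1
  · intro y hy
    have := hcomm y hy
    rw [← e, L.map_s] at this
    exact Subgroup.mem_centralizer_singleton_iff.2 this.symm

end Loc

end Cfsg.Agent.Fus.Transv
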