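import Cfsg.Agent.Lib.Fus.Transv.Rel

/-!
# Pairs of normalising elements in two groups at once
-/

set_option autoImplicit false
set_option maxRecDepth 100000

namespace Cfsg.Agent.Fus.Transv

open Cfsg.Agent.Spor.Cos (force force_eq ev ev_map)
open NCtx (NS)

/-- Generating words of the normaliser with their permutations. -/
structure TData where
  /-- the words, their permutations, and the triples of those in the generators -/
  gens : List (List ℕ × List ℕ × (ℕ × ℕ × ℕ))
  /-- the indices of the generators -/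
  key0 : ℕ
  /-- all images of the generators -/
  keys : CTree

namespace TData

variable (T : TData) (P : PData) (ta tb : CTree)

/-- A digit of a key. -/
def dig (key i : ℕ) : ℕ := key / 64 ^ i % 64

/-- The image of a key. -/
def stepKey (tab : List ℕ) (key : ℕ) : ℕ → ℕ
  | 0 => 0
  | n + 1 => stepKey tab key n + 64 ^ n * tab.getD (dig key n) 0

/-- All checks. -/
noncomputable def ok : Bool :=
  Nat.ble P.d.gA.length 6 && Nat.ble P.d.A.length 64 &&
    (List.range P.d.gA.length).all (fun i => Nat.beq (P.d.A.getD (dig T.key0 i) oneC) (P.d.gA.getD i oneC)) &&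
    !Nat.beq (T.keys.find T.key0) 8 &&
    (T.gens.all fun g => (g.1.all fun s => Nat.blt s 6) && (g.1 == P.d.xW || g.1 == P.y.yW' ||
        ((g.1.all fun s => Nat.blt s 4) && P.d.cOk ta tb g.2.2 && Nat.beq (wC g.1) (NData.cCode g.2.2))) &&
      (g.2.1.all fun k => Nat.blt k P.d.A.length) && Nat.beq g.2.1.length P.d.A.length &&
      (List.range P.d.A.length).all fun k =>
        Nat.beq (act ta tb g.1 (P.d.A.getD k oneC)) (P.d.A.getD (g.2.1.getD k 0) oneC)) &&
    T.keys.toList.all fun e => (List.range P.d.gA.length).all (fun i => Nat.blt (dig e.1 i) P.d.A.length) &&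
      T.gens.all fun g => !Nat.beq (T.keys.find (stepKey g.2.1 e.1 P.d.gA.length)) 8

theorem dig_stepKey {tab : List ℕ} (ht : ∀ k, tab.getD k 0 < 64) (key : ℕ) :
    ∀ n i, i < n → dig (stepKey tab key n) i = tab.getD (dig key i) 0 := by
  have hlt : ∀ n, stepKey tab key n < 64 ^ n := by
    intro n
    induction n with
    | zero => simp [stepKey]
    | succ n ih =>
      have := ht (dig key n)
      have : 64 ^ n * tab.getD (dig key n) 0 ≤ 64 ^ n * 63 := Nat.mul_le_mul_left _ (by omega)
      rw [stepKey, pow_succ]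
      omega
  intro n
  induction n with
  | zero => intro i hi; omega
  | succ n ih =>
    intro i hi
    rcases Nat.lt_or_ge i n with h | h
    · rw [← ih i h]
      show (stepKey tab key n + 64 ^ n * tab.getD (dig key n) 0) / 64 ^ i % 64 = stepKey tab key n / 64 ^ i % 64
      obtain ⟨m, rfl⟩ : ∃ m, n = i + 1 + m := ⟨n - i - 1, by omega⟩
      generalize tab.getD (dig key (i + 1 + m)) 0 = v
      rw [show 64 ^ (i + 1 + m) * v = 64 ^ i * (64 * (64 ^ m * v)) by ring,
        Nat.add_mul_div_left _ _ (by positivity), Nat.add_mul_mod_self_left]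
    · obtain rfl : i = n := by omega
      unfold dig stepKey
      rw [Nat.add_mul_div_left _ _ (by positivity), Nat.div_eq_of_lt (hlt i), zero_add, Nat.mod_eq_of_lt (ht _)]
      rfl

/-- A pair of elements with the same action and the same pair in both groups. -/
def Norms {G G' : Type*} [Group G] [Group G'] (I : ℕ → G) (a b : G) (I' : ℕ → G') (a' b' : G') (g : G × G')
    (key : ℕ) : Prop :=
  T.keys.find key ≠ 8 ∧
    (∀ i < P.d.gA.length, g.1 * I (P.d.gA.getD i oneC) * g.1⁻¹ = I (P.d.A.getD (dig key i) oneC) ∧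
      g.2 * I' (P.d.gA.getD i oneC) * g.2⁻¹ = I' (P.d.A.getD (dig key i) oneC)) ∧
    ∃ x e, NS I a b P.d g.1 x e ∧ NS I' a' b' P.d g.2 x e

theorem getD_mem_A {k : ℕ} (h1 : oneC ∈ P.d.A) : P.d.A.getD k oneC ∈ P.d.A := by
  by_cases hk : k < P.d.A.length
  · rw [List.getD_eq_getElem _ _ hk]; exact List.getElem_mem hk
  · rw [List.getD_eq_default _ _ (by omega)]; exact h1

variable {G G' : Type*} [Group G] [Group G'] {z : G} {I : ℕ → G} {a b : G} {z' : G'} {I' : ℕ → G'} {a' b' : G'}
variable {T P ta tb}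

/-- A generating word acts and has its pair in one group. -/
theorem gen_spec (L : Loc z I) (hp : Pair I a b ta tb) (h : PGood z I a b ta tb P) (hok : T.ok P ta tb = true)
    {w : List ℕ × List ℕ × (ℕ × ℕ × ℕ)} (hw : w ∈ T.gens) :
    (∀ k, k < P.d.A.length → ev (gW I a b) w.1 * I (P.d.A.getD k oneC) * (ev (gW I a b) w.1)⁻¹ =
      I (P.d.A.getD (w.2.1.getD k 0) oneC)) ∧
    NS I a b P.d (ev (gW I a b) w.1)
      (bif w.1 == P.d.xW || w.1 == P.y.yW' then oneC else P.d.cDel ta tb w.2.2)
      (bif w.1 == P.d.xW then 1 else bif w.1 == P.y.yW' then P.y.e else w.2.2.2.2) := by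
  have C := h.ctx L hp
  simp only [ok, Bool.and_eq_true, List.all_eq_true, List.mem_range, Bool.or_eq_true, beq_iff_eq, Nat.blt_eq,
    Nat.beq_eq] at hok
  obtain ⟨⟨-, hgens⟩, -⟩ := hok
  obtain ⟨⟨⟨⟨h6, hkind⟩, -⟩, -⟩, htab⟩ := hgens w hw
  refine ⟨fun k hk => ?_, ?_⟩
  · have hm := (C.good.mem _ (getD_mem_A P (k := k) C.good.one)).1
    have hm' := (C.good.mem _ (getD_mem_A P (k := w.2.1.getD k 0) C.good.one)).1
    have := (hp.act_sound _ hm h6 fun e => not_mem_eight (by rw [← e, htab k hk]; exact hm')).2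
    rwa [htab k hk] at this
  · have c1 : ∀ (u v : ℕ) (p q : Bool), p = true → (bif p || q then u else v) = u := by
      rintro u v p q rfl; rfl
    have c1' : ∀ (u v : ℕ) (p q : Bool), q = true → (bif p || q then u else v) = u := by
      rintro u v p q rfl; cases p <;> rfl
    have c2 : ∀ (u v : ℕ) (p : Bool), p = true → (bif p then u else v) = u := by
      rintro u v p rfl; rfl
    have c3 : ∀ (u v : ℕ) (p : Bool), p = false → (bif p then u else v) = v := by
      rintro u v p rfl; rfl
    by_cases hx : w.1 = P.d.xW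
    · have hb : (w.1 == P.d.xW) = true := beq_iff_eq.2 hx
      have e0 : NS I a b P.d (ev (gW I a b) P.d.xW) oneC 1 :=
        ⟨C.good.one, Or.inl rfl, by rw [L.map_one, one_mul, pow_one, mul_inv_cancel_right]⟩
      rw [c1 _ _ _ _ hb, c2 _ _ _ hb, hx]
      exact e0
    · by_cases hy : w.1 = P.y.yW'
      · have hb : (w.1 == P.y.yW') = true := beq_iff_eq.2 hy
        have hpok := h.ok
        simp only [PData.ok, Bool.and_eq_true] at hpok
        rw [c1' _ _ _ _ hb, c3 _ _ _ (beq_false_of_ne hx), c2 _ _ _ hb, hy]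
        exact C.NS_y' (P.d.ygood_of_ok _ _ _ hpok.1.2) h.opt
      · obtain ⟨⟨h4, hc⟩, he⟩ := hkind.resolve_left fun e => e.elim hx hy
        rw [c3 _ _ _ (by simp [beq_false_of_ne hx, beq_false_of_ne hy]), c3 _ _ _ (beq_false_of_ne hx),
          c3 _ _ _ (beq_false_of_ne hy), hp.ev_wC _ h4, he]
        exact (C.NS_cCode hc).2

variable (T P) in
/-- The value of a generating word in both groups. -/
def pairW (I : ℕ → G) (a b : G) (I' : ℕ → G') (a' b' : G') (w : List ℕ) : G × G' :=
  (ev (gW I a b) w, ev (gW I' a' b') w)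

theorem norms_mul (L : Loc z I) (hp : Pair I a b ta tb) (h : PGood z I a b ta tb P) (L' : Loc z' I')
    (hp' : Pair I' a' b' ta tb) (h' : PGood z' I' a' b' ta tb P) (hok : T.ok P ta tb = true)
    {w : List ℕ × List ℕ × (ℕ × ℕ × ℕ)} (hw : w ∈ T.gens) {g : G × G'} {key : ℕ}
    (hg : T.Norms P I a b I' a' b' g key) :
    ∃ key', T.Norms P I a b I' a' b' (pairW I a b I' a' b' w.1 * g) key' := by
  have C := h.ctx L hp
  obtain ⟨hmap, hns⟩ := gen_spec L hp h hok hw
  obtain ⟨hmap', hns'⟩ := gen_spec L' hp' h' hok hw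
  obtain ⟨hkey, himg, x, e, hx, hx'⟩ := hg
  simp only [ok, Bool.and_eq_true, List.all_eq_true, List.mem_range, Nat.blt_eq, Nat.beq_eq, Nat.ble_eq,
    Bool.not_eq_true'] at hok
  obtain ⟨⟨⟨⟨⟨h6, h64⟩, -⟩, -⟩, hgens⟩, hclos⟩ := hok
  obtain ⟨⟨⟨-, hlt⟩, hlen⟩, -⟩ := hgens w hw
  have hget : ∀ k, w.2.1.getD k 0 < 64 := fun k => by
    by_cases hk : k < w.2.1.length
    · rw [List.getD_eq_getElem _ _ hk]; have := hlt _ (List.getElem_mem hk); omega
    · rw [List.getD_eq_default _ _ (by omega)]; norm_num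
  have hdig : ∀ i, i < P.d.gA.length → dig key i < P.d.A.length → dig key i < w.2.1.length := fun i _ h => by omega
  refine ⟨stepKey w.2.1 key P.d.gA.length, ?_, fun i hi => ?_, ?_⟩
  · have := (hclos _ ((CTree.find_mem _ _).resolve_left hkey)).2 w hw
    exact fun e => by rw [e] at this; simp at this
  · rw [dig_stepKey hget key _ _ hi]
    obtain ⟨e1, e2⟩ := himg i hi
    have hk := (hclos _ ((CTree.find_mem _ _).resolve_left hkey)).1 i hi
    constructor
    · rw [← hmap _ hk, ← e1]; simp only [pairW, Prod.fst_mul]; group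
    · rw [← hmap' _ hk, ← e2]; simp only [pairW, Prod.snd_mul]; group
  · obtain ⟨k, hk, hkx⟩ : ∃ k, k < P.d.A.length ∧ P.d.A.getD k oneC = x := by
      obtain ⟨k, hk, rfl⟩ := List.getElem_of_mem hx.1
      exact ⟨k, hk, List.getD_eq_getElem _ _ hk⟩
    have hm := getD_mem_A P (k := w.2.1.getD k 0) C.good.one
    have C' := h'.ctx L' hp'
    exact ⟨_, _, C.NS_mul hns hx hm (hkx ▸ hmap k hk), C'.NS_mul hns' hx' hm (hkx ▸ hmap' k hk)⟩

/-- The generated group is small. -/
theorem card_le [Finite G] [Finite G'] (L : Loc z I) (hp : Pair I a b ta tb) (h : PGood z I a b ta tb P)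
    (L' : Loc z' I') (hp' : Pair I' a' b' ta tb) (h' : PGood z' I' a' b' ta tb P) (hok : T.ok P ta tb = true) :
    Nat.card (Subgroup.closure {g | ∃ w ∈ T.gens, pairW I a b I' a' b' w.1 = g} : Subgroup (G × G')) ≤
      P.d.A.length * T.keys.toList.length := by
  classical
  set S := {g : G × G' | ∃ w ∈ T.gens, pairW I a b I' a' b' w.1 = g}
  have C := h.ctx L hp
  have C' := h'.ctx L' hp'
  have hall : ∀ g ∈ Submonoid.closure S, ∃ key, T.Norms P I a b I' a' b' g key := by
    intro g hg
    induction hg using Submonoid.closure_induction_left with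
    | one =>
      have hok' := hok
      simp only [ok, Bool.and_eq_true, List.all_eq_true, List.mem_range, Nat.beq_eq, Bool.not_eq_true'] at hok'
      refine ⟨T.key0, fun e => by rw [e] at hok'; simp at hok', fun i hi => ?_, oneC, 1, C.NS_one, C'.NS_one⟩
      rw [hok'.1.1.1.2 i hi]
      simp
    | mul_left x hx y hy ih =>
      obtain ⟨w, hw, rfl⟩ := hx
      obtain ⟨key, hkey⟩ := ih
      exact norms_mul L hp h L' hp' h' hok hw hkey
  have hmem : ∀ g : Subgroup.closure S, ∃ key, T.Norms P I a b I' a' b' (g : G × G') key := fun g => hall _ (by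
    rw [← Subgroup.closure_toSubmonoid_of_finite]; exact g.2)
  choose key hkey using hmem
  -- a representative of each key
  let rep : ℕ → G × G' := fun k =>
    if hk : ∃ g : Subgroup.closure S, key g = k then ((hk.choose : Subgroup.closure S) : G × G') else 1
  have hfib : ∀ g : Subgroup.closure S, ∃ c ∈ P.d.A, (rep (key g))⁻¹ * (g : G × G') = (I c, I' c) := by
    intro g
    have hk : ∃ g' : Subgroup.closure S, key g' = key g := ⟨g, rfl⟩
    simp only [rep, dif_pos hk]
    set r := hk.choose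
    have hr : key r = key g := hk.choose_spec
    obtain ⟨-, himg, x, e, hx, hx'⟩ := hkey g
    obtain ⟨-, himr, -⟩ := hkey r
    rw [hr] at himr
    set j := ((r : G × G'))⁻¹ * (g : G × G')
    have hfix : ∀ y ∈ P.d.gA, j.1 * I y = I y * j.1 ∧ j.2 * I' y = I' y * j.2 := fun y hy => by
      obtain ⟨i, hi, rfl⟩ := List.getElem_of_mem hy
      rw [← List.getD_eq_getElem _ oneC hi]
      obtain ⟨e1, e2⟩ := himg i hi
      obtain ⟨f1, f2⟩ := himr i hi
      rw [← f1] at e1
      rw [← f2] at e2
      constructor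
      · refine mul_inv_eq_iff_eq_mul.1 ?_
        simp only [j, Prod.fst_mul, Prod.fst_inv]
        calc _ = (r : G × G').1⁻¹ * ((g : G × G').1 * I (P.d.gA.getD i oneC) * (g : G × G').1⁻¹) * (r : G × G').1 := by
              group
          _ = _ := by rw [e1]; group
      · refine mul_inv_eq_iff_eq_mul.1 ?_
        simp only [j, Prod.snd_mul, Prod.snd_inv]
        calc _ = (r : G × G').2⁻¹ * ((g : G × G').2 * I' (P.d.gA.getD i oneC) * (g : G × G').2⁻¹) * (r : G × G').2 := by
              group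
          _ = _ := by rw [e2]; group
    obtain ⟨-, -, x', e', hj1, hj2⟩ := (hall j (by
      rw [← Subgroup.closure_toSubmonoid_of_finite]
      exact Subgroup.mul_mem _ (Subgroup.inv_mem _ r.2) g.2)).choose_spec
    obtain ⟨c, hc, hcj⟩ := C.fix_mem fun y hy => (hfix y hy).1
    obtain ⟨c', hc', hcj'⟩ := C'.fix_mem fun y hy => (hfix y hy).2
    rw [hcj] at hj1
    rw [hcj'] at hj2
    obtain ⟨h1, -⟩ := C.NS_uniq hj1 (C.NS_A hc)
    obtain ⟨h2, -⟩ := C'.NS_uniq hj2 (C'.NS_A hc')
    refine ⟨c, hc, Prod.ext hcj (hcj'.trans ?_)⟩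
    congr 1
    have heq := h1.symm.trans h2
    simp only [NData.piE, Nat.beq_refl, cond_true] at heq
    have hd := C.good.mul _ hc _ hc'
    have hfp : P.d.pi ta tb (mulC c c') = mulC c c' := by
      have m1 := C.good.mem c hc
      have m2 := C.good.mem c' hc'
      have e3 : I c * I (P.d.pi ta tb c) = I c' * I (P.d.pi ta tb c') := by
        rw [← L.hom _ _ m1.1 m1.2.2.1, ← L.hom _ _ m2.1 m2.2.2.1, heq]
      refine L.inj _ _ (C.good.mem _ hd).2.2.1 (m1.1.mul m2.1) ?_
      rw [← C.conj_X hd, L.hom _ _ m1.1 m2.1]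
      calc _ = ev (gW I a b) P.d.xW * I c * (ev (gW I a b) P.d.xW)⁻¹ *
            (ev (gW I a b) P.d.xW * I c' * (ev (gW I a b) P.d.xW)⁻¹) := by group
        _ = _ := ?_
      rw [C.conj_X hc, C.conj_X hc', eq_inv_mul_of_mul_eq e3, C.A_inv hc, mul_assoc, mul_assoc, C.A_sq m2.2.2.2,
        mul_one]
    have hone := C.good.fpf _ hd hfp
    refine C.loc.inj _ _ (C.good.mem _ hc').1 (C.good.mem _ hc).1 ?_
    have h4 : I c * I c' = 1 := by rw [C.A_mul hc hc', hone, L.map_one]
    rw [eq_inv_of_mul_eq_one_right h4, C.A_inv hc]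
  choose c hc hceq using hfib
  let kl := (T.keys.toList.map Prod.fst).toFinset
  let Al := P.d.A.toFinset
  let f : Subgroup.closure S → (kl ×ˢ Al : Finset (ℕ × ℕ)) := fun g =>
    ⟨(key g, c g), Finset.mem_product.2 ⟨List.mem_toFinset.2 (List.mem_map.2
      ⟨_, (CTree.find_mem _ _).resolve_left (hkey g).1, rfl⟩), List.mem_toFinset.2 (hc g)⟩⟩
  have hf : Function.Injective f := fun g g' he => by
    have e := congrArg Subtype.val he
    simp only [f, Prod.mk.injEq] at e
    have h1 := hceq g
    rw [e.1, e.2, ← hceq g'] at h1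
    exact Subtype.ext (mul_left_cancel h1)
  refine (Nat.card_le_card_of_injective f hf).trans ?_
  rw [Nat.card_eq_fintype_card, Fintype.card_coe, Finset.card_product, Nat.mul_comm]
  refine Nat.mul_le_mul (List.toFinset_card_le _) ((List.toFinset_card_le _).trans ?_)
  simp

end TData

end Cfsg.Agent.Fus.Transv
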