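import Cfsg.Agent.Lib.Fus.Transv.TBound

/-! Generated data for the centralizer of a transvection. -/

set_option autoImplicit false
set_option maxRecDepth 100000

namespace Cfsg.Agent.Fus.Transv

/-- A piece of the keys. -/
def tkeysH0 : CTree := (.node 4134472661 1 (.node 2722720669 1 (.node 1915047879 1 (.node 1646479877 1 (.node 1545843714 1 (.node 1445078531 1 (.node 1428399619 1 (.node 1411802819 1 (.node 1411589635 1 .leaf .leaf) .leaf) (.node 1428616899 1 .leaf .leaf)) (.node 1461888515 1 (.node 1445414595 1 .leaf .leaf) (.node 1462228675 1 .leaf .leaf))) (.node 1579332610 1 (.node 1562588162 1 (.node 1546024066 1 .leaf .leaf) (.node 1562829954 1 .leaf .leaf)) (.node 1596077058 1 (.node 1579635842 1 .leaf .leaf) (.node 1596441730 1 .leaf .leaf)))) (.node 1780840708 1 (.node 1713843013 1 (.node 1663433541 1 (.node 1663289861 1 (.node 1646619461 1 .leaf .leaf) .leaf) (.node 1713457669 1 .leaf .leaf)) (.node 1730657093 1 (.node 1730267653 1 .leaf .leaf) (.node 1780733956 1 .leaf .leaf))) (.node 1848064260 1 (.node 1797646596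 1 (.node 1797478404 1 .leaf .leaf) (.node 1847711748 1 .leaf .leaf)) (.node 1864870148 1 (.node 1864456196 1 .leaf .leaf) (.node 1914859015 1 .leaf .leaf))))) (.node 2235728385 1 (.node 2065857542 1 (.node 1965157895 1 (.node 1948347911 1 (.node 1931861959 1 (.node 1931668999 1 .leaf .leaf) .leaf) (.node 1948659655 1 .leaf .leaf)) (.node 2049113094 1 (.node 1965473735 1 .leaf .leaf) (.node 2049269126 1 .leaf .leaf))) (.node 2099346438 1 (.node 2082601990 1 (.node 2066075014 1 .leaf .leaf) (.node 2082880902 1 .leaf .leaf)) (.node 2218918401 1 (.node 2099686790 1 .leaf .leaf) (.node 2219459137 1 .leaf .leaf)))) (.node 2504718019 1 (.node 2269901377 1 (.node 2253087297 1 (.node 2252538369 1 (.node 2236273217 1 .leaf .leaf) .leaf) (.node 2269348353 1 .leaf .leaf)) (.node 2487903939 1 (.node 2487428611 1 .leaf .leaf) (.node 2504238595 1 .leaf .leaf))) (.node 2538329795 1 (.node 2521515715 1 (.node 2520917507 1 .leaf .leaf) (.node 2537727491 1 .leaf .leaf)) (.node 2689092509 1 (.node 2688699613 1 .leaf .leaf) (.node 2722319581 1 .leaf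 .leaf)))))) (.node 3329188417 1 (.node 3024187100 1 (.node 2906675423 1 (.node 2822954716 1 (.node 2789296862 1 (.node 2756316510 1 (.node 2755676894 1 .leaf .leaf) .leaf) (.node 2789944670 1 .leaf .leaf)) (.node 2856574684 1 (.node 2823313884 1 .leaf .leaf) (.node 2856942044 1 .leaf .leaf))) (.node 2957207775 1 (.node 2940295391 1 (.node 2907344671 1 .leaf .leaf) (.node 2940972831 1 .leaf .leaf)) (.node 2990696671 1 (.node 2957537055 1 .leaf .leaf) (.node 2991148831 1 .leaf .leaf)))) (.node 3175787421 1 (.node 3091758430 1 (.node 3058371036 1 (.node 3057675996 1 (.node 3024759260 1 .leaf .leaf) .leaf) (.node 3091462878 1 .leaf .leaf)) (.node 3125370206 1 (.node 3124951774 1 .leaf .leaf) (.node 3175185629 1 .leaf .leaf))) (.node 3295560257 1 (.node 3209399197 1 (.node 3208674525 1 .leaf .leaf) (.node 3294757377 1 .leaf .leaf)) (.node 3312374337 1 (.node 3311567361 1 .leaf .leaf) (.node 3328377345 1 .leaf .leaf))))) (.node 3881945751 1 (.node 3747755010 1 (.node 3714266114 1 (.node 3697521666 1 (.node 3346002497 1 (.node 3345187329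 1 .leaf .leaf) .leaf) (.node 3698226306 1 .leaf .leaf)) (.node 3731010562 1 (.node 3715032194 1 .leaf .leaf) (.node 3731838082 1 .leaf .leaf))) (.node 3814968981 1 (.node 3764539029 1 (.node 3748643970 1 .leaf .leaf) (.node 3765193685 1 .leaf .leaf)) (.node 3831515799 1 (.node 3815635925 1 .leaf .leaf) (.node 3832418135 1 .leaf .leaf)))) (.node 4000267542 1 (.node 3949848980 1 (.node 3899414932 1 (.node 3898793108 1 (.node 3882860375 1 .leaf .leaf) .leaf) (.node 3949157524 1 .leaf .leaf)) (.node 3983445270 1 (.node 3982514326 1 .leaf .leaf) (.node 3999389846 1 .leaf .leaf))) (.node 4084064087 1 (.node 4033638231 1 (.node 4033047191 1 .leaf .leaf) (.node 4083346071 1 .leaf .leaf)) (.node 4117674965 1 (.node 4116835989 1 .leaf .leaf) (.node 4133514901 1 .leaf .leaf))))))) (.node 5682564839 1 (.node 4874922821 1 (.node 4571868523 1 (.node 4336976385 1 (.node 4234280084 1 (.node 4217534614 1 (.node 4167859478 1 (.node 4167301270 1 .leaf .leaf) .leaf) (.node 4218277142 1 .leaf .leaf)) (.node 4284513428 1 (.node 4235082132 1 .leaf .leaf)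 (.node 4285499796 1 .leaf .leaf))) (.node 4404216321 1 (.node 4353786369 1 (.node 4338033217 1 .leaf .leaf) (.node 4354847297 1 .leaf .leaf)) (.node 4421026305 1 (.node 4405289537 1 .leaf .leaf) (.node 4422103617 1 .leaf .leaf)))) (.node 4707071466 1 (.node 4640106411 1 (.node 4606463214 1 (.node 4605355886 1 (.node 4572850091 1 .leaf .leaf) .leaf) (.node 4639108459 1 .leaf .leaf)) (.node 4673719534 1 (.node 4672595822 1 .leaf .leaf) (.node 4706123626 1 .leaf .leaf))) (.node 4774327786 1 (.node 4757491375 1 (.node 4756354415 1 .leaf .leaf) (.node 4773363562 1 .leaf .leaf)) (.node 4824747695 1 (.node 4823594351 1 .leaf .leaf) (.node 4873996805 1 .leaf .leaf))))) (.node 5293374827 1 (.node 5142376298 1 (.node 4957784581 1 (.node 4940974597 1 (.node 4891736901 1 (.node 4890806789 1 .leaf .leaf) .leaf) (.node 4942146373 1 .leaf .leaf)) (.node 5108884847 1 (.node 4958960453 1 .leaf .leaf) (.node 5109739183 1 .leaf .leaf))) (.node 5209354090 1 (.node 5175862639 1 (.node 5143348714 1 .leaf .leaf) (.node 5176962735 1 .leaf .leaf)) (.node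 5243139950 1 (.node 5210572266 1 .leaf .leaf) (.node 5243960558 1 .leaf .leaf)))) (.node 5430948417 1 (.node 5361600427 1 (.node 5311184110 1 (.node 5310117742 1 (.node 5294376875 1 .leaf .leaf) .leaf) (.node 5360352619 1 .leaf .leaf)) (.node 5414134337 1 (.node 5412815361 1 .leaf .leaf) (.node 5429625345 1 .leaf .leaf))) (.node 5498204737 1 (.node 5481390657 1 (.node 5480055297 1 .leaf .leaf) (.node 5496865281 1 .leaf .leaf)) (.node 5648951267 1 (.node 5647707939 1 .leaf .leaf) (.node 5681194791 1 .leaf .leaf)))))) (.node 6404091046 1 (.node 6151067652 1 (.node 5865946402 1 (.node 5781962018 1 (.node 5765244711 1 (.node 5733021667 1 (.node 5731757859 1 .leaf .leaf) .leaf) (.node 5766635239 1 .leaf .leaf)) (.node 5832193318 1 (.node 5783172514 1 .leaf .leaf) (.node 5833591974 1 .leaf .leaf))) (.node 6084089860 1 (.node 5882688806 1 (.node 5867234722 1 .leaf .leaf) (.node 5884042406 1 .leaf .leaf)) (.node 6100834308 1 (.node 6085245188 1 .leaf .leaf) (.node 6102051076 1 .leaf .leaf)))) (.node 6269877991 1 (.node 6185840359 1 (.node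 6169274628 1 (.node 6167812100 1 (.node 6152468740 1 .leaf .leaf) .leaf) (.node 6184724263 1 .leaf .leaf)) (.node 6236264419 1 (.node 6235025187 1 .leaf .leaf) (.node 6268512039 1 .leaf .leaf))) (.node 6320061606 1 (.node 6286673891 1 (.node 6285192995 1 .leaf .leaf) (.node 6318978342 1 .leaf .leaf)) (.node 6353671586 1 (.node 6352469282 1 .leaf .leaf) (.node 6402700582 1 .leaf .leaf))))) (.node 6824274427 1 (.node 6539084289 1 (.node 6505464321 1 (.node 6488654337 1 (.node 6437701026 1 (.node 6436191522 1 .leaf .leaf) .leaf) (.node 6490235457 1 .leaf .leaf)) (.node 6522274305 1 (.node 6507049537 1 .leaf .leaf) (.node 6523863617 1 .leaf .leaf))) (.node 6757033980 1 (.node 6723545595 1 (.node 6540677697 1 .leaf .leaf) (.node 6725052219 1 .leaf .leaf)) (.node 6790785020 1 (.node 6758664444 1 .leaf .leaf) (.node 6792308988 1 .leaf .leaf)))) (.node 6958529530 1 (.node 6908032509 1 (.node 6857800698 1 (.node 6825920315 1 .leaf .leaf) (.node 6859273594 1 .leaf .leaf)) (.node 6941783549 1 (.node 6909692605 1 .leaf .leaf) (.node 6943337149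 1 .leaf .leaf))) (.node 7025675258 1 (.node 6992053757 1 (.node 6960141690 1 .leaf .leaf) (.node 6993496765 1 .leaf .leaf)) (.node 7059033082 1 (.node 7027123578 1 .leaf .leaf) (.node 7060718970 1 .leaf .leaf))))))))

/-- A piece of the keys. -/
def tkeysH1 : CTree := (.node 10303514139 1 (.node 8942711072 1 (.node 7933639090 1 (.node 7345979335 1 (.node 7228569852 1 (.node 7178151739 1 (.node 7127718140 1 (.node 7126308860 1 (.node 7094348477 1 .leaf .leaf) .leaf) (.node 7176673787 1 .leaf .leaf)) (.node 7211747131 1 (.node 7210031611 1 .leaf .leaf) (.node 7226906620 1 .leaf .leaf))) (.node 7312367559 1 (.node 7295553479 1 (.node 7294053895 1 .leaf .leaf) (.node 7310863879 1 .leaf .leaf)) (.node 7329165255 1 (.node 7327542791 1 .leaf .leaf) (.node 7344352775 1 .leaf .leaf)))) (.node 7799385011 1 (.node 7598113281 1 (.node 7581303297 1 (.node 7566336577 1 (.node 7564493313 1 .leaf .leaf) .leaf) (.node 7583150657 1 .leaf .leaf)) (.node 7614923265 1 (.node 7599964737 1 .leaf .leaf) (.node 7616778817 1 .leaf .leaf))) (.node 7883433909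 1 (.node 7832872885 1 (.node 7801153395 1 .leaf .leaf) (.node 7834766069 1 .leaf .leaf)) (.node 7916923827 1 (.node 7885224693 1 .leaf .leaf) (.node 7918835571 1 .leaf .leaf))))) (.node 8203819188 1 (.node 8069597941 1 (.node 8002631860 1 (.node 7985793204 1 (.node 7983871412 1 (.node 7935374642 1 .leaf .leaf) .leaf) (.node 8000878004 1 .leaf .leaf)) (.node 8053048626 1 (.node 8051112370 1 .leaf .leaf) (.node 8067893173 1 .leaf .leaf))) (.node 8136820595 1 (.node 8120039283 1 (.node 8118324147 1 .leaf .leaf) (.node 8134871987 1 .leaf .leaf)) (.node 8187263733 1 (.node 8185300917 1 .leaf .leaf) (.node 8202147252 1 .leaf .leaf)))) (.node 8520891398 1 (.node 8319489460 1 (.node 8285870514 1 (.node 8237446450 1 (.node 8235768242 1 .leaf .leaf) .leaf) (.node 8287847730 1 .leaf .leaf)) (.node 8504146950 1 (.node 8321476788 1 .leaf .leaf) (.node 8505875846 1 .leaf .leaf))) (.node 8554380294 1 (.node 8537635846 1 (.node 8522681734 1 .leaf .leaf) (.node 8539487622 1 .leaf .leaf)) (.node 8925897064 1 (.node 8556293510 1 .leaf .leaf) (.node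 8928045928 1 .leaf .leaf)))))) (.node 9462751592 1 (.node 9179743376 1 (.node 9079044384 1 (.node 8978345392 1 (.node 8961535992 1 (.node 8959508984 1 (.node 8944855328 1 .leaf .leaf) .leaf) (.node 8976322992 1 .leaf .leaf)) (.node 9062300520 1 (.node 9060118888 1 .leaf .leaf) (.node 9076924704 1 .leaf .leaf))) (.node 9112534448 1 (.node 9095790584 1 (.node 9093730808 1 .leaf .leaf) (.node 9110536624 1 .leaf .leaf)) (.node 9162933976 1 (.node 9160712408 1 .leaf .leaf) (.node 9177526416 1 .leaf .leaf)))) (.node 9362158072 1 (.node 9294934232 1 (.node 9244750256 1 (.node 9229914104 1 (.node 9227936248 1 .leaf .leaf) .leaf) (.node 9246723504 1 .leaf .leaf)) (.node 9311740048 1 (.node 9297188568 1 .leaf .leaf) (.node 9313932432 1 .leaf .leaf))) (.node 9429139672 1 (.node 9378963888 1 (.node 9364168696 1 .leaf .leaf) (.node 9380912560 1 .leaf .leaf)) (.node 9445953680 1 (.node 9431312088 1 .leaf .leaf) (.node 9448121488 1 .leaf .leaf))))) (.node 10035087917 1 (.node 9599056744 1 (.node 9565566680 1 (.node 9481611552 1 (.node 9479565600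 1 (.node 9464802152 1 .leaf .leaf) .leaf) (.node 9563361496 1 .leaf .leaf)) (.node 9582310544 1 (.node 9580167312 1 .leaf .leaf) (.node 9596973416 1 .leaf .leaf))) (.node 10001477183 1 (.node 9615800608 1 (.node 9613779232 1 .leaf .leaf) (.node 9999688191 1 .leaf .leaf)) (.node 10018290742 1 (.node 10016498102 1 .leaf .leaf) (.node 10033176941 1 .leaf .leaf)))) (.node 10169309220 1 (.node 10135698486 1 (.node 10051901476 1 (.node 10049986852 1 .leaf .leaf) (.node 10133942710 1 .leaf .leaf)) (.node 10152504895 1 (.node 10150687231 1 .leaf .leaf) (.node 10167431460 1 .leaf .leaf))) (.node 10236292671 1 (.node 10186115629 1 (.node 10184175981 1 .leaf .leaf) (.node 10234577407 1 .leaf .leaf)) (.node 10253106230 1 (.node 10251387318 1 .leaf .leaf) (.node 10301554907 1 .leaf .leaf))))))) (.node 18124370504 1 (.node 17302260659 1 (.node 10553254034 1 (.node 10452553947 1 (.node 10385576447 1 (.node 10368831926 1 (.node 10320327698 1 (.node 10318364818 1 .leaf .leaf) .leaf) (.node 10370513974 1 .leaf .leaf)) (.node 10435809426 1 (.node 10387320383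 1 .leaf .leaf) (.node 10437735442 1 .leaf .leaf))) (.node 10519765284 1 (.node 10502955373 1 (.node 10454541851 1 .leaf .leaf) (.node 10504718893 1 .leaf .leaf)) (.node 10536444123 1 (.node 10521532452 1 .leaf .leaf) (.node 10538329627 1 .leaf .leaf)))) (.node 10689357339 1 (.node 10655746605 1 (.node 10638940196 1 (.node 10637209892 1 (.node 10555143186 1 .leaf .leaf) .leaf) (.node 10653954413 1 .leaf .leaf)) (.node 10672550930 1 (.node 10670698642 1 .leaf .leaf) (.node 10687443163 1 .leaf .leaf))) (.node 17268641571 1 (.node 17251831147 1 (.node 17247651755 1 .leaf .leaf) (.node 17264465891 1 .leaf .leaf)) (.node 17285450235 1 (.node 17281279803 1 .leaf .leaf) (.node 17298093939 1 .leaf .leaf))))) (.node 17851502664 1 (.node 17717280840 1 (.node 17549707067 1 (.node 17532909539 1 (.node 17520340331 1 (.node 17516095403 1 .leaf .leaf) .leaf) (.node 17537150755 1 .leaf .leaf)) (.node 17566521203 1 (.node 17553828347 1 .leaf .leaf) (.node 17570638771 1 .leaf .leaf))) (.node 17784506227 1 (.node 17750909144 1 (.node 17721606728 1 .leaf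 .leaf) (.node 17755227864 1 .leaf .leaf)) (.node 17818134499 1 (.node 17788586931 1 .leaf .leaf) (.node 17822207779 1 .leaf .leaf)))) (.node 17990115912 1 (.node 17939585531 1 (.node 17889482456 1 (.node 17885130968 1 (.node 17855861320 1 .leaf .leaf) .leaf) (.node 17935533883 1 .leaf .leaf)) (.node 17973206379 1 (.node 17969162155 1 .leaf .leaf) (.node 17985724488 1 .leaf .leaf))) (.node 18057096115 1 (.node 18023605976 1 (.node 18019336408 1 .leaf .leaf) (.node 18052949875 1 .leaf .leaf)) (.node 18090585891 1 (.node 18086561763 1 .leaf .leaf) (.node 18119946312 1 .leaf .leaf)))))) (.node 20036287726 1 (.node 19680438197 1 (.node 19411928871 1 (.node 18237589419 1 (.node 18203977531 1 (.node 18157860568 1 (.node 18153558232 1 .leaf .leaf) .leaf) (.node 18208094715 1 .leaf .leaf)) (.node 19395118958 1 (.node 18241584491 1 .leaf .leaf) (.node 19398806766 1 .leaf .leaf))) (.node 19445548981 1 (.node 19428739068 1 (.node 19415621351 1 .leaf .leaf) (.node 19432433916 1 .leaf .leaf)) (.node 19663628284 1 (.node 19449248501 1 .leaf .leaf)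 (.node 19667249404 1 .leaf .leaf)))) (.node 19902066407 1 (.node 19717676775 1 (.node 19700862190 1 (.node 19697117038 1 (.node 19684063989 1 .leaf .leaf) .leaf) (.node 19713926951 1 .leaf .leaf)) (.node 19868437237 1 (.node 19864897461 1 .leaf .leaf) (.node 19898517287 1 .leaf .leaf))) (.node 19969287707 1 (.node 19935658505 1 (.node 19931873353 1 .leaf .leaf) (.node 19965493467 1 .leaf .leaf)) (.node 20002658556 1 (.node 19999152124 1 .leaf .leaf) (.node 20032771950 1 .leaf .leaf))))) (.node 20351381723 1 (.node 20200382683 1 (.node 20133406503 1 (.node 20116492507 1 (.node 20086686217 1 (.node 20082872393 1 .leaf .leaf) .leaf) (.node 20120315419 1 .leaf .leaf)) (.node 20166895541 1 (.node 20136881895 1 .leaf .leaf) (.node 20170492661 1 .leaf .leaf))) (.node 20267661166 1 (.node 20233871433 1 (.node 20204103195 1 .leaf .leaf) (.node 20237713929 1 .leaf .leaf)) (.node 20301150204 1 (.node 20271103214 1 .leaf .leaf) (.node 20304713980 1 .leaf .leaf)))) (.node 21552056235 1 (.node 21501613763 1 (.node 20384870473 1 (.node 20355130907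 1 .leaf .leaf) (.node 20388741641 1 .leaf .leaf)) (.node 21518427843 1 (.node 21504755203 1 .leaf .leaf) (.node 21521565187 1 .leaf .leaf))) (.node 21619020136 1 (.node 21585684732 1 (.node 21555187051 1 .leaf .leaf) (.node 21588805628 1 .leaf .leaf)) (.node 21635829311 1 (.node 21622201192 1 .leaf .leaf) (.node 21638943231 1 .leaf .leaf))))))))

/-- A piece of the keys. -/
def tkeysH2 : CTree := (.node 24745682627 1 (.node 23316040982 1 (.node 22474770347 1 (.node 22091942551 1 (.node 21957950312 1 (.node 21840504323 1 (.node 21789943804 1 (.node 21786855676 1 (.node 21756456299 1 .leaf .leaf) .leaf) (.node 21837313731 1 .leaf .leaf)) (.node 21857183235 1 (.node 21854111427 1 .leaf .leaf) (.node 21954720104 1 .leaf .leaf))) (.node 22024964968 1 (.node 21974692351 1 (.node 21971529279 1 .leaf .leaf) (.node 22021685608 1 .leaf .leaf)) (.node 22058582527 1 (.node 22055317055 1 .leaf .leaf) (.node 22088912727 1 .leaf .leaf)))) (.node 22340558679 1 (.node 22273566635 1 (.node 22256761084 1 (.node 22142372503 1 (.node 22139354967 1 .leaf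 .leaf) .leaf) (.node 22259816444 1 .leaf .leaf)) (.node 22290132823 1 (.node 22276562283 1 .leaf .leaf) (.node 22293473943 1 .leaf .leaf))) (.node 22390967871 1 (.node 22357352808 1 (.node 22343772823 1 .leaf .leaf) (.node 22360451944 1 .leaf .leaf)) (.node 22457964796 1 (.node 22393938431 1 .leaf .leaf) (.node 22461216764 1 .leaf .leaf))))) (.node 22865782709 1 (.node 22681454517 1 (.node 22597404163 1 (.node 22580594179 1 (.node 22577714883 1 (.node 22477962603 1 .leaf .leaf) .leaf) (.node 22594528963 1 .leaf .leaf)) (.node 22647836451 1 (.node 22644971491 1 .leaf .leaf) (.node 22678600437 1 .leaf .leaf))) (.node 22714782134 1 (.node 22698039584 1 (.node 22695121184 1 .leaf .leaf) (.node 22711929910 1 .leaf .leaf)) (.node 22832295715 1 (.node 22829344739 1 .leaf .leaf) (.node 22862957301 1 .leaf .leaf)))) (.node 23198640099 1 (.node 23030823990 1 (.node 22947026627 1 (.node 22899533315 1 (.node 22896600771 1 .leaf .leaf) .leaf) (.node 22949832195 1 .leaf .leaf)) (.node 23047627040 1 (.node 23033786806 1 .leaf .leaf) (.node 23050533152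 1 .leaf .leaf))) (.node 23232008480 1 (.node 23215454965 1 (.node 23201402659 1 .leaf .leaf) (.node 23218210741 1 .leaf .leaf)) (.node 23265639478 1 (.node 23235057952 1 .leaf .leaf) (.node 23268676022 1 .leaf .leaf)))))) (.node 24017282563 1 (.node 23652767427 1 (.node 23503566998 1 (.node 23402801077 1 (.node 23335655574 1 (.node 23332863254 1 (.node 23318780054 1 .leaf .leaf) .leaf) (.node 23399844597 1 .leaf .leaf)) (.node 23419612963 1 (.node 23416657891 1 .leaf .leaf) (.node 23500455190 1 .leaf .leaf))) (.node 23587289376 1 (.node 23553800342 1 (.node 23550872854 1 .leaf .leaf) (.node 23584481568 1 .leaf .leaf)) (.node 23620776374 1 (.node 23618096182 1 .leaf .leaf) (.node 23648044547 1 .leaf .leaf)))) (.node 23782232429 1 (.node 23732095483 1 (.node 23698474862 1 (.node 23669581507 1 (.node 23664854531 1 .leaf .leaf) .leaf) (.node 23703211246 1 .leaf .leaf)) (.node 23765491704 1 (.node 23736837947 1 .leaf .leaf) (.node 23770173944 1 .leaf .leaf))) (.node 23933233006 1 (.node 23899744763 1 (.node 23786981933 1 .leaf .leaf)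 (.node 23904397115 1 .leaf .leaf)) (.node 23966983683 1 (.node 23938010350 1 .leaf .leaf) (.node 23971653315 1 .leaf .leaf))))) (.node 24357496635 1 (.node 24223284181 1 (.node 24156293677 1 (.node 24139485688 1 (.node 24134729720 1 (.node 24022079171 1 .leaf .leaf) .leaf) (.node 24151470445 1 .leaf .leaf)) (.node 24172841941 1 (.node 24168255125 1 .leaf .leaf) (.node 24218685077 1 .leaf .leaf))) (.node 24273691128 1 (.node 24240065069 1 (.node 24235229549 1 .leaf .leaf) (.node 24268853240 1 .leaf .leaf)) (.node 24340692206 1 (.node 24336127854 1 .leaf .leaf) (.node 24352872955 1 .leaf .leaf)))) (.node 24542120917 1 (.node 24474896941 1 (.node 24441283064 1 (.node 24436764664 1 .leaf .leaf) (.node 24470249837 1 .leaf .leaf)) (.node 24525323221 1 (.node 24520552085 1 .leaf .leaf) (.node 24537230997 1 .leaf .leaf))) (.node 24659535675 1 (.node 24642731246 1 (.node 24637994862 1 .leaf .leaf) (.node 24654739963 1 .leaf .leaf)) (.node 24728868547 1 (.node 24723883523 1 .leaf .leaf) (.node 24740693507 1 .leaf .leaf))))))) (.node 26431311138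 1 (.node 25584609139 1 (.node 25210564900 1 (.node 24975584179 1 (.node 24841330096 1 (.node 24824744883 1 (.node 24796126951 1 (.node 24791123751 1 .leaf .leaf) .leaf) (.node 24829753203 1 .leaf .leaf)) (.node 24858071332 1 (.node 24846274992 1 .leaf .leaf) (.node 24863082532 1 .leaf .leaf))) (.node 25059632643 1 (.node 25009071911 1 (.node 24980498291 1 .leaf .leaf) (.node 25014111975 1 .leaf .leaf)) (.node 25076311555 1 (.node 25064568515 1 .leaf .leaf) (.node 25081366211 1 .leaf .leaf)))) (.node 25383164308 1 (.node 25282572007 1 (.node 25232392624 1 (.node 25227312560 1 (.node 25215588388 1 .leaf .leaf) .leaf) (.node 25277712167 1 .leaf .leaf)) (.node 25299384179 1 (.node 25294523315 1 .leaf .leaf) (.node 25378348180 1 .leaf .leaf))) (.node 25467193380 1 (.node 25433598356 1 (.node 25428712596 1 .leaf .leaf) (.node 25462067492 1 .leaf .leaf)) (.node 25500819888 1 (.node 25495690672 1 .leaf .leaf) (.node 25579580339 1 .leaf .leaf))))) (.node 25888290098 1 (.node 25764068500 1 (.node 25680343332 1 (.node 25646857648 1 (.node 25601425127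 1 (.node 25596389159 1 .leaf .leaf) .leaf) (.node 25651605936 1 .leaf .leaf)) (.node 25713835156 1 (.node 25685219364 1 .leaf .leaf) (.node 25718831508 1 .leaf .leaf))) (.node 25854662050 1 (.node 25837848042 1 (.node 25769249172 1 .leaf .leaf) (.node 25844125546 1 .leaf .leaf)) (.node 25871476090 1 (.node 25860934946 1 .leaf .leaf) (.node 25877744634 1 .leaf .leaf)))) (.node 26297121202 1 (.node 26263633186 1 (.node 26246889322 1 (.node 26240513514 1 (.node 25894554034 1 .leaf .leaf) .leaf) (.node 26257319330 1 .leaf .leaf)) (.node 26280377338 1 (.node 26274125178 1 .leaf .leaf) (.node 26290930994 1 .leaf .leaf))) (.node 26364331152 1 (.node 26313900616 1 (.node 26307477576 1 .leaf .leaf) (.node 26357919888 1 .leaf .leaf)) (.node 26380880890 1 (.node 26374702458 1 .leaf .leaf) (.node 26425144738 1 .leaf .leaf)))))) (.node 29467244724 1 (.node 26710143048 1 (.node 26575921224 1 (.node 26525730098 1 (.node 26492133520 1 (.node 26448155208 1 (.node 26441699400 1 .leaf .leaf) .leaf) (.node 26498520208 1 .leaf .leaf)) (.node 26542552554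 1 (.node 26531879346 1 .leaf .leaf) (.node 26548756330 1 .leaf .leaf))) (.node 26659960114 1 (.node 26626347152 1 (.node 26582409800 1 .leaf .leaf) (.node 26632709264 1 .leaf .leaf)) (.node 26676757994 1 (.node 26666199474 1 .leaf .leaf) (.node 26682879850 1 .leaf .leaf)))) (.node 29064580783 1 (.node 26783644666 1 (.node 26766898320 1 (.node 26760560784 1 (.node 26716664392 1 .leaf .leaf) .leaf) (.node 26777367930 1 .leaf .leaf)) (.node 26833878306 1 (.node 26827785634 1 .leaf .leaf) (.node 29059057007 1 .leaf .leaf))) (.node 29098207933 1 (.node 29081394342 1 (.node 29075866918 1 .leaf .leaf) (.node 29092677117 1 .leaf .leaf)) (.node 29115021492 1 (.node 29109487028 1 .leaf .leaf) (.node 29461820852 1 .leaf .leaf))))) (.node 29713454447 1 (.node 29579265318 1 (.node 29512054127 1 (.node 29495309606 1 (.node 29484051133 1 (.node 29478565373 1 .leaf .leaf) .leaf) (.node 29500857510 1 .leaf .leaf)) (.node 29528835581 1 (.node 29517663919 1 .leaf .leaf) (.node 29534210749 1 .leaf .leaf))) (.node 29646241938 1 (.node 29595811913 1 (.node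 29584653478 1 .leaf .leaf) (.node 29601432073 1 .leaf .leaf)) (.node 29663090100 1 (.node 29651874834 1 .leaf .leaf) (.node 29668432052 1 .leaf .leaf)))) (.node 29847643572 1 (.node 29763686546 1 (.node 29746810953 1 (.node 29718867631 1 .leaf .leaf) (.node 29752459785 1 .leaf .leaf)) (.node 29797344623 1 (.node 29769282578 1 .leaf .leaf) (.node 29802655407 1 .leaf .leaf))) (.node 29897809993 1 (.node 29881131154 1 (.node 29853079732 1 .leaf .leaf) (.node 29886690322 1 .leaf .leaf)) (.node 29931599142 1 (.node 29903487497 1 .leaf .leaf) (.node 29936876710 1 .leaf .leaf))))))))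

/-- A piece of the keys. -/
def tkeysH3 : CTree := (.node 32981288996 1 (.node 31503085856 1 (.node 30679108958 1 (.node 30231237046 1 (.node 30130668546 1 (.node 30054515209 1 (.node 30004098066 1 (.node 29998575762 1 (.node 29987293885 1 .leaf .leaf) .leaf) (.node 30048809033 1 .leaf .leaf)) (.node 30097048578 1 (.node 30091809922 1 .leaf .leaf) (.node 30125438082 1 .leaf .leaf))) (.node 30197908916 1 (.node 30147481450 1 (.node 30142252522 1 .leaf .leaf) (.node 30192695476 1 .leaf .leaf)) (.node 30214495080 1 (.node 30209216872 1 .leaf .leaf) (.node 30226025526 1 .leaf .leaf)))) (.node 30561723522 1 (.node 30477661674 1 (.node 30427511862 1 (.node 30415989608 1 (.node 30410695016 1 .leaf .leaf) .leaf) (.node 30432797110 1 .leaf .leaf)) (.node 30528080052 1 (.node 30483005290 1 .leaf .leaf) (.node 30533236148 1 .leaf .leaf))) (.node 30611882344 1 (.node 30595335298 1 (.node 30566986754 1 .leaf .leaf) (.node 30600475650 1 .leaf .leaf)) (.node 30662327350 1 (.node 30617258856 1 .leaf .leaf) (.node 30667686326 1 .leaf .leaf)))))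 (.node 31087000424 1 (.node 30919257962 1 (.node 30852112234 1 (.node 30717856478 1 (.node 30712737118 1 (.node 30684236510 1 .leaf .leaf) .leaf) (.node 30846957034 1 .leaf .leaf)) (.node 30868854196 1 (.node 30863763636 1 .leaf .leaf) (.node 30913938922 1 .leaf .leaf))) (.node 31020022494 1 (.node 30936065460 1 (.node 30930753716 1 .leaf .leaf) (.node 31014550878 1 .leaf .leaf)) (.node 31053511390 1 (.node 31048162654 1 .leaf .leaf) (.node 31081771368 1 .leaf .leaf)))) (.node 31251458749 1 (.node 31201014914 1 (.node 31167386754 1 (.node 31137231286 1 (.node 31132191798 1 .leaf .leaf) .leaf) (.node 31168693250 1 .leaf .leaf)) (.node 31234643362 1 (.node 31202313218 1 .leaf .leaf) (.node 31235935522 1 .leaf .leaf))) (.node 31301602879 1 (.node 31284793632 1 (.node 31252743677 1 .leaf .leaf) (.node 31286139168 1 .leaf .leaf)) (.node 31486275135 1 (.node 31302881791 1 .leaf .leaf) (.node 31487631871 1 .leaf .leaf)))))) (.node 32240337922 1 (.node 31873520127 1 (.node 31655375874 1 (.node 31604880893 1 (.node 31554649378 1 (.node 31553238434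 1 (.node 31504443680 1 .leaf .leaf) .leaf) (.node 31603657405 1 .leaf .leaf)) (.node 31621886978 1 (.node 31620494466 1 .leaf .leaf) (.node 31654106242 1 .leaf .leaf))) (.node 31806311714 1 (.node 31789499901 1 (.node 31788313277 1 .leaf .leaf) (.node 31805126050 1 .leaf .leaf)) (.node 31823157536 1 (.node 31821680928 1 .leaf .leaf) (.node 31872118335 1 .leaf .leaf)))) (.node 32039940384 1 (.node 31955906335 1 (.node 31939342111 1 (.node 31906879711 1 (.node 31905713951 1 .leaf .leaf) .leaf) (.node 31940499679 1 .leaf .leaf)) (.node 31989518111 1 (.node 31957412063 1 .leaf .leaf) (.node 31990900959 1 .leaf .leaf))) (.node 32123737506 1 (.node 32056741439 1 (.node 32041199904 1 .leaf .leaf) (.node 32057876991 1 .leaf .leaf)) (.node 32140544701 1 (.node 32125156642 1 .leaf .leaf) (.node 32141899261 1 .leaf .leaf))))) (.node 32628815226 1 (.node 32360370680 1 (.node 32310221990 1 (.node 32276591746 1 (.node 32273957890 1 (.node 32242963586 1 .leaf .leaf) .leaf) (.node 32307578150 1 .leaf .leaf)) (.node 32327034234 1 (.node 32324389882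 1 .leaf .leaf) (.node 32357785592 1 .leaf .leaf))) (.node 32595460600 1 (.node 32377178148 1 (.node 32374526244 1 .leaf .leaf) (.node 32592769016 1 .leaf .leaf)) (.node 32612276260 1 (.node 32609575204 1 .leaf .leaf) (.node 32626293754 1 .leaf .leaf)))) (.node 32796665210 1 (.node 32712877186 1 (.node 32679234726 1 (.node 32676525350 1 .leaf .leaf) (.node 32710276098 1 .leaf .leaf)) (.node 32746488962 1 (.node 32743764994 1 .leaf .leaf) (.node 32794168314 1 .leaf .leaf))) (.node 32897259996 1 (.node 32813481126 1 (.node 32810976550 1 .leaf .leaf) (.node 32894803676 1 .leaf .leaf)) (.node 32930888156 1 (.node 32928423644 1 .leaf .leaf) (.node 32978522404 1 .leaf .leaf))))))) (.node 34470036989 1 (.node 33754812079 1 (.node 33345602562 1 (.node 33129524956 1 (.node 33079353636 1 (.node 33029058552 1 (.node 32998109688 1 (.node 32995401720 1 .leaf .leaf) .leaf) (.node 33031479800 1 .leaf .leaf)) (.node 33096036060 1 (.node 33081907236 1 .leaf .leaf) (.node 33098705372 1 .leaf .leaf))) (.node 33247032614 1 (.node 33230289914 1 (.node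 33132317148 1 .leaf .leaf) (.node 33232926074 1 .leaf .leaf)) (.node 33311982594 1 (.node 33249733798 1 .leaf .leaf) (.node 33318540418 1 .leaf .leaf)))) (.node 33452755501 1 (.node 33419425074 1 (.node 33368985263 1 (.node 33362412911 1 (.node 33352168578 1 .leaf .leaf) .leaf) (.node 33412843954 1 .leaf .leaf)) (.node 33435947440 1 (.node 33429429680 1 .leaf .leaf) (.node 33446170989 1 .leaf .leaf))) (.node 33687851440 1 (.node 33671039533 1 (.node 33664409965 1 .leaf .leaf) (.node 33681223088 1 .leaf .leaf)) (.node 33704391986 1 (.node 33697937842 1 .leaf .leaf) (.node 33748170095 1 .leaf .leaf))))) (.node 34167678319 1 (.node 33899168109 1 (.node 33832193245 1 (.node 33798665218 1 (.node 33771648130 1 (.node 33765176322 1 .leaf .leaf) .leaf) (.node 33805259906 1 .leaf .leaf)) (.node 33865813213 1 (.node 33838615453 1 .leaf .leaf) (.node 33872243613 1 .leaf .leaf))) (.node 34000066994 1 (.node 33949601200 1 (.node 33905838637 1 .leaf .leaf) (.node 33956278704 1 .leaf .leaf)) (.node 34016810351 1 (.node 34006463794 1 .leaf .leaf)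 (.node 34023272111 1 .leaf .leaf)))) (.node 34325310365 1 (.node 34241278384 1 (.node 34191095090 1 (.node 34184489394 1 (.node 34174283439 1 .leaf .leaf) .leaf) (.node 34234957232 1 .leaf .leaf)) (.node 34291698221 1 (.node 34285187437 1 .leaf .leaf) (.node 34318679261 1 .leaf .leaf))) (.node 34402798813 1 (.node 34358922141 1 (.node 34352168157 1 .leaf .leaf) (.node 34394418077 1 .leaf .leaf)) (.node 34419609237 1 (.node 34411232213 1 .leaf .leaf) (.node 34461674173 1 .leaf .leaf)))))) (.node 35275173525 1 (.node 34881129373 1 (.node 34730101717 1 (.node 34662845173 1 (.node 34629230664 1 (.node 34486847413 1 (.node 34478488309 1 .leaf .leaf) .leaf) (.node 34637685320 1 .leaf .leaf)) (.node 34696487272 1 (.node 34671175605 1 .leaf .leaf) (.node 34704927592 1 .leaf .leaf))) (.node 34813872829 1 (.node 34763452488 1 (.node 34738417301 1 .leaf .leaf) (.node 34771939912 1 .leaf .leaf)) (.node 34830709096 1 (.node 34822174205 1 .leaf .leaf) (.node 34839182184 1 .leaf .leaf)))) (.node 35023603637 1 (.node 34956627605 1 (.node 34939817181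 1 (.node 34931305373 1 (.node 34889415901 1 .leaf .leaf) .leaf) (.node 34948119509 1 .leaf .leaf)) (.node 35006793213 1 (.node 34998528701 1 .leaf .leaf) (.node 35015342837 1 .leaf .leaf))) (.node 35208193973 1 (.node 35174703688 1 (.node 35166117960 1 .leaf .leaf) (.node 35199732469 1 .leaf .leaf)) (.node 35241683816 1 (.node 35233341800 1 .leaf .leaf) (.node 35266956245 1 .leaf .leaf))))) (.node 36647211224 1 (.node 36529806149 1 (.node 35367563624 1 (.node 35350760125 1 (.node 35308958280 1 (.node 35300339784 1 .leaf .leaf) .leaf) (.node 35359192573 1 .leaf .leaf)) (.node 35417983901 1 (.node 35375938408 1 .leaf .leaf) (.node 35426172125 1 .leaf .leaf))) (.node 36580248389 1 (.node 36546620317 1 (.node 36537666053 1 .leaf .leaf) (.node 36554476765 1 .leaf .leaf)) (.node 36613875066 1 (.node 36588096005 1 .leaf .leaf) (.node 36621716474 1 .leaf .leaf)))) (.node 36848692799 1 (.node 36781433048 1 (.node 36664020543 1 (.node 36655109848 1 .leaf .leaf) (.node 36671853055 1 .leaf .leaf)) (.node 36815048423 1 (.node 36789364440 1 .leaf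 .leaf) (.node 36822853415 1 .leaf .leaf))) (.node 37016524154 1 (.node 36899118823 1 (.node 36856603135 1 .leaf .leaf) (.node 36906903335 1 .leaf .leaf)) (.node 37033331613 1 (.node 37024349178 1 .leaf .leaf) (.node 37041093853 1 .leaf .leaf))))))))

/-- A piece of the keys. -/
def tkeysH4 : CTree := (.node 41117353499 1 (.node 38612675750 1 (.node 37740121142 1 (.node 37410170663 1 (.node 37225748184 1 (.node 37124852730 1 (.node 37108304389 1 (.node 37100321605 1 (.node 37057875165 1 .leaf .leaf) .leaf) (.node 37117101434 1 .leaf .leaf)) (.node 37158472197 1 (.node 37150731077 1 .leaf .leaf) (.node 37217726680 1 .leaf .leaf))) (.node 37326382887 1 (.node 37242491391 1 (.node 37234535999 1 .leaf .leaf) (.node 37318323943 1 .leaf .leaf)) (.node 37359871704 1 (.node 37351932120 1 .leaf .leaf) (.node 37402361575 1 .leaf .leaf)))) (.node 37639535573 1 (.node 37536574365 1 (.node 37519766906 1 (.node 37426848255 1 (.node 37419159103 1 .leaf .leaf) .leaf) (.node 37527616506 1 .leaf .leaf)) (.node 37605907269 1 (.node 37544361181 1 .leaf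 .leaf) (.node 37613505029 1 .leaf .leaf))) (.node 37706790771 1 (.node 37656349509 1 (.node 37647126165 1 .leaf .leaf) (.node 37663934981 1 .leaf .leaf)) (.node 37723312272 1 (.node 37714365363 1 .leaf .leaf) (.node 37730948240 1 .leaf .leaf))))) (.node 38167333381 1 (.node 38049690918 1 (.node 37982743475 1 (.node 37965934229 1 (.node 37958405077 1 (.node 37747691958 1 .leaf .leaf) .leaf) (.node 37975218035 1 .leaf .leaf)) (.node 37999457424 1 (.node 37991755920 1 .leaf .leaf) (.node 38042176678 1 .leaf .leaf))) (.node 38100186406 1 (.node 38066696630 1 (.node 38059015222 1 .leaf .leaf) (.node 38092627110 1 .leaf .leaf)) (.node 38133714581 1 (.node 38125980629 1 .leaf .leaf) (.node 38159608645 1 .leaf .leaf)))) (.node 38461646707 1 (.node 38293830710 1 (.node 38243646277 1 (.node 38200691635 1 (.node 38193203059 1 .leaf .leaf) .leaf) (.node 38251121157 1 .leaf .leaf)) (.node 38310633616 1 (.node 38301585846 1 .leaf .leaf) (.node 38318331024 1 .leaf .leaf))) (.node 38528646310 1 (.node 38478461909 1 (.node 38469200819 1 .leaf .leaf)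 (.node 38486011541 1 .leaf .leaf)) (.node 38579060880 1 (.node 38536475942 1 .leaf .leaf) (.node 38586709136 1 .leaf .leaf)))))) (.node 39310183063 1 (.node 38998798167 1 (.node 38763980154 1 (.node 38696725854 1 (.node 38653686198 1 (.node 38646287414 1 (.node 38620198182 1 .leaf .leaf) .leaf) (.node 38689376990 1 .leaf .leaf)) (.node 38713540439 1 (.node 38706186903 1 .leaf .leaf) (.node 38756617210 1 .leaf .leaf))) (.node 38931539827 1 (.node 38780794739 1 (.node 38773427123 1 .leaf .leaf) (.node 38924266419 1 .leaf .leaf)) (.node 38965150217 1 (.node 38957752393 1 .leaf .leaf) (.node 38991506071 1 .leaf .leaf)))) (.node 39175991661 1 (.node 39108751433 1 (.node 39058521082 1 (.node 39032408621 1 (.node 39024992621 1 .leaf .leaf) .leaf) (.node 39065761146 1 .leaf .leaf)) (.node 39125760734 1 (.node 39116177929 1 .leaf .leaf) (.node 39133019486 1 .leaf .leaf))) (.node 39243205555 1 (.node 39226395642 1 (.node 39183436333 1 .leaf .leaf) (.node 39233611130 1 .leaf .leaf)) (.node 39293373150 1 (.node 39250425715 1 .leaf .leaf) (.node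 39300836702 1 .leaf .leaf))))) (.node 39720288777 1 (.node 39569261065 1 (.node 39502039597 1 (.node 39468429143 1 (.node 39461284503 1 (.node 39317651287 1 .leaf .leaf) .leaf) (.node 39494771053 1 .leaf .leaf)) (.node 39535650675 1 (.node 39528262579 1 .leaf .leaf) (.node 39561748553 1 .leaf .leaf))) (.node 39653067309 1 (.node 39602650462 1 (.node 39595539166 1 .leaf .leaf) (.node 39645770093 1 .leaf .leaf)) (.node 39669871994 1 (.node 39662517242 1 .leaf .leaf) (.node 39712747593 1 .leaf .leaf)))) (.node 40916183741 1 (.node 40848928094 1 (.node 40832113477 1 (.node 40824244741 1 .leaf .leaf) (.node 40841054942 1 .leaf .leaf)) (.node 40882555717 1 (.node 40874674693 1 .leaf .leaf) (.node 40908293629 1 .leaf .leaf))) (.node 40966325787 1 (.node 40949518840 1 (.node 40941690872 1 .leaf .leaf) (.node 40958431451 1 .leaf .leaf)) (.node 41083742179 1 (.node 41075945251 1 .leaf .leaf) (.node 41109430491 1 .leaf .leaf))))))) (.node 42680164784 1 (.node 41908214597 1 (.node 41579307000 1 (.node 41344452093 1 (.node 41277438686 1 (.node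 41176674296 1 (.node 41167812579 1 (.node 41159995171 1 .leaf .leaf) .leaf) (.node 41184608760 1 .leaf .leaf)) (.node 41294181885 1 (.node 41285221726 1 .leaf .leaf) (.node 41302026941 1 .leaf .leaf))) (.node 41411431134 1 (.node 41378073093 1 (.node 41352186557 1 .leaf .leaf) (.node 41385814853 1 .leaf .leaf)) (.node 41461860869 1 (.node 41419410782 1 .leaf .leaf) (.node 41469852485 1 .leaf .leaf)))) (.node 41687852571 1 (.node 41620627960 1 (.node 41604064795 1 (.node 41596047579 1 (.node 41587257848 1 .leaf .leaf) .leaf) (.node 41612963832 1 .leaf .leaf)) (.node 41671055331 1 (.node 41663262499 1 .leaf .leaf) (.node 41679937755 1 .leaf .leaf))) (.node 41788464478 1 (.node 41721464803 1 (.node 41713430307 1 .leaf .leaf) (.node 41780706014 1 .leaf .leaf)) (.node 41805269693 1 (.node 41797449213 1 .leaf .leaf) (.node 41900083717 1 .leaf .leaf))))) (.node 42336268434 1 (.node 42034270354 1 (.node 42000943029 1 (.node 41950513669 1 (.node 41941843799 1 (.node 41933703831 1 .leaf .leaf) .leaf) (.node 41958656837 1 .leaf .leaf)) (.node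 42017529264 1 (.node 42009098997 1 .leaf .leaf) (.node 42025619888 1 .leaf .leaf))) (.node 42235832245 1 (.node 42219022999 1 (.node 42042426386 1 .leaf .leaf) (.node 42227101527 1 .leaf .leaf)) (.node 42286038306 1 (.node 42243914485 1 .leaf .leaf) (.node 42294064546 1 .leaf .leaf)))) (.node 42478730053 1 (.node 42411737520 1 (.node 42378126754 1 (.node 42370022690 1 (.node 42344481810 1 .leaf .leaf) .leaf) (.node 42403511728 1 .leaf .leaf)) (.node 42428287733 1 (.node 42420291509 1 .leaf .leaf) (.node 42470722053 1 .leaf .leaf))) (.node 42529139525 1 (.node 42495512407 1 (.node 42487270039 1 .leaf .leaf) (.node 42520889861 1 .leaf .leaf)) (.node 42663359506 1 (.node 42655142034 1 .leaf .leaf) (.node 42671889840 1 .leaf .leaf)))))) (.node 43448219936 1 (.node 43051870460 1 (.node 42890031250 1 (.node 42823056816 1 (.node 42739100311 1 (.node 42730343157 1 (.node 42722289589 1 .leaf .leaf) .leaf) (.node 42747158359 1 .leaf .leaf)) (.node 42856545570 1 (.node 42830950832 1 .leaf .leaf) (.node 42864563618 1 .leaf .leaf))) (.node 42984614364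 1 (.node 42940267810 1 (.node 42898174994 1 .leaf .leaf) (.node 42948593058 1 .leaf .leaf)) (.node 43001428372 1 (.node 42995093212 1 .leaf .leaf) (.node 43011902612 1 .leaf .leaf)))) (.node 43314030880 1 (.node 43229979208 1 (.node 43079140788 1 (.node 43068684468 1 (.node 43062331388 1 .leaf .leaf) .leaf) (.node 43219427400 1 .leaf .leaf)) (.node 43263469564 1 (.node 43253041404 1 .leaf .leaf) (.node 43303498016 1 .leaf .leaf))) (.node 43364233800 1 (.node 43347520660 1 (.node 43337111956 1 .leaf .leaf) (.node 43353649224 1 .leaf .leaf)) (.node 43414468020 1 (.node 43404069044 1 .leaf .leaf) (.node 43437711648 1 .leaf .leaf))))) (.node 43857152476 1 (.node 43739752628 1 (.node 43672529300 1 (.node 43655723484 1 (.node 43464965852 1 (.node 43454519772 1 .leaf .leaf) .leaf) (.node 43666366172 1 .leaf .leaf)) (.node 43722946812 1 (.node 43683110036 1 .leaf .leaf) (.node 43733342204 1 .leaf .leaf))) (.node 43806742708 1 (.node 43756314696 1 (.node 43750086068 1 .leaf .leaf) (.node 43766997576 1 .leaf .leaf)) (.node 43840352544 1 (.node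 43817297332 1 .leaf .leaf) (.node 43850787104 1 .leaf .leaf)))) (.node 44008180116 1 (.node 43924150524 1 (.node 43890536520 1 (.node 43867467484 1 .leaf .leaf) (.node 43901252168 1 .leaf .leaf)) (.node 43974566176 1 (.node 43934742524 1 .leaf .leaf) (.node 43984976160 1 .leaf .leaf))) (.node 45136816604 1 (.node 45120002308 1 (.node 44018465940 1 .leaf .leaf) (.node 45129959428 1 .leaf .leaf)) (.node 45187258628 1 (.node 45146771164 1 .leaf .leaf) (.node 45197199364 1 .leaf .leaf))))))))

/-- A piece of the keys. -/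
def tkeysH5 : CTree := (.node 49352451899 1 (.node 46766092432 1 (.node 46042741998 1 (.node 45633386930 1 (.node 45415147374 1 (.node 45264146870 1 (.node 45247403736 1 (.node 45237407960 1 (.node 45230819762 1 .leaf .leaf) .leaf) (.node 45254216758 1 .leaf .leaf)) (.node 45381658328 1 (.node 45371629784 1 .leaf .leaf) (.node 45405244654 1 .leaf .leaf))) (.node 45482387310 1 (.node 45465706934 1 (.node 45455703094 1 .leaf .leaf) (.node 45472500974 1 .leaf .leaf)) (.node 45616643804 1 (.node 45606722012 1 .leaf .leaf) (.node 45623526706 1 .leaf .leaf)))) (.node 45858325810 1 (.node 45774297564 1 (.node 45690518582 1 (.node 45683787480 1 (.node 45673701592 1 .leaf .leaf) .leaf) (.node 45700596150 1 .leaf .leaf)) (.node 45824731396 1 (.node 45784424156 1 .leaf .leaf) (.node 45834786820 1 .leaf .leaf))) (.node 45975742940 1 (.node 45891954948 1 (.node 45868145074 1 .leaf .leaf) (.node 45901764612 1 .leaf .leaf)) (.node 45992555826 1 (.node 45985656540 1 .leaf .leaf) (.node 46002465202 1 .leaf .leaf))))) (.node 46319047824 1 (.node 46201604100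 1 (.node 46119909230 1 (.node 46086420184 1 (.node 46076350680 1 (.node 46052931438 1 .leaf .leaf) .leaf) (.node 46109965550 1 .leaf .leaf)) (.node 46170141110 1 (.node 46160383030 1 .leaf .leaf) (.node 46195579140 1 .leaf .leaf))) (.node 46268844036 1 (.node 46235225236 1 (.node 46229207444 1 .leaf .leaf) (.node 46262835460 1 .leaf .leaf)) (.node 46285654523 1 (.node 46279649083 1 .leaf .leaf) (.node 46312984720 1 .leaf .leaf)))) (.node 46631849647 1 (.node 46564891028 1 (.node 46548076347 1 (.node 46335791615 1 (.node 46329794111 1 .leaf .leaf) .leaf) (.node 46554032635 1 .leaf .leaf)) (.node 46581428368 1 (.node 46570843284 1 .leaf .leaf) (.node 46587557008 1 .leaf .leaf))) (.node 46699105967 1 (.node 46665494079 1 (.node 46637790575 1 .leaf .leaf) (.node 46671540735 1 .leaf .leaf)) (.node 46749281855 1 (.node 46705030511 1 .leaf .leaf) (.node 46755430911 1 .leaf .leaf)))))) (.node 48672254102 1 (.node 47090786815 1 (.node 46956664836 1 (.node 46889687044 1 (.node 46856068244 1 (.node 46849874324 1 (.node 46772241552 1 .leaf .leaf)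 .leaf) (.node 46883502340 1 .leaf .leaf)) (.node 46939789819 1 (.node 46933903163 1 .leaf .leaf) (.node 46950725892 1 .leaf .leaf))) (.node 47040619664 1 (.node 46990321007 1 (.node 46984097455 1 .leaf .leaf) (.node 47034519696 1 .leaf .leaf)) (.node 47057298799 1 (.node 47051321007 1 .leaf .leaf) (.node 47084932671 1 .leaf .leaf)))) (.node 48420555259 1 (.node 48353315039 1 (.node 47202346811 1 (.node 47191555220 1 (.node 47185541524 1 .leaf .leaf) .leaf) (.node 47208299003 1 .leaf .leaf)) (.node 48370124950 1 (.node 48362499871 1 .leaf .leaf) (.node 48379313430 1 .leaf .leaf))) (.node 48588204539 1 (.node 48437365170 1 (.node 48429754171 1 .leaf .leaf) (.node 48446567730 1 .leaf .leaf)) (.node 48621690953 1 (.node 48597313339 1 .leaf .leaf) (.node 48630923785 1 .leaf .leaf))))) (.node 49100832022 1 (.node 48815599391 1 (.node 48731534642 1 (.node 48714995748 1 (.node 48705741092 1 (.node 48681385238 1 .leaf .leaf) .leaf) (.node 48722459058 1 .leaf .leaf)) (.node 48781951497 1 (.node 48772689993 1 .leaf .leaf) (.node 48806443231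 1 .leaf .leaf))) (.node 49033606450 1 (.node 48832403492 1 (.node 48823185700 1 .leaf .leaf) (.node 49024588210 1 .leaf .leaf)) (.node 49050412859 1 (.node 49041332731 1 .leaf .leaf) (.node 49091565718 1 .leaf .leaf)))) (.node 49218237746 1 (.node 49134202655 1 (.node 49117638431 1 (.node 49108310239 1 .leaf .leaf) (.node 49125222623 1 .leaf .leaf)) (.node 49184626724 1 (.node 49175519524 1 .leaf .leaf) (.node 49209010610 1 .leaf .leaf))) (.node 49268423958 1 (.node 49235034633 1 (.node 49225687113 1 .leaf .leaf) (.node 49259477142 1 .leaf .leaf)) (.node 49302034468 1 (.node 49292964132 1 .leaf .leaf) (.node 49343199739 1 .leaf .leaf))))))) (.node 50816772011 1 (.node 50127038724 1 (.node 49752287382 1 (.node 49500588028 1 (.node 49450158230 1 (.node 49416538116 1 (.node 49386062345 1 (.node 49376686153 1 .leaf .leaf) .leaf) (.node 49422309636 1 .leaf .leaf)) (.node 49483778052 1 (.node 49455938838 1 .leaf .leaf) (.node 49489565956 1 .leaf .leaf))) (.node 49550725266 1 (.node 49533984760 1 (.node 49506380028 1 .leaf .leaf) (.node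 49539715576 1 .leaf .leaf)) (.node 49735477244 1 (.node 49556522002 1 .leaf .leaf) (.node 49741195516 1 .leaf .leaf)))) (.node 49909027320 1 (.node 49858577426 1 (.node 49808160234 1 (.node 49802493802 1 (.node 49758010646 1 .leaf .leaf) .leaf) (.node 49852723346 1 .leaf .leaf)) (.node 49875416554 1 (.node 49869733738 1 .leaf .leaf) (.node 49903222776 1 .leaf .leaf))) (.node 50060047378 1 (.node 50043232760 1 (.node 50037346296 1 .leaf .leaf) (.node 50054152338 1 .leaf .leaf)) (.node 50076604668 1 (.node 50071001084 1 .leaf .leaf) (.node 50121365508 1 .leaf .leaf))))) (.node 50488182788 1 (.node 50289041554 1 (.node 50205257720 1 (.node 50188343300 1 (.node 50160635158 1 (.node 50154723478 1 .leaf .leaf) .leaf) (.node 50194262276 1 .leaf .leaf)) (.node 50238746474 1 (.node 50210824696 1 .leaf .leaf) (.node 50244437482 1 .leaf .leaf))) (.node 50372999164 1 (.node 50305724266 1 (.node 50294862866 1 .leaf .leaf) (.node 50311661034 1 .leaf .leaf)) (.node 50389743766 1 (.node 50378660092 1 .leaf .leaf) (.node 50395467030 1 .leaf .leaf))))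 (.node 50615292336 1 (.node 50565142788 1 (.node 50514702111 1 (.node 50504992991 1 (.node 50497886468 1 .leaf .leaf) .leaf) (.node 50555422724 1 .leaf .leaf)) (.node 50598770868 1 (.node 50589042100 1 .leaf .leaf) (.node 50605628848 1 .leaf .leaf))) (.node 50749515691 1 (.node 50632099355 1 (.node 50622370011 1 .leaf .leaf) (.node 50739883371 1 .leaf .leaf)) (.node 50783127067 1 (.node 50773369051 1 .leaf .leaf) (.node 50807123307 1 .leaf .leaf)))))) (.node 51604195991 1 (.node 51243243524 1 (.node 51125800368 1 (.node 50958121183 1 (.node 50941375924 1 (.node 50867196336 1 (.node 50857422256 1 .leaf .leaf) .leaf) (.node 50950994100 1 .leaf .leaf)) (.node 51108987099 1 (.node 50967801631 1 .leaf .leaf) (.node 51118810651 1 .leaf .leaf))) (.node 51176265732 1 (.node 51142645172 1 (.node 51135623600 1 .leaf .leaf) (.node 51152181428 1 .leaf .leaf)) (.node 51226368223 1 (.node 51185809668 1 .leaf .leaf) (.node 51236212511 1 .leaf .leaf)))) (.node 51471042475 1 (.node 51336829108 1 (.node 51320016671 1 (.node 51310389471 1 (.node 51253033220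 1 .leaf .leaf) .leaf) (.node 51327198644 1 .leaf .leaf)) (.node 51420623280 1 (.node 51411156400 1 .leaf .leaf) (.node 51461389675 1 .leaf .leaf))) (.node 51538266027 1 (.node 51504653851 1 (.node 51494875355 1 .leaf .leaf) (.node 51528367467 1 .leaf .leaf)) (.node 51587385567 1 (.node 51574812447 1 .leaf .leaf) (.node 51591626583 1 .leaf .leaf))))) (.node 52027911967 1 (.node 51876884311 1 (.node 51809624136 1 (.node 51625254631 1 (.node 51621004655 1 (.node 51608440495 1 .leaf .leaf) .leaf) (.node 51637815079 1 .leaf .leaf)) (.node 51843239655 1 (.node 51822273096 1 .leaf .leaf) (.node 51855763239 1 .leaf .leaf))) (.node 51943845960 1 (.node 51910492664 1 (.node 51889515159 1 .leaf .leaf) (.node 51923005432 1 .leaf .leaf)) (.node 51994267311 1 (.node 51956527688 1 .leaf .leaf) (.node 52006761839 1 .leaf .leaf)))) (.node 52145295191 1 (.node 52078067784 1 (.node 52044714488 1 (.node 52040513759 1 .leaf .leaf) (.node 52057260024 1 .leaf .leaf)) (.node 52111699687 1 (.node 52090782280 1 .leaf .leaf) (.node 52124403495 1 .leaf .leaf)))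 (.node 52212289608 1 (.node 52178919928 1 (.node 52157762199 1 .leaf .leaf) (.node 52191383544 1 .leaf .leaf)) (.node 52262727343 1 (.node 52225036872 1 .leaf .leaf) (.node 52275402095 1 .leaf .leaf))))))))

/-- A piece of the keys. -/
def tkeysH6 : CTree := (.node 56430819187 1 (.node 54902657168 1 (.node 54179065631 1 (.node 53764296554 1 (.node 52426270063 1 (.node 52392782047 1 (.node 52325638136 1 (.node 52313141752 1 (.node 52308760799 1 .leaf .leaf) .leaf) (.node 52380127007 1 .leaf .leaf)) (.node 52409592471 1 (.node 52396941143 1 .leaf .leaf) (.node 52413738671 1 .leaf .leaf))) (.node 53713866247 1 (.node 52443080487 1 (.node 52430552807 1 .leaf .leaf) (.node 53709152199 1 .leaf .leaf)) (.node 53730674911 1 (.node 53725966111 1 .leaf .leaf) (.node 53759591914 1 .leaf .leaf)))) (.node 53994392309 1 (.node 53843364397 1 (.node 53826556120 1 (.node 53797916167 1 (.node 53793222599 1 .leaf .leaf) .leaf) (.node 53831309016 1 .leaf .leaf)) (.node 53960777944 1 (.node 53848052077 1 .leaf .leaf) (.node 53965563608 1 .leaf .leaf)))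 (.node 54061648429 1 (.node 54044850933 1 (.node 53999052725 1 .leaf .leaf) (.node 54049613749 1 .leaf .leaf)) (.node 54162257386 1 (.node 54066291053 1 .leaf .leaf) (.node 54167060330 1 .leaf .leaf))))) (.node 54552882695 1 (.node 54351480757 1 (.node 54267692760 1 (.node 54234073013 1 (.node 54229224181 1 (.node 54183803103 1 .leaf .leaf) .leaf) (.node 54262849752 1 .leaf .leaf)) (.node 54301049197 1 (.node 54296447533 1 .leaf .leaf) (.node 54346889973 1 .leaf .leaf))) (.node 54485670111 1 (.node 54468927338 1 (.node 54464296426 1 .leaf .leaf) (.node 54481104671 1 .leaf .leaf)) (.node 54502582495 1 (.node 54497668895 1 .leaf .leaf) (.node 54548094919 1 .leaf .leaf)))) (.node 54785253319 1 (.node 54665498840 1 (.node 54598501866 1 (.node 54569561607 1 (.node 54564892615 1 .leaf .leaf) .leaf) (.node 54603050858 1 .leaf .leaf)) (.node 54682307117 1 (.node 54670325464 1 .leaf .leaf) (.node 54687068525 1 .leaf .leaf))) (.node 54852507619 1 (.node 54818881367 1 (.node 54789705223 1 .leaf .leaf) (.node 54823324311 1 .leaf .leaf)) (.node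 54869323719 1 (.node 54856945443 1 .leaf .leaf) (.node 54873755143 1 .leaf .leaf)))))) (.node 55674603491 1 (.node 55410511651 1 (.node 55175656592 1 (.node 55108643479 1 (.node 54923890980 1 (.node 54919464996 1 (.node 54907147408 1 .leaf .leaf) .leaf) (.node 55104139095 1 .leaf .leaf)) (.node 55125454627 1 (.node 55120951267 1 .leaf .leaf) (.node 55171100816 1 .leaf .leaf))) (.node 55242896820 1 (.node 55225890228 1 (.node 55221520564 1 .leaf .leaf) (.node 55238359220 1 .leaf .leaf)) (.node 55276384548 1 (.node 55271970852 1 .leaf .leaf) (.node 55406176227 1 .leaf .leaf)))) (.node 55557204148 1 (.node 55489978512 1 (.node 55439546548 1 (.node 55427320471 1 (.node 55422992215 1 .leaf .leaf) .leaf) (.node 55444166068 1 .leaf .leaf)) (.node 55523575844 1 (.node 55494530192 1 .leaf .leaf) (.node 55527887140 1 .leaf .leaf))) (.node 55607381959 1 (.node 55573770071 1 (.node 55561508276 1 .leaf .leaf) (.node 55578421911 1 .leaf .leaf)) (.node 55657807815 1 (.node 55611911687 1 .leaf .leaf) (.node 55662210567 1 .leaf .leaf))))) (.node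 55994517019 1 (.node 55877118428 1 (.node 55762908304 1 (.node 55746162980 1 (.node 55741601828 1 (.node 55678889763 1 .leaf .leaf) .leaf) (.node 55758405776 1 .leaf .leaf)) (.node 55860305863 1 (.node 55857155591 1 .leaf .leaf) (.node 55873965788 1 .leaf .leaf))) (.node 55944376263 1 (.node 55910747823 1 (.node 55907583343 1 .leaf .leaf) (.node 55941205511 1 .leaf .leaf)) (.node 55977709928 1 (.node 55974599528 1 .leaf .leaf) (.node 55991341275 1 .leaf .leaf)))) (.node 56229615475 1 (.node 56145544731 1 (.node 56111933299 1 (.node 56108854195 1 .leaf .leaf) (.node 56142340315 1 .leaf .leaf)) (.node 56179188072 1 (.node 56176094056 1 .leaf .leaf) (.node 56226393011 1 .leaf .leaf))) (.node 56363830959 1 (.node 56347023836 1 (.node 56343838428 1 .leaf .leaf) (.node 56360580463 1 .leaf .leaf)) (.node 56380375400 1 (.node 56377363304 1 .leaf .leaf) (.node 56427793331 1 .leaf .leaf))))))) (.node 57943171360 1 (.node 57288903637 1 (.node 56847104872 1 (.node 56645870959 1 (.node 56545238748 1 (.node 56477958363 1 (.node 56447600499 1 (.node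 56444341171 1 .leaf .leaf) .leaf) (.node 56481228315 1 .leaf .leaf)) (.node 56561980783 1 (.node 56548227548 1 .leaf .leaf) (.node 56565034671 1 .leaf .leaf))) (.node 56729660935 1 (.node 56679362055 1 (.node 56648822447 1 .leaf .leaf) (.node 56682434503 1 .leaf .leaf)) (.node 56746340060 1 (.node 56732860359 1 .leaf .leaf) (.node 56749656540 1 .leaf .leaf)))) (.node 57003663079 1 (.node 56936406983 1 (.node 56867071515 1 (.node 56863846619 1 (.node 56850264424 1 .leaf .leaf) .leaf) (.node 56932994567 1 .leaf .leaf)) (.node 56970034133 1 (.node 56966614677 1 .leaf .leaf) (.node 57000232743 1 .leaf .leaf))) (.node 57053810976 1 (.node 57020477383 1 (.node 57017044487 1 .leaf .leaf) (.node 57050437920 1 .leaf .leaf)) (.node 57070617618 1 (.node 57067180178 1 .leaf .leaf) (.node 57285422741 1 .leaf .leaf))))) (.node 57621076402 1 (.node 57436420530 1 (.node 57369178258 1 (.node 57318947250 1 (.node 57305718503 1 (.node 57302230823 1 .leaf .leaf) .leaf) (.node 57322255666 1 .leaf .leaf)) (.node 57402931488 1 (.node 57372673042 1 .leaf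 .leaf) (.node 57406316832 1 .leaf .leaf))) (.node 57503633045 1 (.node 57486821159 1 (.node 57439929650 1 .leaf .leaf) (.node 57490108135 1 .leaf .leaf)) (.node 57587456288 1 (.node 57506921429 1 .leaf .leaf) (.node 57590698272 1 .leaf .leaf)))) (.node 57775349703 1 (.node 57691550738 1 (.node 57674728754 1 (.node 57671178674 1 (.node 57624327474 1 .leaf .leaf) .leaf) (.node 57688051858 1 .leaf .leaf)) (.node 57724923623 1 (.node 57721710375 1 .leaf .leaf) (.node 57772011015 1 .leaf .leaf))) (.node 57825758165 1 (.node 57792147399 1 (.node 57788689927 1 .leaf .leaf) (.node 57822178965 1 .leaf .leaf)) (.node 57926366226 1 (.node 57922941074 1 .leaf .leaf) (.node 57939687712 1 .leaf .leaf)))))) (.node 58665753052 1 (.node 58386399082 1 (.node 58252144419 1 (.node 58050875242 1 (.node 58034065045 1 (.node 58028272092 1 (.node 58017255132 1 .leaf .leaf) .leaf) (.node 58045086677 1 .leaf .leaf)) (.node 58067685155 1 (.node 58061899242 1 .leaf .leaf) (.node 58078713827 1 .leaf .leaf))) (.node 58319380991 1 (.node 58285629513 1 (.node 58263087075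 1 .leaf .leaf) (.node 58296697353 1 .leaf .leaf)) (.node 58352873109 1 (.node 58330345023 1 .leaf .leaf) (.node 58363956181 1 .leaf .leaf)))) (.node 58531531733 1 (.node 58481372735 1 (.node 58447725065 1 (.node 58436628553 1 (.node 58397308394 1 .leaf .leaf) .leaf) (.node 58470380031 1 .leaf .leaf)) (.node 58498177500 1 (.node 58487127772 1 .leaf .leaf) (.node 58520653461 1 .leaf .leaf))) (.node 58598752777 1 (.node 58565160511 1 (.node 58554270207 1 .leaf .leaf) (.node 58587627593 1 .leaf .leaf)) (.node 58632382435 1 (.node 58621251363 1 .leaf .leaf) (.node 58654908124 1 .leaf .leaf))))) (.node 60181822742 1 (.node 58839461667 1 (.node 58755506026 1 (.node 58738626633 1 (.node 58716188223 1 (.node 58705269247 1 .leaf .leaf) .leaf) (.node 58749780489 1 .leaf .leaf)) (.node 58822651754 1 (.node 58766603754 1 .leaf .leaf) (.node 58833585642 1 .leaf .leaf))) (.node 58872950421 1 (.node 58856140508 1 (.node 58850400227 1 .leaf .leaf) (.node 58867198428 1 .leaf .leaf)) (.node 60165008734 1 (.node 58884013013 1 .leaf .leaf) (.node 60179679966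 1 .leaf .leaf)))) (.node 60433435886 1 (.node 60215450790 1 (.node 60198636782 1 (.node 60196489366 1 .leaf .leaf) (.node 60213299054 1 .leaf .leaf)) (.node 60399820872 1 (.node 60230108454 1 .leaf .leaf) (.node 60414566984 1 .leaf .leaf))) (.node 60517503408 1 (.node 60483894550 1 (.node 60448057198 1 .leaf .leaf) (.node 60498618518 1 .leaf .leaf)) (.node 60534042696 1 (.node 60532108720 1 .leaf .leaf) (.node 60548821576 1 .leaf .leaf))))))))

/-- A piece of the keys. -/
def tkeysH7 : CTree := (.node 64567906664 1 (.node 63138289700 1 (.node 62366602658 1 (.node 60850952046 1 (.node 60733506854 1 (.node 60666297776 1 (.node 60616063710 1 (.node 60601302366 1 (.node 60599055654 1 .leaf .leaf) .leaf) (.node 60651717040 1 .leaf .leaf)) (.node 60683076168 1 (.node 60668264520 1 .leaf .leaf) (.node 60718709926 1 .leaf .leaf))) (.node 60800486832 1 (.node 60750056158 1 (.node 60735491422 1 .leaf .leaf) (.node 60785930672 1 .leaf .leaf)) (.node 60817330760 1 (.node 60802486344 1 .leaf .leaf) (.node 60836117742 1 .leaf .leaf)))) (.node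 61138156782 1 (.node 61104545118 1 (.node 60920144304 1 (.node 60901054614 1 (.node 60886519062 1 .leaf .leaf) .leaf) (.node 60934675888 1 .leaf .leaf)) (.node 61121350934 1 (.node 61119331038 1 .leaf .leaf) (.node 61136074902 1 .leaf .leaf))) (.node 62299348358 1 (.node 61154962598 1 (.node 61152819054 1 .leaf .leaf) (.node 61169562918 1 .leaf .leaf)) (.node 62316162398 1 (.node 62306159622 1 .leaf .leaf) (.node 62322969310 1 .leaf .leaf))))) (.node 62759353054 1 (.node 62557857496 1 (.node 62423602904 1 (.node 62407019526 1 (.node 62400232838 1 (.node 62373399842 1 .leaf .leaf) .leaf) (.node 62416752856 1 .leaf .leaf)) (.node 62440345892 1 (.node 62433560612 1 .leaf .leaf) (.node 62550974680 1 .leaf .leaf))) (.node 62625097724 1 (.node 62591346684 1 (.node 62584588540 1 .leaf .leaf) (.node 62618233084 1 .leaf .leaf)) (.node 62675394852 1 (.node 62668658724 1 .leaf .leaf) (.node 62752456030 1 .leaf .leaf)))) (.node 62987268312 1 (.node 62937085346 1 (.node 62920273246 1 (.node 62776098082 1 (.node 62769259938 1 .leaf .leaf) .leaf)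 (.node 62926965470 1 .leaf .leaf)) (.node 62953642236 1 (.node 62943776034 1 .leaf .leaf) (.node 62960621564 1 .leaf .leaf))) (.node 63054493948 1 (.node 63037671460 1 (.node 62994241240 1 .leaf .leaf) (.node 63044342052 1 .leaf .leaf)) (.node 63121473752 1 (.node 63061219324 1 .leaf .leaf) (.node 63128364760 1 .leaf .leaf)))))) (.node 63894997693 1 (.node 63478664198 1 (.node 63346343202 1 (.node 63279365126 1 (.node 63229131486 1 (.node 63222087006 1 (.node 63145173284 1 .leaf .leaf) .leaf) (.node 63272504710 1 .leaf .leaf)) (.node 63312854022 1 (.node 63306116486 1 .leaf .leaf) (.node 63339726242 1 .leaf .leaf))) (.node 63411423382 1 (.node 63377804294 1 (.node 63374925190 1 .leaf .leaf) (.node 63408553238 1 .leaf .leaf)) (.node 63428234603 1 (.node 63425365931 1 .leaf .leaf) (.node 63475809670 1 .leaf .leaf)))) (.node 63760773264 1 (.node 63693809579 1 (.node 63509137965 1 (.node 63495246992 1 (.node 63492329616 1 .leaf .leaf) .leaf) (.node 63511990637 1 .leaf .leaf)) (.node 63710625046 1 (.node 63696743787 1 .leaf .leaf) (.node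 63713552534 1 .leaf .leaf))) (.node 63844838077 1 (.node 63811193533 1 (.node 63763756176 1 .leaf .leaf) (.node 63813989885 1 .leaf .leaf)) (.node 63878449709 1 (.node 63847740925 1 .leaf .leaf) (.node 63881228653 1 .leaf .leaf))))) (.node 64300775574 1 (.node 64132864150 1 (.node 63964987757 1 (.node 63948440720 1 (.node 63945437328 1 (.node 63898011133 1 .leaf .leaf) .leaf) (.node 63962221101 1 .leaf .leaf)) (.node 63998608893 1 (.node 63995849405 1 .leaf .leaf) (.node 64130071830 1 .leaf .leaf))) (.node 64200008045 1 (.node 64149609835 1 (.node 64146876331 1 .leaf .leaf) (.node 64197052973 1 .leaf .leaf)) (.node 64216818832 1 (.node 64213864592 1 .leaf .leaf) (.node 64297663766 1 .leaf .leaf)))) (.node 64450502022 1 (.node 64367754246 1 (.node 64334265350 1 (.node 64331275654 1 .leaf .leaf) (.node 64364887430 1 .leaf .leaf)) (.node 64417987947 1 (.node 64415303595 1 .leaf .leaf) (.node 64449448966 1 .leaf .leaf))) (.node 64500944110 1 (.node 64484129172 1 (.node 64483069076 1 .leaf .leaf) (.node 64499877742 1 .leaf .leaf)) (.node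 64551386502 1 (.node 64550308870 1 .leaf .leaf) (.node 64566893416 1 .leaf .leaf))))))) (.node 66180370720 1 (.node 65423658374 1 (.node 65003277306 1 (.node 64885633170 1 (.node 64818687124 1 (.node 64801875822 1 (.node 64584713234 1 (.node 64583635090 1 .leaf .leaf) .leaf) (.node 64802999534 1 .leaf .leaf)) (.node 64835402746 1 (.node 64819812756 1 .leaf .leaf) (.node 64836351354 1 .leaf .leaf))) (.node 64936131578 1 (.node 64902642536 1 (.node 64886768658 1 .leaf .leaf) (.node 64903606632 1 .leaf .leaf)) (.node 64969657192 1 (.node 64937219450 1 .leaf .leaf) (.node 64970572136 1 .leaf .leaf)))) (.node 65155230100 1 (.node 65088238610 1 (.node 65037796730 1 (.node 65036635130 1 (.node 65004201338 1 .leaf .leaf) .leaf) (.node 65087062162 1 .leaf .leaf)) (.node 65138425070 1 (.node 65137530734 1 .leaf .leaf) (.node 65154276500 1 .leaf .leaf))) (.node 65323054098 1 (.node 65306239336 1 (.node 65305144168 1 .leaf .leaf) (.node 65321951378 1 .leaf .leaf)) (.node 65373240558 1 (.node 65372419950 1 .leaf .leaf) (.node 65422654470 1 .leaf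 .leaf))))) (.node 65772792315 1 (.node 65588331814 1 (.node 65521093638 1 (.node 65489632404 1 (.node 65457270150 1 (.node 65456143366 1 .leaf .leaf) .leaf) (.node 65490880916 1 .leaf .leaf)) (.node 65537903837 1 (.node 65526078854 1 .leaf .leaf) (.node 65542892445 1 .leaf .leaf))) (.node 65638537504 1 (.node 65621953542 1 (.node 65593334950 1 .leaf .leaf) (.node 65626963334 1 .leaf .leaf)) (.node 65655279835 1 (.node 65643483424 1 .leaf .leaf) (.node 65660290587 1 .leaf .leaf)))) (.node 66012798118 1 (.node 65861775648 1 (.node 65811318299 1 (.node 65806278875 1 (.node 65777706811 1 .leaf .leaf) .leaf) (.node 65856842016 1 .leaf .leaf)) (.node 65878574907 1 (.node 65873521147 1 .leaf .leaf) (.node 66007774502 1 .leaf .leaf))) (.node 66079779741 1 (.node 66029603741 1 (.node 66024520925 1 .leaf .leaf) (.node 66074922205 1 .leaf .leaf)) (.node 66096594086 1 (.node 66091730214 1 .leaf .leaf) (.node 66175555872 1 .leaf .leaf)))))) (.node 68046543252 1 (.node 66561277149 1 (.node 66393598240 1 (.node 66292895963 1 (.node 66259278331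 1 (.node 66230806331 1 (.node 66225920507 1 .leaf .leaf) .leaf) (.node 66264401723 1 .leaf .leaf)) (.node 66376786139 1 (.node 66298029595 1 .leaf .leaf) (.node 66381817371 1 .leaf .leaf))) (.node 66477554694 1 (.node 66444064038 1 (.node 66398630176 1 .leaf .leaf) (.node 66448817318 1 .leaf .leaf)) (.node 66511043590 1 (.node 66482429318 1 .leaf .leaf) (.node 66516041094 1 .leaf .leaf)))) (.node 67744486818 1 (.node 67710859668 1 (.node 67694046109 1 (.node 67681193181 1 (.node 66566458269 1 .leaf .leaf) .leaf) (.node 67698003092 1 .leaf .leaf)) (.node 67727673259 1 (.node 67714813291 1 .leaf .leaf) (.node 67731623202 1 .leaf .leaf))) (.node 67962470921 1 (.node 67928860587 1 (.node 67916082539 1 .leaf .leaf) (.node 67949568073 1 .leaf .leaf)) (.node 68012932150 1 (.node 68000129462 1 .leaf .leaf) (.node 68033621140 1 .leaf .leaf))))) (.node 68318846100 1 (.node 68184591581 1 (.node 68117574070 1 (.node 68100567113 1 (.node 68063081890 1 (.node 68050337058 1 .leaf .leaf) .leaf) (.node 68113498633 1 .leaf .leaf)) (.node 68167810269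 1 (.node 68130339894 1 .leaf .leaf) (.node 68180757405 1 .leaf .leaf))) (.node 68251566153 1 (.node 68235018678 1 (.node 68197305245 1 .leaf .leaf) (.node 68247747638 1 .leaf .leaf)) (.node 68301999394 1 (.node 68264526345 1 .leaf .leaf) (.node 68314969506 1 .leaf .leaf)))) (.node 68620844322 1 (.node 68402565193 1 (.node 68352463286 1 (.node 68331526548 1 .leaf .leaf) (.node 68365155382 1 .leaf .leaf)) (.node 68436188523 1 (.node 68415554057 1 .leaf .leaf) (.node 68449183659 1 .leaf .leaf))) (.node 68654333076 1 (.node 68637588843 1 (.node 68633580962 1 .leaf .leaf) (.node 68650387371 1 .leaf .leaf)) (.node 68671077597 1 (.node 68667193748 1 .leaf .leaf) (.node 68684000157 1 .leaf .leaf))))))))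

/-- The normaliser of the first subgroup in the pattern `206`. -/
def tdataH : TData :=
  ⟨[
  ([2, 3, 2], [0, 1, 4, 5, 2, 3, 6, 7, 8, 9, 12, 13, 10, 11, 14, 15, 32, 33, 36, 37, 34, 35, 38, 39, 40, 41, 44, 45, 42, 43, 46, 47, 16, 17, 20, 21, 18, 19, 22, 23, 24, 25, 28, 29, 26, 27, 30, 31, 48, 49, 52, 53, 50, 51, 54, 55, 56, 57, 60, 61, 58, 59, 62, 63], (17109079, 4472919, 1)),
  ([2, 0, 2], [0, 1, 2, 3, 7, 6, 5, 4, 8, 9, 10, 11, 15, 14, 13, 12, 16, 17, 18, 19, 23, 22, 21, 20, 24, 25, 26, 27, 31, 30, 29, 28, 56, 57, 58, 59, 63, 62, 61, 60, 48, 49, 50, 51, 55, 54, 53, 52, 40, 41, 42, 43, 47, 46, 45, 44, 32, 33, 34, 35, 39, 38, 37, 36], (17109057, 23334979, 1)),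
  ([1, 2, 1], [0, 1, 2, 3, 4, 5, 6, 7, 8, 9, 10, 11, 12, 13, 14, 15, 16, 17, 18, 19, 20, 21, 22, 23, 24, 25, 26, 27, 28, 29, 30, 31, 32, 33, 34, 35, 36, 37, 38, 39, 40, 41, 42, 43, 44, 45, 46, 47, 48, 49, 50, 51, 52, 53, 54, 55, 56, 57, 58, 59, 60, 61, 62, 63], (17764421, 17043521, 1)),
  ([0, 2, 0], [0, 9, 18, 27, 54, 63, 36, 45, 8, 1, 26, 19, 62, 55, 44, 37, 16, 25, 2, 11, 38, 47, 52, 61, 24, 17, 10, 3, 46, 39, 60, 53, 48, 57, 34, 43, 6, 15, 20, 29, 56, 49, 42, 35, 14, 7, 28, 21, 32, 41, 50, 59, 22, 31, 4, 13, 40, 33, 58, 51, 30, 23, 12, 5], (17043525, 21237839, 2)),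
  ([4], [0, 18, 9, 27, 53, 39, 60, 46, 16, 2, 25, 11, 37, 55, 44, 62, 8, 26, 1, 19, 61, 47, 52, 38, 24, 10, 17, 3, 45, 63, 36, 54, 43, 57, 34, 48, 30, 12, 23, 5, 59, 41, 50, 32, 14, 28, 7, 21, 35, 49, 42, 56, 22, 4, 31, 13, 51, 33, 58, 40, 6, 20, 15, 29], (0, 0, 0)),
  ([1, 5, 1, 3, 2, 3], [0, 8, 16, 24, 32, 40, 48, 56, 9, 1, 25, 17, 41, 33, 57, 49, 18, 26, 2, 10, 50, 58, 34, 42, 27, 19, 11, 3, 59, 51, 43, 35, 36, 44, 52, 60, 4, 12, 20, 28, 45, 37, 61, 53, 13, 5, 29, 21, 54, 62, 38, 46, 22, 30, 6, 14, 63, 55, 47, 39, 31, 23, 15, 7], (0, 0, 0))],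
  34629230664, (.node 37049879453 1 (.node 21753243563 1 (.node 7092651517 1 tkeysH0 tkeysH1) (.node 29981832701 1 tkeysH2 tkeysH3)) (.node 52296322847 1 (.node 45220885810 1 tkeysH4 tkeysH5) (.node 60584463526 1 tkeysH6 tkeysH7)))⟩

end Cfsg.Agent.Fus.Transv
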