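import Cfsg.Agent.Lib.Fus.Transv.TBound

/-! Generated data for the centralizer of a transvection. -/

set_option autoImplicit false
set_option maxRecDepth 100000

namespace Cfsg.Agent.Fus.Transv

/-- A piece of the keys. -/
def tkeysL0 : CTree := (.node 2202648519 1 (.node 1160175559 1 (.node 1126547399 1 (.node 1109733319 1 (.node 1109462535 1 (.node 1109461509 1 (.node 1109460996 1 .leaf .leaf) (.node 1109462022 1 .leaf .leaf)) (.node 1109732165 1 (.node 1109731588 1 .leaf .leaf) (.node 1109732742 1 .leaf .leaf))) (.node 1126272519 1 (.node 1126271493 1 (.node 1126270980 1 .leaf .leaf) (.node 1126272006 1 .leaf .leaf)) (.node 1126546245 1 (.node 1126545668 1 .leaf .leaf) (.node 1126546822 1 .leaf .leaf)))) (.node 1143361479 1 (.node 1143082503 1 (.node 1143080451 1 (.node 1143079938 1 .leaf .leaf) (.node 1143081990 1 .leaf .leaf)) (.node 1143359171 1 (.node 1143358594 1 .leaf .leaf) (.node 1143360902 1 .leaf .leaf))) (.node 1159892487 1 (.node 1159890435 1 (.node 1159889922 1 .leaf .leaf) (.node 1159891974 1 .leaf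 .leaf)) (.node 1160173251 1 (.node 1160172674 1 .leaf .leaf) (.node 1160174982 1 .leaf .leaf))))) (.node 1193802565 1 (.node 1176988485 1 (.node 1176701445 1 (.node 1176700419 1 (.node 1176699906 1 .leaf .leaf) (.node 1176700932 1 .leaf .leaf)) (.node 1176987331 1 (.node 1176986754 1 .leaf .leaf) (.node 1176987908 1 .leaf .leaf))) (.node 1193511429 1 (.node 1193510403 1 (.node 1193509890 1 .leaf .leaf) (.node 1193510916 1 .leaf .leaf)) (.node 1193801411 1 (.node 1193800834 1 .leaf .leaf) (.node 1193801988 1 .leaf .leaf)))) (.node 2169020359 1 (.node 2168491527 1 (.node 2168490501 1 (.node 2168489988 1 .leaf .leaf) (.node 2168491014 1 .leaf .leaf)) (.node 2169019205 1 (.node 2169018628 1 .leaf .leaf) (.node 2169019782 1 .leaf .leaf))) (.node 2202111495 1 (.node 2202110469 1 (.node 2202109956 1 .leaf .leaf) (.node 2202110982 1 .leaf .leaf)) (.node 2202647365 1 (.node 2202646788 1 .leaf .leaf) (.node 2202647942 1 .leaf .leaf)))))) (.node 2269904262 1 (.node 2236276102 1 (.node 2219462599 1 (.node 2218921479 1 (.node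 2218919427 1 (.node 2218918401 1 .leaf .leaf) (.node 2218920453 1 .leaf .leaf)) (.node 2219460291 1 (.node 2219459137 1 .leaf .leaf) (.node 2219461445 1 .leaf .leaf))) (.node 2235730950 1 (.node 2235729411 1 (.node 2235728385 1 .leaf .leaf) (.node 2235729924 1 .leaf .leaf)) (.node 2236274371 1 (.node 2236273217 1 .leaf .leaf) (.node 2236274948 1 .leaf .leaf)))) (.node 2253090759 1 (.node 2252541447 1 (.node 2252539395 1 (.node 2252538369 1 .leaf .leaf) (.node 2252540421 1 .leaf .leaf)) (.node 2253088451 1 (.node 2253087297 1 .leaf .leaf) (.node 2253089605 1 .leaf .leaf))) (.node 2269350918 1 (.node 2269349379 1 (.node 2269348353 1 .leaf .leaf) (.node 2269349892 1 .leaf .leaf)) (.node 2269902531 1 (.node 2269901377 1 .leaf .leaf) (.node 2269903108 1 .leaf .leaf))))) (.node 3261935559 1 (.node 3245121479 1 (.node 3244330503 1 (.node 3244329477 1 (.node 3244328964 1 .leaf .leaf) (.node 3244329990 1 .leaf .leaf)) (.node 3245120325 1 (.node 3245119748 1 .leaf .leaf) (.node 3245120902 1 .leaf .leaf))) (.node 3261140487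 1 (.node 3261139461 1 (.node 3261138948 1 .leaf .leaf) (.node 3261139974 1 .leaf .leaf)) (.node 3261934405 1 (.node 3261933828 1 .leaf .leaf) (.node 3261934982 1 .leaf .leaf)))) (.node 3295563142 1 (.node 3294759942 1 (.node 3294757890 1 (.node 3294757377 1 .leaf .leaf) (.node 3294759429 1 .leaf .leaf)) (.node 3295560834 1 (.node 3295560257 1 .leaf .leaf) (.node 3295562565 1 .leaf .leaf))) (.node 3311570439 1 (.node 3311567874 1 (.node 3311567361 1 .leaf .leaf) (.node 3311568900 1 .leaf .leaf)) (.node 3312374914 1 (.node 3312374337 1 .leaf .leaf) .leaf))))))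

/-- A piece of the keys. -/
def tkeysL1 : CTree := (.node 4422104194 1 (.node 4338035525 1 (.node 3346004805 1 (.node 3329190148 1 (.node 3328378884 1 (.node 3328377345 1 (.node 3312377799 1 .leaf .leaf) (.node 3328377858 1 .leaf .leaf)) (.node 3329188417 1 (.node 3328380423 1 .leaf .leaf) (.node 3329188994 1 .leaf .leaf))) (.node 3345189381 1 (.node 3345187329 1 (.node 3329191879 1 .leaf .leaf) (.node 3345187842 1 .leaf .leaf)) (.node 3346002497 1 (.node 3345189894 1 .leaf .leaf) (.node 3346003074 1 .leaf .leaf)))) (.node 4321222022 1 (.node 4320168966 1 (.node 4320166914 1 (.node 3346005382 1 .leaf .leaf) (.node 4320167427 1 .leaf .leaf)) (.node 4321219714 1 (.node 4320169479 1 .leaf .leaf) (.node 4321220291 1 .leaf .leaf))) (.node 4336978437 1 (.node 4336976385 1 (.node 4321222599 1 .leaf .leaf) (.node 4336977411 1 .leaf .leaf)) (.node 4338033217 1 (.node 4336979463 1 .leaf .leaf) (.node 4338034371 1 .leaf .leaf))))) (.node 4388478342 1 (.node 4354849605 1 (.node 4353788421 1 (.node 4353786369 1 (.node 4338036679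 1 .leaf .leaf) (.node 4353786882 1 .leaf .leaf)) (.node 4354847297 1 (.node 4353788934 1 .leaf .leaf) (.node 4354847874 1 .leaf .leaf))) (.node 4387408902 1 (.node 4387406850 1 (.node 4354850182 1 .leaf .leaf) (.node 4387407363 1 .leaf .leaf)) (.node 4388476034 1 (.node 4387409415 1 .leaf .leaf) (.node 4388476611 1 .leaf .leaf)))) (.node 4405291845 1 (.node 4404218373 1 (.node 4404216321 1 (.node 4388478919 1 .leaf .leaf) (.node 4404217347 1 .leaf .leaf)) (.node 4405289537 1 (.node 4404219399 1 .leaf .leaf) (.node 4405290691 1 .leaf .leaf))) (.node 4421028357 1 (.node 4421026305 1 (.node 4405292999 1 .leaf .leaf) (.node 4421026818 1 .leaf .leaf)) (.node 4422103617 1 (.node 4421028870 1 .leaf .leaf) .leaf))))) (.node 5447763651 1 (.node 5414135491 1 (.node 5397321411 1 (.node 5396006403 1 (.node 4422106502 1 (.node 4422105925 1 .leaf .leaf) (.node 5396005890 1 .leaf .leaf)) (.node 5396008455 1 (.node 5396007942 1 .leaf .leaf) (.node 5397320834 1 .leaf .leaf))) (.node 5412816387 1 (.node 5397323719 1 (.node 5397323142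 1 .leaf .leaf) (.node 5412815361 1 .leaf .leaf)) (.node 5412817926 1 (.node 5412816900 1 .leaf .leaf) (.node 5414134337 1 .leaf .leaf)))) (.node 5430948994 1 (.node 5429625858 1 (.node 5414137222 1 (.node 5414136068 1 .leaf .leaf) (.node 5429625345 1 .leaf .leaf)) (.node 5429628423 1 (.node 5429626884 1 .leaf .leaf) (.node 5430948417 1 .leaf .leaf))) (.node 5446436355 1 (.node 5430951879 1 (.node 5430950148 1 .leaf .leaf) (.node 5446435842 1 .leaf .leaf)) (.node 5446438407 1 (.node 5446437894 1 .leaf .leaf) (.node 5447763074 1 .leaf .leaf))))) (.node 5498205891 1 (.node 5481391234 1 (.node 5480055810 1 (.node 5447765959 1 (.node 5447765382 1 .leaf .leaf) (.node 5480055297 1 .leaf .leaf)) (.node 5480058375 1 (.node 5480056836 1 .leaf .leaf) (.node 5481390657 1 .leaf .leaf))) (.node 5496866307 1 (.node 5481394119 1 (.node 5481392388 1 .leaf .leaf) (.node 5496865281 1 .leaf .leaf)) (.node 5496867846 1 (.node 5496866820 1 .leaf .leaf) (.node 5498204737 1 .leaf .leaf)))) (.node 6473422531 1 (.node 6471845379 1 (.node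 5498207622 1 (.node 5498206468 1 .leaf .leaf) (.node 6471844866 1 .leaf .leaf)) (.node 6471846405 1 (.node 6471845892 1 .leaf .leaf) (.node 6473421954 1 .leaf .leaf))) (.node 6488655363 1 (.node 6473423685 1 (.node 6473423108 1 .leaf .leaf) (.node 6488654337 1 .leaf .leaf)) (.node 6488657415 1 (.node 6488656389 1 .leaf .leaf) .leaf))))))

/-- A piece of the keys. -/
def tkeysL2 : CTree := (.node 7598115846 1 (.node 6574306434 1 (.node 6523863617 1 (.node 6507049537 1 (.node 6505464321 1 (.node 6490237765 1 (.node 6490236611 1 .leaf .leaf) (.node 6490238919 1 .leaf .leaf)) (.node 6505465860 1 (.node 6505464834 1 .leaf .leaf) (.node 6505467399 1 .leaf .leaf))) (.node 6522274305 1 (.node 6507051268 1 (.node 6507050114 1 .leaf .leaf) (.node 6507052999 1 .leaf .leaf)) (.node 6522276357 1 (.node 6522275331 1 .leaf .leaf) (.node 6522277383 1 .leaf .leaf)))) (.node 6540677697 1 (.node 6539084289 1 (.node 6523865925 1 (.node 6523864771 1 .leaf .leaf) (.node 6523867079 1 .leaf .leaf)) (.node 6539085828 1 (.node 6539084802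 1 .leaf .leaf) (.node 6539087367 1 .leaf .leaf))) (.node 6572704770 1 (.node 6540679428 1 (.node 6540678274 1 .leaf .leaf) (.node 6540681159 1 .leaf .leaf)) (.node 6572705796 1 (.node 6572705283 1 .leaf .leaf) (.node 6572706309 1 .leaf .leaf))))) (.node 7566336577 1 (.node 7549523074 1 (.node 7547683842 1 (.node 6574307588 1 (.node 6574307011 1 .leaf .leaf) (.node 6574308165 1 .leaf .leaf)) (.node 7547684868 1 (.node 7547684355 1 .leaf .leaf) (.node 7547685381 1 .leaf .leaf))) (.node 7564493313 1 (.node 7549524228 1 (.node 7549523651 1 .leaf .leaf) (.node 7549524805 1 .leaf .leaf)) (.node 7564494852 1 (.node 7564494339 1 .leaf .leaf) (.node 7564495878 1 .leaf .leaf)))) (.node 7583150657 1 (.node 7581303297 1 (.node 7566338308 1 (.node 7566337731 1 .leaf .leaf) (.node 7566339462 1 .leaf .leaf)) (.node 7581305349 1 (.node 7581303810 1 .leaf .leaf) (.node 7581305862 1 .leaf .leaf))) (.node 7598113281 1 (.node 7583152965 1 (.node 7583151234 1 .leaf .leaf) (.node 7583153542 1 .leaf .leaf)) (.node 7598115333 1 (.node 7598113794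 1 .leaf .leaf) .leaf))))) (.node 8992862712 1 (.node 7631735301 1 (.node 7614925830 1 (.node 7599967622 1 (.node 7599965314 1 (.node 7599964737 1 .leaf .leaf) (.node 7599967045 1 .leaf .leaf)) (.node 7614924291 1 (.node 7614923265 1 .leaf .leaf) (.node 7614924804 1 .leaf .leaf))) (.node 7616781702 1 (.node 7616779971 1 (.node 7616778817 1 .leaf .leaf) (.node 7616780548 1 .leaf .leaf)) (.node 7631734275 1 (.node 7631733762 1 .leaf .leaf) (.node 7631734788 1 .leaf .leaf)))) (.node 8858640888 1 (.node 7633595205 1 (.node 7633594051 1 (.node 7633593474 1 .leaf .leaf) (.node 7633594628 1 .leaf .leaf)) (.node 8858640744 1 (.node 8858640672 1 .leaf .leaf) (.node 8858640816 1 .leaf .leaf))) (.node 8860807160 1 (.node 8860805992 1 (.node 8860805408 1 .leaf .leaf) (.node 8860806576 1 .leaf .leaf)) (.node 8992862568 1 (.node 8992862496 1 .leaf .leaf) (.node 8992862640 1 .leaf .leaf))))) (.node 9261306360 1 (.node 9127084536 1 (.node 8995061752 1 (.node 8995060584 1 (.node 8995060000 1 .leaf .leaf) (.node 8995061168 1 .leaf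 .leaf)) (.node 9127084248 1 (.node 9127084176 1 .leaf .leaf) (.node 9127084464 1 .leaf .leaf))) (.node 9129316344 1 (.node 9129314008 1 (.node 9129313424 1 .leaf .leaf) (.node 9129315760 1 .leaf .leaf)) (.node 9261306072 1 (.node 9261306000 1 .leaf .leaf) (.node 9261306288 1 .leaf .leaf)))) (.node 9395528040 1 (.node 9263570936 1 (.node 9263568600 1 (.node 9263568016 1 .leaf .leaf) (.node 9263570352 1 .leaf .leaf)) (.node 9395527896 1 (.node 9395527824 1 .leaf .leaf) (.node 9395527968 1 .leaf .leaf))) (.node 9397824360 1 (.node 9397823192 1 (.node 9397822608 1 .leaf .leaf) (.node 9397823776 1 .leaf .leaf)) (.node 9529749720 1 (.node 9529749648 1 .leaf .leaf) .leaf))))))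

/-- A piece of the keys. -/
def tkeysL3 : CTree := (.node 17583059304 1 (.node 10418934198 1 (.node 10116936118 1 (.node 9965937078 1 (.node 9532078368 1 (.node 9532077200 1 (.node 9529749864 1 .leaf .leaf) (.node 9532077784 1 .leaf .leaf)) (.node 9965936932 1 (.node 9532078952 1 .leaf .leaf) (.node 9965937005 1 .leaf .leaf))) (.node 9967832118 1 (.node 9967831076 1 (.node 9965937151 1 .leaf .leaf) (.node 9967831597 1 .leaf .leaf)) (.node 10116935972 1 (.node 9967832639 1 .leaf .leaf) (.node 10116936045 1 .leaf .leaf)))) (.node 10267935158 1 (.node 10118859830 1 (.node 10118858788 1 (.node 10116936191 1 .leaf .leaf) (.node 10118859309 1 .leaf .leaf)) (.node 10267934866 1 (.node 10118860351 1 .leaf .leaf) (.node 10267934939 1 .leaf .leaf))) (.node 10269887542 1 (.node 10269885458 1 (.node 10267935231 1 .leaf .leaf) (.node 10269885979 1 .leaf .leaf)) (.node 10418933906 1 (.node 10269888063 1 .leaf .leaf) (.node 10418933979 1 .leaf .leaf))))) (.node 10720932132 1 (.node 10569933092 1 (.node 10420915254 1 (.node 10420913170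 1 (.node 10418934271 1 .leaf .leaf) (.node 10420913691 1 .leaf .leaf)) (.node 10569932946 1 (.node 10420915775 1 .leaf .leaf) (.node 10569933019 1 .leaf .leaf))) (.node 10571941924 1 (.node 10571940882 1 (.node 10569933165 1 .leaf .leaf) (.node 10571941403 1 .leaf .leaf)) (.node 10720931986 1 (.node 10571942445 1 .leaf .leaf) (.node 10720932059 1 .leaf .leaf)))) (.node 17314615728 1 (.node 10722969636 1 (.node 10722968594 1 (.node 10720932205 1 .leaf .leaf) (.node 10722969115 1 .leaf .leaf)) (.node 17314615584 1 (.node 10722970157 1 .leaf .leaf) (.node 17314615656 1 .leaf .leaf))) (.node 17318845872 1 (.node 17318844704 1 (.node 17314615800 1 .leaf .leaf) (.node 17318845288 1 .leaf .leaf)) (.node 17583059232 1 (.node 17318846456 1 .leaf .leaf) .leaf))))) (.node 18119946456 1 (.node 17851502808 1 (.node 17717280984 1 (.node 17587354472 1 (.node 17583059448 1 (.node 17583059376 1 .leaf .leaf) (.node 17587353888 1 .leaf .leaf)) (.node 17587355640 1 (.node 17587355056 1 .leaf .leaf) (.node 17717280840 1 .leaf .leaf)))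 (.node 17721607896 1 (.node 17717281272 1 (.node 17717281128 1 .leaf .leaf) (.node 17721606728 1 .leaf .leaf)) (.node 17721610232 1 (.node 17721609064 1 .leaf .leaf) (.node 17851502664 1 .leaf .leaf)))) (.node 17985724632 1 (.node 17855862488 1 (.node 17851503024 1 (.node 17851502880 1 .leaf .leaf) (.node 17855861320 1 .leaf .leaf)) (.node 17855864240 1 (.node 17855863072 1 .leaf .leaf) (.node 17985724488 1 .leaf .leaf))) (.node 17990117080 1 (.node 17985724920 1 (.node 17985724776 1 .leaf .leaf) (.node 17990115912 1 .leaf .leaf)) (.node 17990119416 1 (.node 17990118248 1 .leaf .leaf) (.node 18119946312 1 .leaf .leaf))))) (.node 19780874605 1 (.node 19478876525 1 (.node 18124371672 1 (.node 18119946672 1 (.node 18119946528 1 .leaf .leaf) (.node 18124370504 1 .leaf .leaf)) (.node 18124373424 1 (.node 18124372256 1 .leaf .leaf) (.node 19478876452 1 .leaf .leaf))) (.node 19482577453 1 (.node 19478876671 1 (.node 19478876598 1 .leaf .leaf) (.node 19482576932 1 .leaf .leaf)) (.node 19482578495 1 (.node 19482577974 1 .leaf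 .leaf) (.node 19780874532 1 .leaf .leaf)))) (.node 19931873499 1 (.node 19784632877 1 (.node 19780874751 1 (.node 19780874678 1 .leaf .leaf) (.node 19784632356 1 .leaf .leaf)) (.node 19784633919 1 (.node 19784633398 1 .leaf .leaf) (.node 19931873353 1 .leaf .leaf))) (.node 19935659547 1 (.node 19931873791 1 (.node 19931873645 1 .leaf .leaf) (.node 19935658505 1 .leaf .leaf)) (.node 19935661631 1 (.node 19935660589 1 .leaf .leaf) .leaf))))))

/-- A piece of the keys. -/
def tkeysL4 : CTree := (.node 26582413304 1 (.node 26039034144 1 (.node 20384870473 1 (.node 20233871433 1 (.node 20086686217 1 (.node 20082872612 1 (.node 20082872539 1 .leaf .leaf) (.node 20082872758 1 .leaf .leaf)) (.node 20086687780 1 (.node 20086687259 1 .leaf .leaf) (.node 20086688822 1 .leaf .leaf))) (.node 20237713929 1 (.node 20233871725 1 (.node 20233871579 1 .leaf .leaf) (.node 20233871871 1 .leaf .leaf)) (.node 20237716013 1 (.node 20237714971 1 .leaf .leaf) (.node 20237717055 1 .leaf .leaf)))) (.node 25904812320 1 (.node 20388741641 1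 (.node 20384870692 1 (.node 20384870619 1 .leaf .leaf) (.node 20384870838 1 .leaf .leaf)) (.node 20388743204 1 (.node 20388742683 1 .leaf .leaf) (.node 20388744246 1 .leaf .leaf))) (.node 25911138592 1 (.node 25904812464 1 (.node 25904812392 1 .leaf .leaf) (.node 25904812536 1 .leaf .leaf)) (.node 25911139760 1 (.node 25911139176 1 .leaf .leaf) (.node 25911140344 1 .leaf .leaf))))) (.node 26441699400 1 (.node 26307477576 1 (.node 26045393184 1 (.node 26039034288 1 (.node 26039034216 1 .leaf .leaf) (.node 26039034360 1 .leaf .leaf)) (.node 26045394352 1 (.node 26045393768 1 .leaf .leaf) (.node 26045394936 1 .leaf .leaf))) (.node 26313900616 1 (.node 26307477864 1 (.node 26307477648 1 .leaf .leaf) (.node 26307477936 1 .leaf .leaf)) (.node 26313902952 1 (.node 26313901200 1 .leaf .leaf) (.node 26313903536 1 .leaf .leaf)))) (.node 26575921224 1 (.node 26448155208 1 (.node 26441699616 1 (.node 26441699472 1 .leaf .leaf) (.node 26441699832 1 .leaf .leaf)) (.node 26448156960 1 (.node 26448155792 1 .leaf .leaf) (.node 26448158712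 1 .leaf .leaf))) (.node 26582409800 1 (.node 26575921440 1 (.node 26575921296 1 .leaf .leaf) (.node 26575921656 1 .leaf .leaf)) (.node 26582411552 1 (.node 26582410384 1 .leaf .leaf) .leaf))))) (.node 29601434678 1 (.node 29148352063 1 (.node 26716667312 1 (.node 26710143408 1 (.node 26710143120 1 (.node 26710143048 1 .leaf .leaf) (.node 26710143336 1 .leaf .leaf)) (.node 26716664976 1 (.node 26716664392 1 .leaf .leaf) (.node 26716666728 1 .leaf .leaf))) (.node 29142815231 1 (.node 29142815085 1 (.node 29142815012 1 .leaf .leaf) (.node 29142815158 1 .leaf .leaf)) (.node 29148351021 1 (.node 29148350500 1 .leaf .leaf) (.node 29148351542 1 .leaf .leaf)))) (.node 29299379775 1 (.node 29293814271 1 (.node 29293814125 1 (.node 29293814052 1 .leaf .leaf) (.node 29293814198 1 .leaf .leaf)) (.node 29299378733 1 (.node 29299378212 1 .leaf .leaf) (.node 29299379254 1 .leaf .leaf))) (.node 29595812278 1 (.node 29595811986 1 (.node 29595811913 1 .leaf .leaf) (.node 29595812205 1 .leaf .leaf)) (.node 29601432594 1 (.node 29601432073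 1 .leaf .leaf) (.node 29601434157 1 .leaf .leaf))))) (.node 29903490623 1 (.node 29752462911 1 (.node 29746811391 1 (.node 29746811026 1 (.node 29746810953 1 .leaf .leaf) (.node 29746811172 1 .leaf .leaf)) (.node 29752460306 1 (.node 29752459785 1 .leaf .leaf) (.node 29752461348 1 .leaf .leaf))) (.node 29897810431 1 (.node 29897810066 1 (.node 29897809993 1 .leaf .leaf) (.node 29897810212 1 .leaf .leaf)) (.node 29903488018 1 (.node 29903487497 1 .leaf .leaf) (.node 29903489060 1 .leaf .leaf)))) (.node 30054517814 1 (.node 30048809398 1 (.node 30048809106 1 (.node 30048809033 1 .leaf .leaf) (.node 30048809325 1 .leaf .leaf)) (.node 30054515730 1 (.node 30054515209 1 .leaf .leaf) (.node 30054517293 1 .leaf .leaf))) (.node 34495009272 1 (.node 34495008984 1 (.node 34495008912 1 .leaf .leaf) (.node 34495009200 1 .leaf .leaf)) (.node 34503431896 1 (.node 34503431312 1 .leaf .leaf) .leaf))))))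

/-- A piece of the keys. -/
def tkeysL5 : CTree := (.node 39116178450 1 (.node 35174706024 1 (.node 34771942248 1 (.node 34637687656 1 (.node 34629230952 1 (.node 34629230664 1 (.node 34503434232 1 .leaf .leaf) (.node 34629230808 1 .leaf .leaf)) (.node 34637685320 1 (.node 34629231096 1 .leaf .leaf) (.node 34637686488 1 .leaf .leaf))) (.node 34763452776 1 (.node 34763452488 1 (.node 34637688824 1 .leaf .leaf) (.node 34763452560 1 .leaf .leaf)) (.node 34771939912 1 (.node 34763452848 1 .leaf .leaf) (.node 34771940496 1 .leaf .leaf)))) (.node 35040452016 1 (.node 35031896496 1 (.node 35031896208 1 (.node 34771942832 1 .leaf .leaf) (.node 35031896280 1 .leaf .leaf)) (.node 35040449680 1 (.node 35031896568 1 .leaf .leaf) (.node 35040450264 1 .leaf .leaf))) (.node 35166118248 1 (.node 35166117960 1 (.node 35040452600 1 .leaf .leaf) (.node 35166118104 1 .leaf .leaf)) (.node 35174703688 1 (.node 35166118392 1 .leaf .leaf) (.node 35174704856 1 .leaf .leaf))))) (.node 38814125110 1 (.node 35308960616 1 (.node 35300340072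 1 (.node 35300339784 1 (.node 35174707192 1 .leaf .leaf) (.node 35300339856 1 .leaf .leaf)) (.node 35308958280 1 (.node 35300340144 1 .leaf .leaf) (.node 35308958864 1 .leaf .leaf))) (.node 38806753718 1 (.node 38806753426 1 (.node 35308961200 1 .leaf .leaf) (.node 38806753499 1 .leaf .leaf)) (.node 38814123026 1 (.node 38806753791 1 .leaf .leaf) (.node 38814123547 1 .leaf .leaf)))) (.node 38965152301 1 (.node 38957752685 1 (.node 38957752393 1 (.node 38814125631 1 .leaf .leaf) (.node 38957752539 1 .leaf .leaf)) (.node 38965150217 1 (.node 38957752831 1 .leaf .leaf) (.node 38965151259 1 .leaf .leaf))) (.node 39108751725 1 (.node 39108751433 1 (.node 38965153343 1 .leaf .leaf) (.node 39108751506 1 .leaf .leaf)) (.node 39116177929 1 (.node 39108751798 1 .leaf .leaf) .leaf))))) (.node 43095725784 1 (.node 39569262107 1 (.node 39418234395 1 (.node 39410749659 1 (.node 39116180534 1 (.node 39116180013 1 .leaf .leaf) (.node 39410749586 1 .leaf .leaf)) (.node 39410749951 1 (.node 39410749878 1 .leaf .leaf) (.node 39418233874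 1 .leaf .leaf))) (.node 39561748699 1 (.node 39418236479 1 (.node 39418235958 1 .leaf .leaf) (.node 39561748553 1 .leaf .leaf)) (.node 39561748991 1 (.node 39561748845 1 .leaf .leaf) (.node 39569261065 1 .leaf .leaf)))) (.node 39720289298 1 (.node 39712747666 1 (.node 39569264191 1 (.node 39569263149 1 .leaf .leaf) (.node 39712747593 1 .leaf .leaf)) (.node 39712747958 1 (.node 39712747885 1 .leaf .leaf) (.node 39720288777 1 .leaf .leaf))) (.node 43085205720 1 (.node 39720291382 1 (.node 39720290861 1 .leaf .leaf) (.node 43085205648 1 .leaf .leaf)) (.node 43085206008 1 (.node 43085205936 1 .leaf .leaf) (.node 43095725200 1 .leaf .leaf))))) (.node 43364234384 1 (.node 43229980376 1 (.node 43219427544 1 (.node 43095728120 1 (.node 43095727536 1 .leaf .leaf) (.node 43219427400 1 .leaf .leaf)) (.node 43219427760 1 (.node 43219427616 1 .leaf .leaf) (.node 43229979208 1 .leaf .leaf))) (.node 43353649296 1 (.node 43229982128 1 (.node 43229980960 1 .leaf .leaf) (.node 43353649224 1 .leaf .leaf)) (.node 43353649656 1 (.node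 43353649440 1 .leaf .leaf) (.node 43364233800 1 .leaf .leaf)))) (.node 43498489560 1 (.node 43487871192 1 (.node 43364237304 1 (.node 43364235552 1 .leaf .leaf) (.node 43487871120 1 .leaf .leaf)) (.node 43487871480 1 (.node 43487871408 1 .leaf .leaf) (.node 43498488976 1 .leaf .leaf))) (.node 43756314768 1 (.node 43498491896 1 (.node 43498491312 1 .leaf .leaf) (.node 43756314696 1 .leaf .leaf)) (.node 43756315128 1 (.node 43756314912 1 .leaf .leaf) .leaf))))))

/-- A piece of the keys. -/
def tkeysL6 : CTree := (.node 51675402600 1 (.node 48781951497 1 (.node 48479896594 1 (.node 43901252168 1 (.node 43890536520 1 (.node 43766999328 1 (.node 43766998160 1 .leaf .leaf) (.node 43767001080 1 .leaf .leaf)) (.node 43890536736 1 (.node 43890536664 1 .leaf .leaf) (.node 43890536880 1 .leaf .leaf))) (.node 48470691986 1 (.node 43901253920 1 (.node 43901253336 1 .leaf .leaf) (.node 43901255088 1 .leaf .leaf)) (.node 48470692278 1 (.node 48470692059 1 .leaf .leaf) (.node 48470692351 1 .leaf .leaf)))) (.node 48630923785 1 (.node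 48621690953 1 (.node 48479898678 1 (.node 48479897115 1 .leaf .leaf) (.node 48479899199 1 .leaf .leaf)) (.node 48621691172 1 (.node 48621691099 1 .leaf .leaf) (.node 48621691318 1 .leaf .leaf))) (.node 48772689993 1 (.node 48630925348 1 (.node 48630924827 1 .leaf .leaf) (.node 48630926390 1 .leaf .leaf)) (.node 48772690212 1 (.node 48772690066 1 .leaf .leaf) (.node 48772690431 1 .leaf .leaf))))) (.node 49235034633 1 (.node 48932979730 1 (.node 48923689106 1 (.node 48781953060 1 (.node 48781952018 1 .leaf .leaf) (.node 48781954623 1 .leaf .leaf)) (.node 48923689398 1 (.node 48923689179 1 .leaf .leaf) (.node 48923689471 1 .leaf .leaf))) (.node 49225687113 1 (.node 48932981814 1 (.node 48932980251 1 .leaf .leaf) (.node 48932982335 1 .leaf .leaf)) (.node 49225687332 1 (.node 49225687186 1 .leaf .leaf) (.node 49225687551 1 .leaf .leaf)))) (.node 49386062345 1 (.node 49376686153 1 (.node 49235036196 1 (.node 49235035154 1 .leaf .leaf) (.node 49235037759 1 .leaf .leaf)) (.node 49376686372 1 (.node 49376686299 1 .leaf .leaf)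 (.node 49376686518 1 .leaf .leaf))) (.node 51675402384 1 (.node 49386063908 1 (.node 49386063387 1 .leaf .leaf) (.node 49386064950 1 .leaf .leaf)) (.node 51675402528 1 (.node 51675402456 1 .leaf .leaf) .leaf))))) (.node 52212290040 1 (.node 51943846392 1 (.node 51809624568 1 (.node 51688020840 1 (.node 51688019672 1 (.node 51688019088 1 .leaf .leaf) (.node 51688020256 1 .leaf .leaf)) (.node 51809624280 1 (.node 51809624136 1 .leaf .leaf) (.node 51809624424 1 .leaf .leaf))) (.node 51822276600 1 (.node 51822274264 1 (.node 51822273096 1 .leaf .leaf) (.node 51822275432 1 .leaf .leaf)) (.node 51943846032 1 (.node 51943845960 1 .leaf .leaf) (.node 51943846176 1 .leaf .leaf)))) (.node 52078068216 1 (.node 51956531192 1 (.node 51956528272 1 (.node 51956527688 1 .leaf .leaf) (.node 51956529440 1 .leaf .leaf)) (.node 52078067928 1 (.node 52078067784 1 .leaf .leaf) (.node 52078068072 1 .leaf .leaf))) (.node 52090785784 1 (.node 52090783448 1 (.node 52090782280 1 .leaf .leaf) (.node 52090784616 1 .leaf .leaf)) (.node 52212289680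 1 (.node 52212289608 1 .leaf .leaf) (.node 52212289824 1 .leaf .leaf))))) (.node 58134630765 1 (.node 52480733544 1 (.node 52225040376 1 (.node 52225037456 1 (.node 52225036872 1 .leaf .leaf) (.node 52225038624 1 .leaf .leaf)) (.node 52480733400 1 (.node 52480733328 1 .leaf .leaf) (.node 52480733472 1 .leaf .leaf))) (.node 52493548392 1 (.node 52493547224 1 (.node 52493546640 1 .leaf .leaf) (.node 52493547808 1 .leaf .leaf)) (.node 58134630619 1 (.node 58134630546 1 .leaf .leaf) (.node 58134630692 1 .leaf .leaf)))) (.node 58285629951 1 (.node 58145671725 1 (.node 58145670683 1 (.node 58145670162 1 .leaf .leaf) (.node 58145671204 1 .leaf .leaf)) (.node 58285629659 1 (.node 58285629513 1 .leaf .leaf) (.node 58285629805 1 .leaf .leaf))) (.node 58296700479 1 (.node 58296698395 1 (.node 58296697353 1 .leaf .leaf) (.node 58296699437 1 .leaf .leaf)) (.node 58436628626 1 (.node 58436628553 1 .leaf .leaf) .leaf))))))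

/-- A piece of the keys. -/
def tkeysL7 : CTree := (.node 60802486488 1 (.node 60265599264 1 (.node 58738626852 1 (.node 58587627885 1 (.node 58447726628 1 (.node 58447725065 1 (.node 58436628991 1 .leaf .leaf) (.node 58447725586 1 .leaf .leaf)) (.node 58587627593 1 (.node 58447728191 1 .leaf .leaf) (.node 58587627739 1 .leaf .leaf))) (.node 58598754861 1 (.node 58598752777 1 (.node 58587628031 1 .leaf .leaf) (.node 58598753819 1 .leaf .leaf)) (.node 58738626633 1 (.node 58598755903 1 .leaf .leaf) (.node 58738626706 1 .leaf .leaf)))) (.node 59040624932 1 (.node 58749782052 1 (.node 58749780489 1 (.node 58738627071 1 .leaf .leaf) (.node 58749781010 1 .leaf .leaf)) (.node 59040624786 1 (.node 58749783615 1 .leaf .leaf) (.node 59040624859 1 .leaf .leaf))) (.node 59051837476 1 (.node 59051836434 1 (.node 59040625005 1 .leaf .leaf) (.node 59051836955 1 .leaf .leaf)) (.node 60265599120 1 (.node 59051837997 1 .leaf .leaf) (.node 60265599192 1 .leaf .leaf))))) (.node 60534042984 1 (.node 60399821088 1 (.node 60280314144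 1 (.node 60280312976 1 (.node 60265599336 1 .leaf .leaf) (.node 60280313560 1 .leaf .leaf)) (.node 60399820872 1 (.node 60280314728 1 .leaf .leaf) (.node 60399821016 1 .leaf .leaf))) (.node 60414568736 1 (.node 60414566984 1 (.node 60399821232 1 .leaf .leaf) (.node 60414568152 1 .leaf .leaf)) (.node 60534042696 1 (.node 60414569904 1 .leaf .leaf) (.node 60534042768 1 .leaf .leaf)))) (.node 60668264808 1 (.node 60548823912 1 (.node 60548821576 1 (.node 60534043056 1 .leaf .leaf) (.node 60548822160 1 .leaf .leaf)) (.node 60668264520 1 (.node 60548824496 1 .leaf .leaf) (.node 60668264592 1 .leaf .leaf))) (.node 60683078504 1 (.node 60683076168 1 (.node 60668264880 1 .leaf .leaf) (.node 60683076752 1 .leaf .leaf)) (.node 60802486344 1 (.node 60683079088 1 .leaf .leaf) .leaf))))) (.node 68100567186 1 (.node 67798569179 1 (.node 60936708312 1 (.node 60817331928 1 (.node 60802486704 1 (.node 60802486560 1 .leaf .leaf) (.node 60817330760 1 .leaf .leaf)) (.node 60817333680 1 (.node 60817332512 1 .leaf .leaf) (.node 60936708240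 1 .leaf .leaf))) (.node 60951586520 1 (.node 60936708456 1 (.node 60936708384 1 .leaf .leaf) (.node 60951585936 1 .leaf .leaf)) (.node 60951587688 1 (.node 60951587104 1 .leaf .leaf) (.node 67798569106 1 .leaf .leaf)))) (.node 67949568219 1 (.node 67811444251 1 (.node 67798569325 1 (.node 67798569252 1 .leaf .leaf) (.node 67811443730 1 .leaf .leaf)) (.node 67811445293 1 (.node 67811444772 1 .leaf .leaf) (.node 67949568073 1 .leaf .leaf))) (.node 67962471963 1 (.node 67949568438 1 (.node 67949568292 1 .leaf .leaf) (.node 67962470921 1 .leaf .leaf)) (.node 67962473526 1 (.node 67962472484 1 .leaf .leaf) (.node 68100567113 1 .leaf .leaf))))) (.node 68402565339 1 (.node 68251566226 1 (.node 68113499154 1 (.node 68100567478 1 (.node 68100567405 1 .leaf .leaf) (.node 68113498633 1 .leaf .leaf)) (.node 68113501238 1 (.node 68113500717 1 .leaf .leaf) (.node 68251566153 1 .leaf .leaf))) (.node 68264526866 1 (.node 68251566518 1 (.node 68251566445 1 .leaf .leaf) (.node 68264526345 1 .leaf .leaf)) (.node 68264528950 1 (.node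 68264528429 1 .leaf .leaf) (.node 68402565193 1 .leaf .leaf)))) (.node 68553564379 1 (.node 68415555099 1 (.node 68402565558 1 (.node 68402565412 1 .leaf .leaf) (.node 68415554057 1 .leaf .leaf)) (.node 68415556662 1 (.node 68415555620 1 .leaf .leaf) (.node 68553564306 1 .leaf .leaf))) (.node 68566582811 1 (.node 68553564525 1 (.node 68553564452 1 .leaf .leaf) (.node 68566582290 1 .leaf .leaf)) (.node 68566583853 1 (.node 68566583332 1 .leaf .leaf) .leaf))))))

/-- The normaliser of the first subgroup in the pattern `14`. -/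
def tdataL : TData :=
  ⟨[
  ([2, 3, 2], [0, 1, 4, 5, 2, 3, 6, 7, 8, 9, 12, 13, 10, 11, 14, 15, 32, 33, 36, 37, 34, 35, 38, 39, 40, 41, 44, 45, 42, 43, 46, 47, 16, 17, 20, 21, 18, 19, 22, 23, 24, 25, 28, 29, 26, 27, 30, 31, 48, 49, 52, 53, 50, 51, 54, 55, 56, 57, 60, 61, 58, 59, 62, 63], (17109057, 4472897, 1)),
  ([2, 0, 2], [0, 1, 2, 3, 7, 6, 5, 4, 8, 9, 10, 11, 15, 14, 13, 12, 16, 17, 18, 19, 23, 22, 21, 20, 24, 25, 26, 27, 31, 30, 29, 28, 56, 57, 58, 59, 63, 62, 61, 60, 48, 49, 50, 51, 55, 54, 53, 52, 40, 41, 42, 43, 47, 46, 45, 44, 32, 33, 34, 35, 39, 38, 37, 36], (17109061, 23334983, 1)),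
  ([1, 2, 1], [0, 1, 2, 3, 4, 5, 6, 7, 8, 9, 10, 11, 12, 13, 14, 15, 16, 17, 18, 19, 20, 21, 22, 23, 24, 25, 26, 27, 28, 29, 30, 31, 32, 33, 34, 35, 36, 37, 38, 39, 40, 41, 42, 43, 44, 45, 46, 47, 48, 49, 50, 51, 52, 53, 54, 55, 56, 57, 58, 59, 60, 61, 62, 63], (17764421, 17043521, 1)),
  ([0, 2, 0], [0, 9, 18, 27, 54, 63, 36, 45, 8, 1, 26, 19, 62, 55, 44, 37, 16, 25, 2, 11, 38, 47, 52, 61, 24, 17, 10, 3, 46, 39, 60, 53, 48, 57, 34, 43, 6, 15, 20, 29, 56, 49, 42, 35, 14, 7, 28, 21, 32, 41, 50, 59, 22, 31, 4, 13, 40, 33, 58, 51, 30, 23, 12, 5], (17043525, 21237839, 2)),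
  ([0, 1, 0, 1, 2, 0, 1, 0, 1, 4], [0, 18, 9, 27, 36, 54, 45, 63, 16, 2, 25, 11, 52, 38, 61, 47, 8, 26, 1, 19, 44, 62, 37, 55, 24, 10, 17, 3, 60, 46, 53, 39, 32, 50, 41, 59, 4, 22, 13, 31, 48, 34, 57, 43, 20, 6, 29, 15, 40, 58, 33, 51, 12, 30, 5, 23, 56, 42, 49, 35, 28, 14, 21, 7], (0, 0, 0)),
  ([1, 5, 1, 3, 2, 3], [0, 8, 16, 24, 32, 40, 48, 56, 9, 1, 25, 17, 41, 33, 57, 49, 18, 26, 2, 10, 50, 58, 34, 42, 27, 19, 11, 3, 59, 51, 43, 35, 36, 44, 52, 60, 4, 12, 20, 28, 45, 37, 61, 53, 13, 5, 29, 21, 54, 62, 38, 46, 22, 30, 6, 14, 63, 55, 47, 39, 31, 23, 15, 7], (0, 0, 0))],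
  34629230664, (.node 20082872393 1 (.node 6490235457 1 (.node 3312376068 1 tkeysL0 tkeysL1) (.node 9529749792 1 tkeysL2 tkeysL3)) (.node 43766997576 1 (.node 34503433648 1 tkeysL4 tkeysL5) (.node 58436628772 1 tkeysL6 tkeysL7)))⟩

end Cfsg.Agent.Fus.Transv
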